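import Mathlib.GroupTheory.GroupAction.MultipleTransitivity
import Mathlib.GroupTheory.Perm.Cycle.Type
import Mathlib.GroupTheory.Perm.Centralizer
import Mathlib.GroupTheory.Sylow
import Mathlib.Tactic

/-!
# Elementary facts on multiply transitive groups

The vocabulary of the Livingstone–Wagner development: transitivity on injective tuples, fixed point sets,
restrictions to invariant sets, lifts of even order.
-/

set_option autoImplicit false
set_option linter.style.haveILetI false
set_option linter.unusedSectionVars false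

namespace Cfsg.Lib.Perm.LW

open Equiv

variable {α : Type*} [Fintype α] [DecidableEq α]

omit [Fintype α] [DecidableEq α] in
/-- `G` is transitive on injective `k`-tuples. -/
def Tr (G : Subgroup (Perm α)) (k : ℕ) : Prop :=
  ∀ x y : Fin k → α, Function.Injective x → Function.Injective y → ∃ g ∈ G, ∀ i, g (x i) = y i

/-- The fixed points of a permutation. -/
def fixF (g : Perm α) : Finset α := g.supportᶜ

@[simp] theorem mem_fixF {g : Perm α} {x : α} : x ∈ fixF g ↔ g x = x := by
  simp [fixF]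

/-- No nontrivial element fixes more than `k` points. -/
def Semi (G : Subgroup (Perm α)) (k : ℕ) : Prop :=
  ∀ g ∈ G, g ≠ 1 → (fixF g).card ≤ k

omit [Fintype α] [DecidableEq α] in
theorem tr_iff {G : Subgroup (Perm α)} {k : ℕ} : Tr G k ↔ MulAction.IsMultiplyPretransitive G α k := by
  refine ⟨fun h => ⟨fun x y => ?_⟩, fun h x y hx hy => ?_⟩
  · obtain ⟨g, hg, hxy⟩ := h x y x.injective y.injective
    exact ⟨⟨g, hg⟩, Function.Embedding.ext hxy⟩
  · obtain ⟨g, hg⟩ := h.exists_smul_eq ⟨x, hx⟩ ⟨y, hy⟩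
    exact ⟨g, g.2, fun i => congrFun (congrArg (⇑) hg) i⟩

omit [DecidableEq α] in
/-- Injective tuples extend to longer ones. -/
theorem exists_extend {j k : ℕ} (hjk : j ≤ k) (hk : k ≤ Fintype.card α) (x : Fin j → α)
    (hx : Function.Injective x) : ∃ x' : Fin k → α, Function.Injective x' ∧ ∀ i, x' (Fin.castLE hjk i) = x i := by
  classical
  induction k, hjk using Nat.le_induction with
  | base => exact ⟨x, hx, fun i => rfl⟩
  | succ k hjk ih =>
    obtain ⟨x', hx', hxx⟩ := ih (by omega)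
    obtain ⟨y, hy⟩ : ∃ y, y ∉ Finset.univ.image x' := by
      by_contra hall
      push Not at hall
      have h1 := congrArg Finset.card (Finset.eq_univ_of_forall hall)
      rw [Finset.card_image_of_injective _ hx', Finset.card_univ, Fintype.card_fin, Finset.card_univ] at h1
      omega
    refine ⟨Fin.snoc x' y, Fin.snoc_injective_of_injective hx' (fun ⟨i, hi⟩ => hy ?_), fun i => ?_⟩
    · exact Finset.mem_image.2 ⟨i, Finset.mem_univ _, hi⟩
    · rw [show Fin.castLE _ i = (Fin.castLE hjk i).castSucc from rfl, Fin.snoc_castSucc, hxx]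

omit [DecidableEq α] in
theorem Tr.mono {G : Subgroup (Perm α)} {k : ℕ} (h : Tr G k) {j : ℕ} (hjk : j ≤ k) (hk : k ≤ Fintype.card α) :
    Tr G j := by
  intro x y hx hy
  obtain ⟨x', hx', hxx⟩ := exists_extend hjk hk x hx
  obtain ⟨y', hy', hyy⟩ := exists_extend hjk hk y hy
  obtain ⟨g, hg, hxy⟩ := h x' y' hx' hy'
  exact ⟨g, hg, fun i => by rw [← hxx, hxy, hyy]⟩

omit [Fintype α] [DecidableEq α] in
/-- Four-transitivity on explicit quadruples. -/
theorem Tr.map4 {G : Subgroup (Perm α)} (h : Tr G 4) {a b c d a' b' c' d' : α} (h1 : [a, b, c, d].Nodup)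
    (h2 : [a', b', c', d'].Nodup) : ∃ g ∈ G, g a = a' ∧ g b = b' ∧ g c = c' ∧ g d = d' := by
  obtain ⟨g, hg, hxy⟩ := h ![a, b, c, d] ![a', b', c', d']
    (by simp only [List.nodup_cons, List.mem_cons, List.not_mem_nil, or_false, not_or] at h1
        intro i j hij; fin_cases i <;> fin_cases j <;> simp_all [eq_comm])
    (by simp only [List.nodup_cons, List.mem_cons, List.not_mem_nil, or_false, not_or] at h2
        intro i j hij; fin_cases i <;> fin_cases j <;> simp_all [eq_comm])
  exact ⟨g, hg, hxy 0, hxy 1, hxy 2, hxy 3⟩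

/-- The even part of an element: a power of `2`-power order agreeing with it wherever its square is trivial. -/
theorem exists_two_part (g : Perm α) :
    ∃ o : ℕ, Odd o ∧ ∃ e : ℕ, (g ^ o) ^ 2 ^ e = 1 ∧ ∀ x, g (g x) = x → (g ^ o) x = g x := by
  obtain ⟨e, o, ho, hord⟩ := Nat.exists_eq_pow_mul_and_not_dvd (orderOf_pos g).ne' 2 (by norm_num)
  obtain ⟨i, rfl⟩ : Odd o := Nat.odd_iff.2 (by omega)
  refine ⟨2 * i + 1, odd_two_mul_add_one i, e, by rw [← pow_mul, mul_comm, ← hord, pow_orderOf_eq_one], fun x hx => ?_⟩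
  clear hord ho
  induction i with
  | zero => simp
  | succ i ih =>
    rw [show 2 * (i + 1) + 1 = 2 + (2 * i + 1) by ring, pow_add, Perm.mul_apply, ih, pow_two, Perm.mul_apply]
    exact congrArg g hx

/-- An involution fixes a number of points congruent to the degree modulo two. -/
theorem even_card_sub_fixF {g : Perm α} (hg : g ^ 2 = 1) : Fintype.card α % 2 = (fixF g).card % 2 := by
  haveI : Fact (Nat.Prime 2) := ⟨Nat.prime_two⟩
  exact (Equiv.Perm.card_compl_support_modEq (n := 1) (σ := g) (by simpa using hg)).symm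

/-- An involution preserving a set fixes a number of its points congruent to its size modulo two. -/
theorem card_inter_fixF_mod {g : Perm α} (hg : g ^ 2 = 1) {S : Finset α} (hS : ∀ x, g x ∈ S ↔ x ∈ S) :
    S.card % 2 = (S ∩ fixF g).card % 2 := by
  haveI : Fact (Nat.Prime 2) := ⟨Nat.prime_two⟩
  let τ : Perm {x // x ∈ S} := g.subtypePerm hS
  have hτ : τ ^ 2 ^ 1 = 1 := by
    refine Equiv.ext fun x => Subtype.ext ?_
    simp [τ, Equiv.Perm.subtypePerm_pow, hg]
  have h1 := Equiv.Perm.card_compl_support_modEq hτ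
  rw [Fintype.card_coe] at h1
  have h2 : τ.supportᶜ.map (Function.Embedding.subtype fun x => x ∈ S) = S ∩ fixF g := by
    ext z
    simp only [Finset.mem_map, Finset.mem_compl, Perm.mem_support, Function.Embedding.coe_subtype, ne_eq,
      not_not, Finset.mem_inter, mem_fixF]
    constructor
    · rintro ⟨w, hw, rfl⟩
      exact ⟨w.2, congrArg Subtype.val hw⟩
    · rintro ⟨h1, h2⟩
      exact ⟨⟨z, h1⟩, Subtype.ext h2, rfl⟩
  rw [← h2, Finset.card_map]
  exact h1.symm

theorem inv_apply_of_fix {g : Perm α} {x : α} (h : g x = x) : g⁻¹ x = x :=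
  Perm.inv_eq_iff_eq.2 h.symm

/-- Fixed points of a conjugate. -/
theorem fixF_conj (h g : Perm α) : fixF (h * g * h⁻¹) = (fixF g).map h.toEmbedding := by
  ext x
  simp only [mem_fixF, Finset.mem_map, Equiv.coe_toEmbedding]
  constructor
  · intro hx
    exact ⟨h⁻¹ x, h.injective (by simpa using hx), by simp⟩
  · rintro ⟨y, hy, rfl⟩
    simp [hy]

theorem card_fixF_conj (h g : Perm α) : (fixF (h * g * h⁻¹)).card = (fixF g).card := by
  rw [fixF_conj, Finset.card_map]

/-- The pointwise stabilizer of a finite set. -/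
def pstab (G : Subgroup (Perm α)) (A : Finset α) : Subgroup (Perm α) where
  carrier := {g | g ∈ G ∧ ∀ x ∈ A, g x = x}
  one_mem' := ⟨G.one_mem, fun x _ => rfl⟩
  mul_mem' := fun {g h} hg hh => ⟨G.mul_mem hg.1 hh.1, fun x hx => by rw [Perm.mul_apply, hh.2 x hx, hg.2 x hx]⟩
  inv_mem' := fun {g} hg => ⟨G.inv_mem hg.1, fun x hx => inv_apply_of_fix (hg.2 x hx)⟩

theorem mem_pstab {G : Subgroup (Perm α)} {A : Finset α} {g : Perm α} :
    g ∈ pstab G A ↔ g ∈ G ∧ ∀ x ∈ A, g x = x := Iff.rfl

theorem pstab_le (G : Subgroup (Perm α)) (A : Finset α) : pstab G A ≤ G := fun _ h => h.1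

theorem mem_pstab_conj {G : Subgroup (Perm α)} {A : Finset α} {h r : Perm α} (hh : h ∈ G)
    (hA : ∀ x ∈ A, h⁻¹ x ∈ A) (hr : r ∈ pstab G A) : h * r * h⁻¹ ∈ pstab G A :=
  ⟨G.mul_mem (G.mul_mem hh hr.1) (G.inv_mem hh), fun x hx => by
    rw [Perm.mul_apply, Perm.mul_apply, hr.2 _ (hA x hx), ← Perm.mul_apply, mul_inv_cancel, Perm.one_apply]⟩

/-- The group induced on a set by the elements preserving it. -/
def restr (G : Subgroup (Perm α)) (F : Finset α) : Subgroup (Perm ↥F) where
  carrier := {σ | ∃ g ∈ G, ∀ x : ↥F, g (x : α) = σ x}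
  one_mem' := ⟨1, G.one_mem, fun _ => rfl⟩
  mul_mem' := fun {σ τ} ⟨g, hg, hgσ⟩ ⟨h, hh, hhτ⟩ => ⟨g * h, G.mul_mem hg hh, fun x => by
    rw [Perm.mul_apply, hhτ, hgσ]; rfl⟩
  inv_mem' := fun {σ} ⟨g, hg, hgσ⟩ => ⟨g⁻¹, G.inv_mem hg, fun x => by
    rw [Perm.inv_eq_iff_eq, hgσ]
    simp⟩

/-- An element preserving `F` induces one on `F`. -/
theorem exists_mem_restr {G : Subgroup (Perm α)} {F : Finset α} {g : Perm α} (hg : g ∈ G)
    (hF : ∀ x ∈ F, g x ∈ F) : ∃ σ ∈ restr G F, ∀ x : ↥F, g (x : α) = σ x := by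
  have hinj : Function.Injective (fun x : ↥F => (⟨g x, hF x x.2⟩ : ↥F)) := fun x y h =>
    Subtype.ext (g.injective (congrArg Subtype.val h))
  exact ⟨Equiv.ofBijective _ ((Finite.injective_iff_bijective).1 hinj), ⟨g, hg, fun _ => rfl⟩, fun _ => rfl⟩

/-- The order of a transitive group: the degree times a point stabilizer, iterated. -/
theorem card_pstab_insert {G : Subgroup (Perm α)} {A : Finset α} {y : α}
    (h : ∀ z : α, z ∉ A → ∃ g ∈ pstab G A, g y = z) (hy : y ∉ A) :
    Nat.card (pstab G A) = (Fintype.card α - A.card) * Nat.card (pstab G (insert y A)) := by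
  classical
  let O : Finset α := Aᶜ
  have hO : O.card = Fintype.card α - A.card := Finset.card_compl A
  letI := Fintype.ofFinite (pstab G A)
  have hmap : ∀ g : pstab G A, (g : Perm α) y ∈ O := by
    intro g
    simp only [O, Finset.mem_compl]
    intro hmem
    exact hy ((g : Perm α).injective (g.2.2 _ hmem) ▸ hmem)
  rw [Nat.card_eq_fintype_card, ← Finset.card_univ,
    Finset.card_eq_sum_card_fiberwise (f := fun g : pstab G A => (g : Perm α) y) (t := O) (fun g _ => hmap g)]
  rw [Finset.sum_const_nat (m := Nat.card (pstab G (insert y A))), hO]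
  intro z hz
  obtain ⟨g₀, hg₀, hg₀z⟩ := h z (Finset.mem_compl.1 hz)
  have e : {g : pstab G A // (g : Perm α) y = z} ≃ pstab G (insert y A) :=
    { toFun := fun g => ⟨g₀⁻¹ * (g.1 : Perm α), G.mul_mem (G.inv_mem hg₀.1) g.1.2.1, fun x hx => by
        rcases Finset.mem_insert.1 hx with rfl | hx
        · rw [Perm.mul_apply, g.2, Perm.inv_eq_iff_eq, hg₀z]
        · rw [Perm.mul_apply, g.1.2.2 x hx, inv_apply_of_fix (hg₀.2 x hx)]⟩
      invFun := fun r => ⟨⟨g₀ * (r : Perm α), G.mul_mem hg₀.1 r.2.1, fun x hx => by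
          rw [Perm.mul_apply, r.2.2 x (Finset.mem_insert_of_mem hx), hg₀.2 x hx]⟩, by
        show g₀ ((r : Perm α) y) = z
        rw [r.2.2 y (Finset.mem_insert_self _ _), hg₀z]⟩
      left_inv := fun g => by ext; simp
      right_inv := fun r => by ext; simp }
  rw [← Nat.card_congr e, Nat.card_eq_fintype_card, Fintype.card_subtype]

end Cfsg.Lib.Perm.LW
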