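import Cfsg.Agent.Lib.Perm.LW.Basic
import Mathlib.GroupTheory.GroupAction.SubMulAction.Combination
import Mathlib.GroupTheory.GroupAction.Quotient
import Mathlib.Data.Fintype.CardEmbedding

/-!
# Homogeneity

Counting lemmas for groups transitive on sets of a given size.
-/

set_option autoImplicit false
set_option linter.style.haveILetI false
set_option linter.unusedSectionVars false

namespace Cfsg.Lib.Perm.LW

open Equiv
open scoped Pointwise

variable {α : Type*} [Fintype α] [DecidableEq α]

/-- `G` is transitive on sets of `k` points. -/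
def Hom (G : Subgroup (Perm α)) (k : ℕ) : Prop :=
  ∀ A B : Finset α, A.card = k → B.card = k → ∃ g ∈ G, A.map g.toEmbedding = B

variable {G : Subgroup (Perm α)} {k : ℕ}

theorem smul_eq_map (g : G) (A : Finset α) : g • A = A.map (g : Perm α).toEmbedding := by
  rw [Finset.smul_finset_def, Finset.map_eq_image]
  rfl

theorem hom_iff : Hom G k ↔ MulAction.IsPretransitive G (Set.powersetCard α k) := by
  refine ⟨fun h => ⟨fun s t => ?_⟩, fun h A B hA hB => ?_⟩
  · obtain ⟨g, hg, he⟩ := h s t s.2 t.2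
    refine ⟨⟨g, hg⟩, Subtype.ext ?_⟩
    show (⟨g, hg⟩ : G) • (s : Finset α) = t
    rw [smul_eq_map]
    exact he
  · obtain ⟨g, hg⟩ := h.exists_smul_eq (Set.powersetCard.ofCard hA) (Set.powersetCard.ofCard hB)
    refine ⟨g, g.2, ?_⟩
    have := congrArg Subtype.val hg
    rw [← smul_eq_map]
    exact this

theorem Tr.hom (h : Tr G k) : Hom G k := by
  intro A B hA hB
  let eA := (Finset.equivFinOfCardEq hA).symm
  let eB := (Finset.equivFinOfCardEq hB).symm
  obtain ⟨g, hg, hgx⟩ := h (fun i => (eA i : α)) (fun i => (eB i : α))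
    (Subtype.val_injective.comp eA.injective) (Subtype.val_injective.comp eB.injective)
  refine ⟨g, hg, Finset.eq_of_subset_of_card_le (fun z hz => ?_) (by rw [Finset.card_map, hA, hB])⟩
  obtain ⟨w, hw, rfl⟩ := Finset.mem_map.1 hz
  obtain ⟨i, hi⟩ := eA.surjective ⟨w, hw⟩
  have h1 := hgx i
  rw [hi] at h1
  show g w ∈ B
  rw [h1]
  exact (eB i).2

theorem mem_pstab_map {g r : Perm α} (hg : g ∈ G) {A : Finset α} :
    g * r * g⁻¹ ∈ pstab G (A.map g.toEmbedding) ↔ r ∈ pstab G A := by
  constructor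
  · rintro ⟨h1, h2⟩
    refine ⟨?_, fun x hx => ?_⟩
    · have := G.mul_mem (G.mul_mem (G.inv_mem hg) h1) hg
      simpa [mul_assoc] using this
    · have := h2 (g x) (Finset.mem_map_of_mem g.toEmbedding hx)
      simpa using this
  · rintro ⟨h1, h2⟩
    refine ⟨G.mul_mem (G.mul_mem hg h1) (G.inv_mem hg), fun x hx => ?_⟩
    obtain ⟨w, hw, rfl⟩ := Finset.mem_map.1 hx
    simp [h2 w hw]

theorem card_pstab_map {g : Perm α} (hg : g ∈ G) (A : Finset α) :
    Nat.card (pstab G (A.map g.toEmbedding)) = Nat.card (pstab G A) :=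
  (Nat.card_congr (α := pstab G A) (β := pstab G (A.map g.toEmbedding))
    { toFun := fun r : pstab G A => ⟨g * r * g⁻¹, (mem_pstab_map hg).2 r.2⟩
      invFun := fun s => ⟨g⁻¹ * (s : Perm α) * g, (mem_pstab_map hg).1 (by simp [mul_assoc])⟩
      left_inv := fun r => Subtype.ext (by simp [mul_assoc])
      right_inv := fun s => Subtype.ext (by simp [mul_assoc]) }).symm

theorem Hom.card_pstab (h : Hom G k) {A B : Finset α} (hA : A.card = k) (hB : B.card = k) :
    Nat.card (pstab G A) = Nat.card (pstab G B) := by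
  obtain ⟨g, hg, rfl⟩ := h A B hA hB
  rw [card_pstab_map hg]

/-- The orbit of a point under a pointwise stabilizer. -/
noncomputable def orb (G : Subgroup (Perm α)) (A : Finset α) (z : α) : Finset α :=
  @Finset.filter _ (fun w => ∃ r ∈ pstab G A, r z = w) (fun _ => Classical.propDecidable _) Finset.univ

theorem mem_orb {A : Finset α} {z w : α} : w ∈ orb G A z ↔ ∃ r ∈ pstab G A, r z = w := by
  simp [orb]

theorem self_mem_orb (A : Finset α) (z : α) : z ∈ orb G A z :=
  mem_orb.2 ⟨1, (pstab G A).one_mem, rfl⟩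

theorem orb_eq {A : Finset α} {z w : α} (h : w ∈ orb G A z) : orb G A w = orb G A z := by
  obtain ⟨r, hr, rfl⟩ := mem_orb.1 h
  ext v
  simp only [mem_orb]
  refine ⟨fun ⟨s, hs, he⟩ => ⟨s * r, (pstab G A).mul_mem hs hr, he⟩, fun ⟨s, hs, he⟩ =>
    ⟨s * r⁻¹, (pstab G A).mul_mem hs ((pstab G A).inv_mem hr), ?_⟩⟩
  rw [Perm.mul_apply, ← Perm.mul_apply r⁻¹, inv_mul_cancel, Perm.one_apply, he]

theorem orb_disjoint_self {A : Finset α} {z : α} (hz : z ∉ A) : ∀ w ∈ orb G A z, w ∉ A := by
  intro w hw hwA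
  obtain ⟨r, hr, rfl⟩ := mem_orb.1 hw
  exact hz (r.injective (hr.2 _ hwA) ▸ hwA)

/-- Orbit times stabilizer. -/
theorem card_orb_mul (A : Finset α) (z : α) :
    (orb G A z).card * Nat.card (pstab G (insert z A)) = Nat.card (pstab G A) := by
  classical
  letI := Fintype.ofFinite (pstab G A)
  conv_rhs =>
    rw [Nat.card_eq_fintype_card, ← Finset.card_univ,
      Finset.card_eq_sum_card_fiberwise (f := fun g : pstab G A => (g : Perm α) z) (t := orb G A z)
        (fun g _ => mem_orb.2 ⟨g, g.2, rfl⟩)]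
  rw [Finset.sum_const_nat (m := Nat.card (pstab G (insert z A)))]
  intro w hw
  obtain ⟨g₀, hg₀, hg₀z⟩ := mem_orb.1 hw
  have e : {g : pstab G A // (g : Perm α) z = w} ≃ pstab G (insert z A) :=
    { toFun := fun g => ⟨g₀⁻¹ * (g.1 : Perm α), G.mul_mem (G.inv_mem hg₀.1) g.1.2.1, fun x hx => by
        rcases Finset.mem_insert.1 hx with rfl | hx
        · rw [Perm.mul_apply, g.2, Perm.inv_eq_iff_eq, hg₀z]
        · rw [Perm.mul_apply, g.1.2.2 x hx, inv_apply_of_fix (hg₀.2 x hx)]⟩
      invFun := fun r => ⟨⟨g₀ * (r : Perm α), G.mul_mem hg₀.1 r.2.1, fun x hx => by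
          rw [Perm.mul_apply, r.2.2 x (Finset.mem_insert_of_mem hx), hg₀.2 x hx]⟩, by
        show g₀ ((r : Perm α) z) = w
        rw [r.2.2 z (Finset.mem_insert_self _ _), hg₀z]⟩
      left_inv := fun g => by ext; simp
      right_inv := fun r => by ext; simp }
  rw [← Nat.card_congr e, Nat.card_eq_fintype_card, Fintype.card_subtype]

/-- A union of orbits of one size has a size divisible by it. -/
theorem dvd_card_of_orbs {A S : Finset α} {L : ℕ} (hS : ∀ z ∈ S, orb G A z ⊆ S)
    (hL : ∀ z ∈ S, (orb G A z).card = L) : L ∣ S.card := by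
  classical
  rw [Finset.card_eq_sum_card_fiberwise (f := orb G A) (t := S.image (orb G A))
    (fun z hz => Finset.mem_image_of_mem _ hz)]
  refine Finset.dvd_sum fun O hO => ?_
  obtain ⟨z, hz, rfl⟩ := Finset.mem_image.1 hO
  rw [show (S.filter fun w => orb G A w = orb G A z) = orb G A z from ?_, hL z hz]
  ext w
  simp only [Finset.mem_filter]
  exact ⟨fun h => h.2 ▸ self_mem_orb A w, fun h => ⟨hS z hz h, orb_eq h⟩⟩

/-- The order of a multiply transitive group. -/
theorem Tr.card_eq (h : Tr G k) {x : Fin k ↪ α} :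
    Nat.card G = (Fintype.card α).descFactorial k * Nat.card (pstab G (Finset.univ.image x)) := by
  haveI : MulAction.IsPretransitive G (Fin k ↪ α) := tr_iff.1 h
  have h1 := (MulAction.stabilizer G x).card_mul_index
  rw [@MulAction.index_stabilizer_of_transitive _ _ _ _ x this, Nat.card_eq_fintype_card (α := Fin k ↪ α),
    Fintype.card_embedding_eq, Fintype.card_fin] at h1
  rw [← h1, mul_comm]
  congr 1
  refine Nat.card_congr
    { toFun := fun g => ⟨((g : G) : Perm α), (g : G).2, fun z hz => ?_⟩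
      invFun := fun r => ⟨⟨r, r.2.1⟩, Function.Embedding.ext fun i =>
        r.2.2 _ (Finset.mem_image_of_mem _ (Finset.mem_univ i))⟩
      left_inv := fun g => rfl
      right_inv := fun r => rfl }
  obtain ⟨i, -, rfl⟩ := Finset.mem_image.1 hz
  exact congrFun (congrArg (⇑) (g.2 : (g : G) • x = x)) i

/-- A group transitive on the sets of a size has order divisible by their number. -/
theorem Hom.choose_dvd (h : Hom G k) (hk : k ≤ Fintype.card α) : (Fintype.card α).choose k ∣ Nat.card G := by
  classical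
  haveI := hom_iff.1 h
  obtain ⟨A, -, hA⟩ := Finset.exists_subset_card_eq (s := (Finset.univ : Finset α)) (n := k)
    (by rwa [Finset.card_univ])
  have h1 := MulAction.index_stabilizer_of_transitive G (Set.powersetCard.ofCard hA)
  rw [Set.powersetCard.card, Nat.card_eq_fintype_card] at h1
  exact h1 ▸ Subgroup.index_dvd_card _

end Cfsg.Lib.Perm.LW
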