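import Cfsg.Agent.Lib.Perm.LW.Induced
import Cfsg.Agent.Lib.Perm.LW.Hom

/-!
# The step of Livingstone and Wagner

A `j`-homogeneous and `(j - 1)`-transitive group of degree at least `2j` is `j`-transitive when `5 ≤ j`.
-/

set_option autoImplicit false
set_option linter.style.haveILetI false
set_option linter.unusedSectionVars false

universe u

namespace Cfsg.Lib.Perm.LW

open Equiv

/-- A group of odd order normalised by a four group is generated by the centralisers of the involutions. -/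
theorem le_of_four_group {M : Type*} [Group M] {R S : Subgroup M} [Finite R] (hodd : Odd (Nat.card R)) {g v : M}
    (hg : g * g = 1) (hv : v * v = 1) (hgv : g * v = v * g)
    (hgR : ∀ r ∈ R, g * r * g⁻¹ ∈ R) (hvR : ∀ r ∈ R, v * r * v⁻¹ ∈ R)
    (h1 : ∀ r ∈ R, g * r * g⁻¹ = r → r ∈ S) (h2 : ∀ r ∈ R, v * r * v⁻¹ = r → r ∈ S)
    (h3 : ∀ r ∈ R, g * v * r * (g * v)⁻¹ = r → r ∈ S) : R ≤ S := by
  obtain ⟨m, hm⟩ := hodd
  have hsq : ∀ r ∈ R, r ^ (m + 1) * r ^ (m + 1) = r := by
    intro r hr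
    have h : (⟨r, hr⟩ : R) ^ Nat.card R = 1 := pow_card_eq_one'
    have h' : r ^ (2 * m + 1) = 1 := by rw [← hm]; exact congrArg Subtype.val h
    rw [← pow_add, show m + 1 + (m + 1) = (2 * m + 1) + 1 by ring, pow_succ, h', one_mul]
  have conj_inv : ∀ i r : M, i * r⁻¹ * i⁻¹ = (i * r * i⁻¹)⁻¹ := fun i r => by group
  have gg : ∀ r : M, g * (g * r * g⁻¹) * g⁻¹ = r := fun r => by
    rw [show g * (g * r * g⁻¹) * g⁻¹ = g * g * r * (g * g)⁻¹ by simp [mul_assoc], hg]
    simp
  have vv : ∀ r : M, v * (v * r * v⁻¹) * v⁻¹ = r := fun r => by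
    rw [show v * (v * r * v⁻¹) * v⁻¹ = v * v * r * (v * v)⁻¹ by simp [mul_assoc], hv]
    simp
  have key : ∀ y ∈ R, g * y * g⁻¹ = y⁻¹ → y ∈ S := by
    intro y hy hgy
    obtain ⟨t, ht⟩ : ∃ t, t = v * y * v⁻¹ := ⟨_, rfl⟩
    have htR : t ∈ R := ht ▸ hvR y hy
    have hgt : g * t * g⁻¹ = t⁻¹ := by
      rw [ht, show g * (v * y * v⁻¹) * g⁻¹ = g * v * y * (g * v)⁻¹ by simp [mul_assoc], hgv,
        show v * g * y * (v * g)⁻¹ = v * (g * y * g⁻¹) * v⁻¹ by simp [mul_assoc], hgy, conj_inv]
    obtain ⟨q, hq⟩ : ∃ q, q = (t * y) ^ (m + 1) := ⟨_, rfl⟩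
    have hqq : q * q = t * y := hq ▸ hsq _ (R.mul_mem htR hy)
    have hqR : q ∈ R := hq ▸ R.pow_mem (R.mul_mem htR hy) _
    set X := t⁻¹ * q with hX
    have hXR : X ∈ R := R.mul_mem (R.inv_mem htR) hqR
    have hXtX : X * t * X = y := by
      rw [hX, show t⁻¹ * q * t * (t⁻¹ * q) = t⁻¹ * (q * q) by simp [mul_assoc], hqq, inv_mul_cancel_left]
    have hgX : g * X * g⁻¹ = X⁻¹ := by
      rw [hX, hq, show g * (t⁻¹ * (t * y) ^ (m + 1)) * g⁻¹ = (g * t⁻¹ * g⁻¹) * (g * (t * y) ^ (m + 1) * g⁻¹) by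
        simp [mul_assoc], conj_inv, hgt, inv_inv, ← conj_pow,
        show g * (t * y) * g⁻¹ = (g * t * g⁻¹) * (g * y * g⁻¹) by simp [mul_assoc], hgt, hgy, mul_inv_rev,
        inv_inv, show t⁻¹ * y⁻¹ = t⁻¹ * (t * y)⁻¹ * t⁻¹⁻¹ by simp [mul_assoc], conj_pow, inv_pow]
      simp [mul_assoc]
    have hvX : v * X * v⁻¹ = X⁻¹ := by
      have hyt : v * t * v⁻¹ = y := ht ▸ vv y
      rw [hX, hq, show v * (t⁻¹ * (t * y) ^ (m + 1)) * v⁻¹ = (v * t⁻¹ * v⁻¹) * (v * (t * y) ^ (m + 1) * v⁻¹) by
        simp [mul_assoc], conj_inv, hyt, ← conj_pow,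
        show v * (t * y) * v⁻¹ = (v * t * v⁻¹) * (v * y * v⁻¹) by simp [mul_assoc], hyt, ← ht,
        show y * t = t⁻¹ * (t * y) * t⁻¹⁻¹ by simp [mul_assoc], conj_pow, ← hq, mul_inv_rev, inv_inv]
      have h4 : (t * y)⁻¹ * q = q⁻¹ := by rw [← hqq]; simp
      rw [← h4]
      simp [mul_assoc]
    set a := X ^ (m + 1) with ha
    have haa : a * a = X := hsq _ hXR
    have haR : a ∈ R := R.pow_mem hXR _
    have hga : g * a * g⁻¹ = a⁻¹ := by rw [ha, ← conj_pow, hgX, inv_pow]
    have hva : v * a * v⁻¹ = a⁻¹ := by rw [ha, ← conj_pow, hvX, inv_pow]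
    have haS : a ∈ S := h3 a haR (by
      rw [show g * v * a * (g * v)⁻¹ = g * (v * a * v⁻¹) * g⁻¹ by simp [mul_assoc], hva, conj_inv, hga, inv_inv])
    set b := a⁻¹ * y * a⁻¹ with hb
    have hbS : b ∈ S := h2 b (R.mul_mem (R.mul_mem (R.inv_mem haR) hy) (R.inv_mem haR)) (by
      rw [hb, show v * (a⁻¹ * y * a⁻¹) * v⁻¹ = (v * a * v⁻¹)⁻¹ * (v * y * v⁻¹) * (v * a * v⁻¹)⁻¹ by
        simp [mul_assoc], hva, inv_inv, ← ht]
      conv_rhs => rw [← hXtX, ← haa]
      simp [mul_assoc])
    have hy' : y = a * b * a := by simp [hb, mul_assoc]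
    rw [hy']
    exact S.mul_mem (S.mul_mem haS hbS) haS
  intro r hr
  obtain ⟨z, hz⟩ : ∃ z, z = r⁻¹ * (g * r * g⁻¹) := ⟨_, rfl⟩
  have hzR : z ∈ R := hz ▸ R.mul_mem (R.inv_mem hr) (hgR r hr)
  have hgz : g * z * g⁻¹ = z⁻¹ := by
    rw [hz, show g * (r⁻¹ * (g * r * g⁻¹)) * g⁻¹ = (g * r * g⁻¹)⁻¹ * (g * (g * r * g⁻¹) * g⁻¹) by
      simp [mul_assoc], gg]
    simp [mul_assoc]
  set y := z ^ (m + 1) with hy
  have hgy : g * y * g⁻¹ = y⁻¹ := by rw [hy, ← conj_pow, hgz, inv_pow]
  have hyy : y * y = z := hsq _ hzR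
  have hc : r * y ∈ S := h1 _ (R.mul_mem hr (R.pow_mem hzR _)) (by
    rw [show g * (r * y) * g⁻¹ = r * (r⁻¹ * (g * r * g⁻¹)) * (g * y * g⁻¹) by simp [mul_assoc], ← hz, ← hyy, hgy]
    simp [mul_assoc])
  simpa using S.mul_mem hc (S.inv_mem (key y (R.pow_mem hzR _) hgy))

variable {α : Type u} [Fintype α] [DecidableEq α] {G : Subgroup (Perm α)}

/-- An odd number of swaps of a set of the right size is not induced. -/
theorem tr_of_odd {j : ℕ} (hH : Hom G j) {Δ : Finset α} (hΔ : Δ.card = j)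
    (halt : alternatingGroup ↥Δ ≤ restr G Δ) {σ : Perm ↥Δ} (hσ : σ ∈ restr G Δ) (hodd : Perm.sign σ ≠ 1) :
    Tr G j := by
  classical
  have htop : ∀ τ : Perm ↥Δ, τ ∈ restr G Δ := by
    intro τ
    rcases Int.units_eq_one_or (Perm.sign τ) with h | h
    · exact halt (Equiv.Perm.mem_alternatingGroup.2 h)
    · have h1 : τ * σ ∈ restr G Δ := halt (Equiv.Perm.mem_alternatingGroup.2 (by
        rw [map_mul, h, (Int.units_eq_one_or _).resolve_left hodd]; rfl))
      simpa using (restr G Δ).mul_mem h1 ((restr G Δ).inv_mem hσ)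
  intro x y hx hy
  have hmove : ∀ w : Fin j → α, Function.Injective w → ∃ g ∈ G, ∀ i, g (w i) ∈ Δ := by
    intro w hw
    obtain ⟨g, hg, he⟩ := hH (Finset.univ.image w) Δ
      (by rw [Finset.card_image_of_injective _ hw, Finset.card_univ, Fintype.card_fin]) hΔ
    exact ⟨g, hg, fun i => he ▸ Finset.mem_map_of_mem g.toEmbedding (Finset.mem_image_of_mem _ (Finset.mem_univ i))⟩
  obtain ⟨g, hg, hgx⟩ := hmove x hx
  obtain ⟨g', hg', hgy⟩ := hmove y hy
  let ex : Fin j ≃ ↥Δ := Equiv.ofBijective (fun i => ⟨g (x i), hgx i⟩)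
    ((Fintype.bijective_iff_injective_and_card _).2
      ⟨fun a b h => hx (g.injective (Subtype.ext_iff.1 h :)), by simp [hΔ]⟩)
  let ey : Fin j ≃ ↥Δ := Equiv.ofBijective (fun i => ⟨g' (y i), hgy i⟩)
    ((Fintype.bijective_iff_injective_and_card _).2
      ⟨fun a b h => hy (g'.injective (Subtype.ext_iff.1 h :)), by simp [hΔ]⟩)
  obtain ⟨r, hr, hrσ⟩ := htop (ex.symm.trans ey)
  refine ⟨g'⁻¹ * r * g, G.mul_mem (G.mul_mem (G.inv_mem hg') hr) hg, fun i => ?_⟩
  have h1 := hrσ (ex i)
  rw [Equiv.trans_apply, Equiv.symm_apply_apply] at h1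
  rw [Perm.mul_apply, Perm.mul_apply, show r (g (x i)) = g' (y i) from h1, Perm.inv_eq_iff_eq]

/-- Elements of odd order fix points that they can only exchange in pairs. -/
theorem fix_of_pair {r : Perm α} (hr : Odd (orderOf r)) {c d : α} (hc : r c = c ∨ r c = d)
    (hd : r d = c ∨ r d = d) : r c = c := by
  rcases hc with hc | hc
  · exact hc
  rcases eq_or_ne c d with rfl | hcd
  · exact hc
  have hdc : r d = c := hd.resolve_right fun h => hcd (r.injective (hc.trans h.symm))
  obtain ⟨m, hm⟩ := hr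
  have h2 : (r ^ 2) c = c := by rw [pow_two, Perm.mul_apply, hc, hdc]
  have h3 : (r ^ (2 * m)) c = c := by
    rw [pow_mul]; exact Perm.pow_apply_eq_self_of_apply_eq_self h2 m
  have h4 : (r ^ (2 * m + 1)) c = c := by rw [← hm, pow_orderOf_eq_one]; rfl
  rw [pow_succ', Perm.mul_apply, h3] at h4
  exact h4

/-- A power of an element that has two power order and agrees with it where its fourth power is trivial. -/
theorem exists_two_part' (g : Perm α) :
    ∃ N : ℕ, (∃ e : ℕ, (g ^ N) ^ 2 ^ e = 1) ∧ ∀ x, g (g (g (g x))) = x → (g ^ N) x = g x := by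
  obtain ⟨e, o, ho, hord⟩ := Nat.exists_eq_pow_mul_and_not_dvd (orderOf_pos g).ne' 2 (by norm_num)
  refine ⟨o * o, ⟨e, ?_⟩, fun x hx => ?_⟩
  · rw [← pow_mul, show o * o * 2 ^ e = 2 ^ e * o * o by ring, pow_mul, ← hord, pow_orderOf_eq_one, one_pow]
  · obtain ⟨i, rfl⟩ : Odd o := Nat.odd_iff.2 (by omega)
    rw [show (2 * i + 1) * (2 * i + 1) = 4 * (i * i + i) + 1 by ring, pow_succ', Perm.mul_apply, pow_mul,
      Perm.pow_apply_eq_self_of_apply_eq_self (by simpa [pow_succ, Perm.mul_apply] using hx)]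

/-- Involutions `s` and `s'` agreeing on the four points are conjugate under the stabilizer of odd order. -/
theorem exists_conj {R : Subgroup (Perm α)} (hodd : Odd (Nat.card R)) {s s' : Perm α} (hs : s * s = 1)
    (hs' : s' * s' = 1) (he : s' * s ∈ R) : ∃ r ∈ R, r * s * r⁻¹ = s' := by
  obtain ⟨m, hm⟩ := hodd
  set e := s' * s with hedef
  have he1 : e ^ (2 * m + 1) = 1 := by
    rw [← hm]
    exact congrArg Subtype.val (pow_card_eq_one' (x := (⟨e, he⟩ : R)))
  have hse : s * e * s⁻¹ = e⁻¹ := by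
    rw [hedef, mul_inv_rev, inv_eq_of_mul_eq_one_right hs, inv_eq_of_mul_eq_one_right hs']
    simp [mul_assoc, hs]
  refine ⟨e ^ (m + 1), R.pow_mem he _, ?_⟩
  have h1 : s * (e ^ (m + 1))⁻¹ = e ^ (m + 1) * s := by
    have h2 : s * (e ^ (m + 1))⁻¹ * s⁻¹ = e ^ (m + 1) := by
      rw [← inv_pow, ← conj_pow, show s * e⁻¹ * s⁻¹ = (s * e * s⁻¹)⁻¹ by group, hse, inv_inv]
    exact mul_inv_eq_iff_eq_mul.1 h2
  rw [mul_assoc, h1, ← mul_assoc, ← pow_add, show m + 1 + (m + 1) = (2 * m + 1) + 1 by ring, pow_succ, he1,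
    one_mul, hedef, mul_assoc, hs, mul_one]

/-- The step of Livingstone and Wagner. -/
theorem tr_step {j : ℕ} (hj : 5 ≤ j) (hn : 2 * j ≤ Fintype.card α) (hH : Hom G j) (hT : Tr G (j - 1)) :
    Tr G j := by
  classical
  by_contra hnt
  -- every element preserving a set of `j` points induces an even permutation
  have heven : ∀ g ∈ G, ∀ Δ : Finset α, Δ.card = j → ∀ τ : Perm α, τ.support ⊆ Δ →
      (∀ x ∈ Δ, g x = τ x) → Perm.sign τ = 1 := by
    intro g hg Δ hΔ τ hsup hag
    obtain ⟨Δ₀, hΔ₀, halt⟩ := exists_alt_set _ G rfl (by omega : 4 ≤ j - 1) (by omega) hT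
    have halt' : alternatingGroup ↥Δ ≤ restr G Δ := by
      obtain ⟨h, hh, he⟩ := hH Δ₀ Δ (by omega) hΔ
      subst he
      intro σ hσ
      let e : ↥(Δ₀.map h.toEmbedding) ≃ ↥Δ₀ := (Equiv.ofBijective
        (fun z : ↥Δ₀ => (⟨h z, Finset.mem_map_of_mem _ z.2⟩ : ↥(Δ₀.map h.toEmbedding)))
        ⟨fun a b hab => Subtype.ext (h.injective (Subtype.ext_iff.1 hab :)), fun w => by
          obtain ⟨z, hz, hzw⟩ := Finset.mem_map.1 w.2
          exact ⟨⟨z, hz⟩, Subtype.ext hzw⟩⟩).symm
      obtain ⟨r, hr, hrσ⟩ := halt (show e.permCongr σ ∈ alternatingGroup ↥Δ₀ by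
        rw [Equiv.Perm.mem_alternatingGroup, Equiv.Perm.sign_permCongr]
        exact Equiv.Perm.mem_alternatingGroup.1 hσ)
      refine ⟨h * r * h⁻¹, G.mul_mem (G.mul_mem hh hr) (G.inv_mem hh), fun x => ?_⟩
      obtain ⟨z, rfl⟩ := e.symm.surjective x
      have h0 : ((e.symm z : ↥(Δ₀.map h.toEmbedding)) : α) = h (z : α) := rfl
      have h2 : ∀ w, ((w : ↥(Δ₀.map h.toEmbedding)) : α) = h (e w : α) := fun w => by
        conv_lhs => rw [← e.symm_apply_apply w]
        rfl
      rw [h0, Perm.mul_apply, Perm.mul_apply, ← Perm.mul_apply h⁻¹, inv_mul_cancel, Perm.one_apply, hrσ,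
        Equiv.permCongr_apply, h2 (σ (e.symm z))]
    have hτΔ : ∀ x, τ x ∈ Δ ↔ x ∈ Δ := by
      intro x
      by_cases hx : x ∈ τ.support
      · exact iff_of_true (hsup (Perm.apply_mem_support.2 hx)) (hsup hx)
      · rw [Perm.notMem_support.1 hx]
    by_contra hsign
    refine hnt (tr_of_odd hH hΔ halt' (σ := τ.subtypePerm hτΔ) ⟨g, hg, fun x => hag x x.2⟩ ?_)
    intro h1
    apply hsign
    have h2 := Equiv.Perm.sign_subtypePerm τ hτΔ fun x hx => hsup (Perm.mem_support.2 hx)
    rw [← h2]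
    convert h1
  -- an involution fixes at most `j - 3` points
  have hinv : ∀ g ∈ G, g * g = 1 → g ≠ 1 → (fixF g).card + 3 ≤ j := by
    intro g hg h2 h1
    by_contra hlt
    obtain ⟨a, ha⟩ : ∃ a, g a ≠ a := by
      by_contra hall
      push Not at hall
      exact h1 (Equiv.ext hall)
    have hga : g (g a) = a := by rw [← Perm.mul_apply, h2, Perm.one_apply]
    obtain ⟨S, hS, hSc⟩ := Finset.exists_subset_card_eq (s := fixF g) (n := j - 2) (by omega)
    have haS : a ∉ S := fun h => ha (mem_fixF.1 (hS h))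
    have hbS : g a ∉ S := fun h => ha ((g.injective (mem_fixF.1 (hS h))))
    have h3 := heven g hg (insert a (insert (g a) S))
      (by rw [Finset.card_insert_of_notMem (by simp [haS, Ne.symm ha]), Finset.card_insert_of_notMem hbS, hSc]
          omega)
      (Equiv.swap a (g a))
      (by rw [Perm.support_swap (Ne.symm ha)]; intro x hx; simp at hx ⊢; tauto)
      (fun x hx => by
        simp only [Finset.mem_insert] at hx
        rcases hx with rfl | rfl | hx
        · rw [Equiv.swap_apply_left]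
        · rw [Equiv.swap_apply_right, hga]
        · rw [Equiv.swap_apply_of_ne_of_ne (by rintro rfl; exact haS hx) (by rintro rfl; exact hbS hx),
            mem_fixF.1 (hS hx)])
    rw [Perm.sign_swap (Ne.symm ha)] at h3
    exact absurd h3 (by decide)
  -- so does every nontrivial element of two power order
  have htwo : ∀ (e : ℕ), ∀ g ∈ G, g ^ 2 ^ e = 1 → j ≤ (fixF g).card + 2 → g = 1 := by
    intro e
    induction e with
    | zero => intro g _ h _; simpa using h
    | succ e ih =>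
      intro g hg h hf
      have hg2 : g ^ 2 = 1 := ih (g ^ 2) (G.pow_mem hg 2) (by rw [← pow_mul, ← pow_succ', h])
        (hf.trans (Nat.add_le_add_right (Finset.card_le_card fun x hx => mem_fixF.2
          (Perm.pow_apply_eq_self_of_apply_eq_self (mem_fixF.1 hx) 2)) _))
      by_contra h1
      have := hinv g hg (by rwa [← pow_two]) h1
      omega
  -- lifts of transpositions
  have hlift : ∀ (a b : α) (S : Finset α), a ≠ b → a ∉ S → b ∉ S → S.card + 3 = j →
      ∃ g ∈ G, g * g = 1 ∧ g a = b ∧ g b = a ∧ fixF g = S := by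
    intro a b S hab haS hbS hS
    let l : Fin (j - 3) ≃ ↥S := (Finset.equivFinOfCardEq (by omega)).symm
    have hk : j - 1 = j - 3 + 1 + 1 := by omega
    rw [hk] at hT
    obtain ⟨h, hh, hhx⟩ := hT (Fin.cons a (Fin.cons b fun i => (l i : α))) (Fin.cons b (Fin.cons a fun i => (l i : α)))
      (Fin.cons_injective_iff.2 ⟨by
        rintro ⟨i, hi⟩
        refine Fin.cases (fun h => hab h.symm) (fun i h => haS ?_) i hi
        rw [← h]; exact (l i).2,
        Fin.cons_injective_iff.2 ⟨by rintro ⟨i, hi⟩; exact hbS (hi ▸ (l i).2), Subtype.val_injective.comp l.injective⟩⟩)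
      (Fin.cons_injective_iff.2 ⟨by
        rintro ⟨i, hi⟩
        refine Fin.cases (fun h => hab h) (fun i h => hbS ?_) i hi
        rw [← h]; exact (l i).2,
        Fin.cons_injective_iff.2 ⟨by rintro ⟨i, hi⟩; exact haS (hi ▸ (l i).2), Subtype.val_injective.comp l.injective⟩⟩)
    have ha : h a = b := hhx 0
    have hb : h b = a := by simpa using hhx (Fin.succ 0)
    have hfix : ∀ x ∈ S, h x = x := fun x hx => by
      obtain ⟨i, hi⟩ := l.surjective ⟨x, hx⟩
      simpa [hi] using hhx i.succ.succ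
    obtain ⟨o, -, e, he, hag⟩ := exists_two_part h
    set g := h ^ o with hgdef
    have hgG : g ∈ G := G.pow_mem hh o
    have ga : g a = b := by rw [hag a (by rw [ha, hb]), ha]
    have gb : g b = a := by rw [hag b (by rw [hb, ha]), hb]
    have gS : S ⊆ fixF g := fun x hx => mem_fixF.2 (by rw [hag x (by rw [hfix x hx, hfix x hx]), hfix x hx])
    have hg2 : g ^ 2 = 1 := by
      rcases e with _ | e
      · rw [pow_zero, pow_one] at he; rw [he, one_pow]
      refine htwo e (g ^ 2) (G.pow_mem hgG 2) (by rw [← pow_mul, ← pow_succ', he]) ?_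
      have hsub : insert a (insert b S) ⊆ fixF (g ^ 2) := by
        intro x hx
        rw [mem_fixF, pow_two, Perm.mul_apply]
        simp only [Finset.mem_insert] at hx
        rcases hx with rfl | rfl | hx
        · rw [ga, gb]
        · rw [gb, ga]
        · rw [mem_fixF.1 (gS hx), mem_fixF.1 (gS hx)]
      have h4 := Finset.card_le_card hsub
      rw [Finset.card_insert_of_notMem (by simp [haS, hab]), Finset.card_insert_of_notMem hbS] at h4
      omega
    have hg1 : g ≠ 1 := fun h1 => hab (by rw [h1] at ga; exact ga)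
    refine ⟨g, hgG, by rwa [← pow_two], ga, gb, (Finset.eq_of_subset_of_card_le gS ?_).symm⟩
    have := hinv g hgG (by rwa [← pow_two]) hg1
    omega
  -- a third two-cycle
  obtain ⟨a, b, c₀, d₀, hnd, -⟩ := exists_four (S := (Finset.univ : Finset α)) (by rw [Finset.card_univ]; omega)
  obtain ⟨⟨hab, -, -⟩, -, -⟩ := nodup4.1 hnd
  obtain ⟨S, hS, hSc⟩ := Finset.exists_subset_card_eq (s := ({a, b} : Finset α)ᶜ) (n := j - 3)
    (by rw [Finset.card_compl, Finset.card_pair hab]; omega)
  have haS : a ∉ S := fun h => Finset.mem_compl.1 (hS h) (by simp)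
  have hbS : b ∉ S := fun h => Finset.mem_compl.1 (hS h) (by simp)
  obtain ⟨g, hg, hgg, hga, hgb, hgS⟩ := hlift a b S hab haS hbS (by omega)
  have hgg' : ∀ x, g (g x) = x := fun x => by rw [← Perm.mul_apply, hgg, Perm.one_apply]
  have hmoved : ∀ x, x ∉ S → g x ≠ x ∧ g x ∉ S := fun x hx => by
    have h1 : g x ≠ x := fun h => hx (hgS ▸ mem_fixF.2 h)
    exact ⟨h1, fun h => h1 (g.injective (mem_fixF.1 (hgS ▸ h)))⟩
  rcases Nat.lt_or_ge j 6 with hj6 | hj6
  swap
  · obtain ⟨p, hp⟩ : ∃ p, p ∉ insert a (insert b S) := by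
      by_contra hall
      push Not at hall
      have h1 := congrArg Finset.card (Finset.eq_univ_of_forall hall)
      rw [Finset.card_insert_of_notMem (by simp [haS, hab]), Finset.card_insert_of_notMem hbS,
        Finset.card_univ] at h1
      omega
    simp only [Finset.mem_insert, not_or] at hp
    obtain ⟨r, hr⟩ : ∃ r, r ∉ insert a (insert b (insert p (insert (g p) S))) := by
      by_contra hall
      push Not at hall
      have h1 := congrArg Finset.card (Finset.eq_univ_of_forall hall)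
      have h2 := Finset.card_insert_le a (insert b (insert p (insert (g p) S)))
      have h3 := Finset.card_insert_le b (insert p (insert (g p) S))
      have h4 := Finset.card_insert_le p (insert (g p) S)
      have h5 := Finset.card_insert_le (g p) S
      rw [Finset.card_univ] at h1
      omega
    simp only [Finset.mem_insert, not_or] at hr
    obtain ⟨hqp, hqS⟩ := hmoved p hp.2.2
    obtain ⟨hsr, hsS⟩ := hmoved r hr.2.2.2.2
    have hqa : g p ≠ a := fun h => hp.2.1 (g.injective (h.trans hgb.symm))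
    have hqb : g p ≠ b := fun h => hp.1 (g.injective (h.trans hga.symm))
    have hsa : g r ≠ a := fun h => hr.2.1 (g.injective (h.trans hgb.symm))
    have hsb : g r ≠ b := fun h => hr.1 (g.injective (h.trans hga.symm))
    have hsp : g r ≠ p := fun h => hr.2.2.2.1 (g.injective (h.trans (hgg' p).symm))
    have hsq : g r ≠ g p := fun h => hr.2.2.1 (g.injective h)
    obtain ⟨T, hTS, hTc⟩ := Finset.exists_subset_card_eq (s := S) (n := j - 6) (by omega)
    have hT' : ∀ x, x ∉ S → x ∉ T := fun x hx h => hx (hTS h)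
    have h1 := heven g hg (insert a (insert b (insert p (insert (g p) (insert r (insert (g r) T))))))
      (by
        rw [Finset.card_insert_of_notMem, Finset.card_insert_of_notMem, Finset.card_insert_of_notMem,
          Finset.card_insert_of_notMem, Finset.card_insert_of_notMem, Finset.card_insert_of_notMem, hTc]
        · omega
        all_goals try simp only [Finset.mem_insert, not_or]
        all_goals first
          | exact hT' _ hsS
          | exact ⟨hsr.symm, hT' _ hr.2.2.2.2⟩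
          | exact ⟨Ne.symm hr.2.2.2.1, hsq.symm, hT' _ hqS⟩
          | exact ⟨hqp.symm, Ne.symm hr.2.2.1, hsp.symm, hT' _ hp.2.2⟩
          | exact ⟨Ne.symm hp.2.1, hqb.symm, Ne.symm hr.2.1, hsb.symm, hT' _ hbS⟩
          | exact ⟨hab, Ne.symm hp.1, hqa.symm, Ne.symm hr.1, hsa.symm, hT' _ haS⟩)
      (Equiv.swap a b * Equiv.swap p (g p) * Equiv.swap r (g r))
      (by
        refine ((Perm.support_mul_le _ _).trans (sup_le ((Perm.support_mul_le _ _).trans (sup_le ?_ ?_)) ?_))
        · rw [Perm.support_swap hab]; intro x hx; simp at hx ⊢; tauto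
        · rw [Perm.support_swap hqp.symm]; intro x hx; simp at hx ⊢; tauto
        · rw [Perm.support_swap hsr.symm]; intro x hx; simp at hx ⊢; tauto)
      (fun x hx => by
        simp only [Finset.mem_insert] at hx
        rcases hx with rfl | rfl | rfl | rfl | rfl | rfl | hx
        · simp [Equiv.swap_apply_of_ne_of_ne, Ne.symm hr.1, hsa.symm, Ne.symm hp.1, hqa.symm, hga]
        · simp [Equiv.swap_apply_of_ne_of_ne, Ne.symm hr.2.1, hsb.symm, Ne.symm hp.2.1, hqb.symm, hgb]
        · simp [Equiv.swap_apply_of_ne_of_ne, Ne.symm hr.2.2.1, hsp.symm, hqa, hqb]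
        · simp [Equiv.swap_apply_of_ne_of_ne, Ne.symm hr.2.2.2.1, hsq.symm, hp.1, hp.2.1, hgg']
        · simp [Equiv.swap_apply_of_ne_of_ne, hsp, hsq, hsa, hsb]
        · simp [Equiv.swap_apply_of_ne_of_ne, hr.2.2.1, hr.2.2.2.1, hr.1, hr.2.1, hgg']
        · have hxS := hTS hx
          have hne : ∀ z, z ∉ S → x ≠ z := fun z hz h => hz (h ▸ hxS)
          rw [Perm.mul_apply, Perm.mul_apply, Equiv.swap_apply_of_ne_of_ne (hne r hr.2.2.2.2) (hne _ hsS),
            Equiv.swap_apply_of_ne_of_ne (hne p hp.2.2) (hne _ hqS),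
            Equiv.swap_apply_of_ne_of_ne (hne a haS) (hne b hbS), mem_fixF.1 (hgS ▸ hxS)])
    rw [map_mul, map_mul, Perm.sign_swap hab, Perm.sign_swap hqp.symm, Perm.sign_swap hsr.symm] at h1
    exact absurd h1 (by decide)
  -- five points
  obtain rfl : j = 5 := by omega
  obtain ⟨c, d, hcd, rfl⟩ := Finset.card_eq_two.1 hSc
  simp only [Finset.mem_insert, Finset.mem_singleton, not_or] at haS hbS
  have h4 : Tr G 4 := hT
  have hnd' : [a, b, c, d].Nodup := nodup4.2 ⟨⟨hab, haS.1, haS.2⟩, ⟨hbS.1, hbS.2⟩, hcd⟩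
  have hoddR : ∀ A : Finset α, A.card = 4 → Odd (Nat.card (pstab G A)) := by
    intro A hA
    rw [Nat.odd_iff]
    by_contra hev
    haveI : Fact (Nat.Prime 2) := ⟨Nat.prime_two⟩
    obtain ⟨x, hx⟩ := exists_prime_orderOf_dvd_card' (G := pstab G A) 2 (Nat.dvd_of_mod_eq_zero (by omega))
    have h2 : (x : Perm α) ^ 2 ^ 1 = 1 := by
      rw [pow_one, ← hx, ← Subgroup.orderOf_coe, pow_orderOf_eq_one]
    have h1 := htwo 1 (x : Perm α) x.2.1 h2 (by
      have := Finset.card_le_card (show A ⊆ fixF (x : Perm α) from fun z hz => mem_fixF.2 (x.2.2 z hz))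
      omega)
    rw [← Subgroup.orderOf_coe, h1, orderOf_one] at hx
    omega
  have hfix : ∀ h ∈ G, h * h = 1 → h ≠ 1 → ∀ S : Finset α, S ⊆ fixF h → 3 ≤ S.card → False := by
    intro h hh h2 h1 S hS h3
    have := hinv h hh h2 h1
    have := Finset.card_le_card hS
    omega
  have hgc : g c = c := mem_fixF.1 (hgS ▸ by simp)
  have hgd : g d = d := mem_fixF.1 (hgS ▸ by simp)
  -- the stabilizer of the four points fixes every further one
  have hkey : ∀ p, p ≠ a → p ≠ b → p ≠ c → p ≠ d → ∀ r ∈ pstab G ({a, b, c, d} : Finset α), r p = p := by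
    intro p hpa hpb hpc hpd
    obtain ⟨hqp, hqS⟩ := hmoved p (by simp [hpc, hpd])
    simp only [Finset.mem_insert, Finset.mem_singleton, not_or] at hqS
    obtain ⟨q, hq⟩ : ∃ q, g p = q := ⟨_, rfl⟩
    have hgq : g q = p := by rw [← hq, hgg']
    rw [hq] at hqp hqS
    have hqa : q ≠ a := fun h => hpb (g.injective (by rw [hq, h, hgb]))
    have hqb : q ≠ b := fun h => hpa (g.injective (by rw [hq, h, hga]))
    have hndQ : [a, b, p, q].Nodup := nodup4.2 ⟨⟨hab, hpa.symm, hqa.symm⟩, ⟨hpb.symm, hqb.symm⟩, hqp.symm⟩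
    set Q : Finset α := {a, b, p, q} with hQdef
    have hQc : Q.card = 4 := card_four hndQ
    have memQ : ∀ z, z ∈ Q ↔ z = a ∨ z = b ∨ z = p ∨ z = q := fun z => by simp [hQdef]
    have hR := hoddR Q hQc
    -- elements with the same action on `Q` differ by the stabilizer
    have hdiff : ∀ s s' : Perm α, s ∈ G → s' ∈ G → (∀ z ∈ Q, s z ∈ Q) → (∀ z ∈ Q, s' (s z) = z) →
        s' * s ∈ pstab G Q := fun s s' hs hs' _ h => ⟨G.mul_mem hs' hs, fun z hz => h z hz⟩
    have htwoQ : ∀ h ∈ G, (∀ z ∈ Q, h z = z) → (∃ e : ℕ, h ^ 2 ^ e = 1) → h = 1 := by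
      intro h hh hfx ⟨e, he⟩
      refine htwo e h hh he ?_
      have := Finset.card_le_card (show Q ⊆ fixF h from fun z hz => mem_fixF.2 (hfx z hz))
      omega
    -- an element of order four
    obtain ⟨h, hh, e1, e2, e3, e4⟩ := h4.map4 hndQ (a' := p) (b' := q) (c' := b) (d' := a)
      (nodup4.2 ⟨⟨hqp.symm, hpb, hpa⟩, ⟨hqb, hqa⟩, hab.symm⟩)
    obtain ⟨N, ⟨e, hNe⟩, hN⟩ := exists_two_part' h
    set x := h ^ N with hxdef
    have hxG : x ∈ G := G.pow_mem hh N
    have xa : x a = p := by rw [hN a (by rw [e1, e3, e2, e4]), e1]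
    have xb : x b = q := by rw [hN b (by rw [e2, e4, e1, e3]), e2]
    have xp : x p = b := by rw [hN p (by rw [e3, e2, e4, e1]), e3]
    have xq : x q = a := by rw [hN q (by rw [e4, e1, e3, e2]), e4]
    have hx4 : x ^ 4 = 1 := htwoQ _ (G.pow_mem hxG 4) (fun z hz => by
        rcases (memQ z).1 hz with rfl | rfl | rfl | rfl <;> simp [pow_succ, Perm.mul_apply, xa, xb, xp, xq])
      ⟨e, by rw [← pow_mul, mul_comm, pow_mul, hNe, one_pow]⟩
    set s := x * x with hsdef
    have hss : s * s = 1 := by rw [hsdef, ← hx4]; simp [pow_succ, mul_assoc]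
    obtain ⟨r, hr, hrs⟩ := exists_conj hR hss hgg (hdiff s g (G.mul_mem hxG hxG) hg
      (fun z hz => by
        rcases (memQ z).1 hz with rfl | rfl | rfl | rfl <;> simp [hsdef, memQ, xa, xb, xp, xq])
      (fun z hz => by
        rcases (memQ z).1 hz with rfl | rfl | rfl | rfl <;> simp [hsdef, xa, xb, xp, xq, hga, hgb, hgq, hq]))
    -- replace it by a conjugate with square `g`
    set y := r * x * r⁻¹ with hydef
    have hyG : y ∈ G := G.mul_mem (G.mul_mem hr.1 hxG) (G.inv_mem hr.1)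
    have hrQ : ∀ z ∈ Q, r⁻¹ z = z := fun z hz => inv_apply_of_fix (hr.2 z hz)
    have ya : y a = p := by
      rw [hydef, Perm.mul_apply, Perm.mul_apply, hrQ a ((memQ _).2 (by simp)), xa, hr.2 p ((memQ _).2 (by simp))]
    have yb : y b = q := by
      rw [hydef, Perm.mul_apply, Perm.mul_apply, hrQ b ((memQ _).2 (by simp)), xb, hr.2 q ((memQ _).2 (by simp))]
    have yp : y p = b := by
      rw [hydef, Perm.mul_apply, Perm.mul_apply, hrQ p ((memQ _).2 (by simp)), xp, hr.2 b ((memQ _).2 (by simp))]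
    have yq : y q = a := by
      rw [hydef, Perm.mul_apply, Perm.mul_apply, hrQ q ((memQ _).2 (by simp)), xq, hr.2 a ((memQ _).2 (by simp))]
    have hyy : y * y = g := by rw [← hrs, hydef, hsdef]; simp [mul_assoc]
    have hyfix : ∀ w, w ∉ Q → y w ≠ w := by
      intro w hw hyw
      have h1 := heven y hyG (insert w Q) (by rw [Finset.card_insert_of_notMem hw, hQc])
        (Equiv.swap a q * Equiv.swap a b * Equiv.swap a p)
        (by
          refine ((Perm.support_mul_le _ _).trans (sup_le ((Perm.support_mul_le _ _).trans (sup_le ?_ ?_)) ?_))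
          · rw [Perm.support_swap hqa.symm]; intro z hz; simp [hQdef] at hz ⊢; tauto
          · rw [Perm.support_swap hab]; intro z hz; simp [hQdef] at hz ⊢; tauto
          · rw [Perm.support_swap hpa.symm]; intro z hz; simp [hQdef] at hz ⊢; tauto)
        (fun z hz => by
          rcases Finset.mem_insert.1 hz with rfl | hz
          · have hne : z ≠ a ∧ z ≠ b ∧ z ≠ p ∧ z ≠ q := by simpa [memQ] using hw
            simp [Equiv.swap_apply_of_ne_of_ne, hne, hyw]
          · rcases (memQ z).1 hz with rfl | rfl | rfl | rfl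
            · simp [Equiv.swap_apply_of_ne_of_ne, ya, hpa, hpb, hqp.symm]
            · simp [Equiv.swap_apply_of_ne_of_ne, yb, hab.symm, hpb.symm]
            · simp [Equiv.swap_apply_of_ne_of_ne, yp, hab.symm, hqb.symm]
            · simp [Equiv.swap_apply_of_ne_of_ne, yq, hqp, hqa, hqb])
      rw [map_mul, map_mul, Perm.sign_swap hqa.symm, Perm.sign_swap hab, Perm.sign_swap hpa.symm] at h1
      exact absurd h1 (by decide)
    have hgy : g * y = y * g := by rw [← hyy, mul_assoc]
    have hpair : ∀ s, g * s = s * g → ∀ z, z = c ∨ z = d → s z = c ∨ s z = d := by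
      intro s hc' z hz
      have hz' : g z = z := by rcases hz with rfl | rfl <;> assumption
      have h1 : g (s z) = s z := by rw [← Perm.mul_apply, hc', Perm.mul_apply, hz']
      simpa [hgS] using (mem_fixF.2 h1 : s z ∈ fixF g)
    have hcQ : c ∉ Q := by simp [hQdef, Ne.symm haS.1, Ne.symm hbS.1, hpc.symm, Ne.symm hqS.1]
    have hdQ : d ∉ Q := by simp [hQdef, Ne.symm haS.2, Ne.symm hbS.2, hpd.symm, Ne.symm hqS.2]
    have yc : y c = d := (hpair y hgy c (Or.inl rfl)).resolve_left (hyfix c hcQ)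
    have yd : y d = c := (hpair y hgy d (Or.inr rfl)).resolve_right (hyfix d hdQ)
    -- a lift of the transposition commuting with `g`
    obtain ⟨t₀, ht₀, ht₀2, t₀a, t₀b, t₀S⟩ := hlift a b {p, q} hab
      (by simp [hpa.symm, hqa.symm]) (by simp [hpb.symm, hqb.symm]) (by rw [Finset.card_pair hqp.symm])
    have t₀p : t₀ p = p := mem_fixF.1 (t₀S ▸ by simp)
    have t₀q : t₀ q = q := mem_fixF.1 (t₀S ▸ by simp)
    have ht₀i : t₀⁻¹ = t₀ := inv_eq_of_mul_eq_one_right ht₀2
    set g₁ := t₀ * g * t₀⁻¹ with hg₁def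
    have hg₁2 : g₁ * g₁ = 1 := by
      rw [hg₁def, show t₀ * g * t₀⁻¹ * (t₀ * g * t₀⁻¹) = t₀ * (g * g) * t₀⁻¹ by simp [mul_assoc], hgg]
      simp
    have hg₁G : g₁ ∈ G := G.mul_mem (G.mul_mem ht₀ hg) (G.inv_mem ht₀)
    obtain ⟨r₁, hr₁, hr₁g⟩ := exists_conj hR hg₁2 hgg (hdiff g₁ g hg₁G hg
      (fun z hz => by
        rcases (memQ z).1 hz with rfl | rfl | rfl | rfl <;>
          simp [hg₁def, ht₀i, memQ, t₀a, t₀b, t₀p, t₀q, hga, hgb, hgq, hq])
      (fun z hz => by
        rcases (memQ z).1 hz with rfl | rfl | rfl | rfl <;>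
          simp [hg₁def, ht₀i, t₀a, t₀b, t₀p, t₀q, hga, hgb, hgq, hq]))
    set u := r₁ * t₀ with hudef
    have huG : u ∈ G := G.mul_mem hr₁.1 ht₀
    have hgu : g * u = u * g := by
      calc g * u = r₁ * g₁ * r₁⁻¹ * (r₁ * t₀) := by rw [hr₁g]
        _ = u * g := by simp [hudef, hg₁def, mul_assoc]
    have ua : u a = b := by simp [hudef, t₀a, hr₁.2 b ((memQ _).2 (by simp))]
    have ub : u b = a := by simp [hudef, t₀b, hr₁.2 a ((memQ _).2 (by simp))]
    have up : u p = p := by simp [hudef, t₀p, hr₁.2 p ((memQ _).2 (by simp))]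
    have uq : u q = q := by simp [hudef, t₀q, hr₁.2 q ((memQ _).2 (by simp))]
    obtain ⟨o, -, e', he', hag⟩ := exists_two_part u
    set t := u ^ o with htdef
    have htG : t ∈ G := G.pow_mem huG o
    have ta : t a = b := by rw [hag a (by rw [ua, ub]), ua]
    have tb : t b = a := by rw [hag b (by rw [ub, ua]), ub]
    have tp : t p = p := by rw [hag p (by rw [up, up]), up]
    have tq : t q = q := by rw [hag q (by rw [uq, uq]), uq]
    have hgt : g * t = t * g := (Commute.pow_right (hgu : Commute g u) o).eq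
    have htt : t * t = 1 := htwoQ _ (G.mul_mem htG htG)
      (fun z hz => by rcases (memQ z).1 hz with rfl | rfl | rfl | rfl <;> simp [ta, tb, tp, tq])
      ⟨e', by rw [← pow_two, ← pow_mul, mul_comm, pow_mul, he', one_pow]⟩
    have tc : t c = d := by
      refine (hpair t hgt c (Or.inl rfl)).resolve_left fun h => ?_
      have hd' : t d = d := (hpair t hgt d (Or.inr rfl)).resolve_left fun h' => hcd (t.injective (h.trans h'.symm))
      refine hfix t htG htt (fun h1 => hab (by rw [h1] at ta; exact ta)) {p, c, d} (fun z hz => ?_) ?_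
      · simp only [Finset.mem_insert, Finset.mem_singleton] at hz
        rcases hz with rfl | rfl | rfl <;> simp [tp, h, hd']
      · rw [Finset.card_insert_of_notMem (by simp [hpc, hpd]), Finset.card_pair hcd]
    have td : t d = c := by rw [← tc, ← Perm.mul_apply, htt, Perm.one_apply]
    -- the four group
    set v₀ := y * t with hv₀def
    have va₀ : v₀ a = q := by simp [hv₀def, ta, yb]
    have vq₀ : v₀ q = a := by simp [hv₀def, tq, yq]
    have vb₀ : v₀ b = p := by simp [hv₀def, tb, ya]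
    have vp₀ : v₀ p = b := by simp [hv₀def, tp, yp]
    have vc₀ : v₀ c = c := by simp [hv₀def, tc, yd]
    have vd₀ : v₀ d = d := by simp [hv₀def, td, yc]
    obtain ⟨o', -, e'', he'', hag'⟩ := exists_two_part v₀
    set v := v₀ ^ o' with hvdef
    have hvG : v ∈ G := G.pow_mem (G.mul_mem hyG htG) o'
    have va : v a = q := by rw [hag' a (by rw [va₀, vq₀]), va₀]
    have vq : v q = a := by rw [hag' q (by rw [vq₀, va₀]), vq₀]
    have vb : v b = p := by rw [hag' b (by rw [vb₀, vp₀]), vb₀]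
    have vp : v p = b := by rw [hag' p (by rw [vp₀, vb₀]), vp₀]
    have vc : v c = c := by rw [hag' c (by rw [vc₀, vc₀]), vc₀]
    have vd : v d = d := by rw [hag' d (by rw [vd₀, vd₀]), vd₀]
    have hgv : g * v = v * g :=
      (Commute.pow_right (Commute.mul_right (hgy : Commute g y) (hgt : Commute g t)) o').eq
    have hvv : v * v = 1 := htwoQ _ (G.mul_mem hvG hvG)
      (fun z hz => by rcases (memQ z).1 hz with rfl | rfl | rfl | rfl <;> simp [va, vb, vp, vq])
      ⟨e'', by rw [← pow_two, ← pow_mul, mul_comm, pow_mul, he'', one_pow]⟩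
    have hfix2 : ∀ i ∈ G, i * i = 1 → i a ≠ a → i c = c → i d = d → fixF i = {c, d} := by
      intro i hi hii hia hic hid
      have hsub : ({c, d} : Finset α) ⊆ fixF i := by
        intro z hz
        simp only [Finset.mem_insert, Finset.mem_singleton] at hz
        rcases hz with rfl | rfl <;> simpa
      refine (Finset.eq_of_subset_of_card_le hsub ?_).symm
      have := hinv i hi hii fun h1 => hia (by rw [h1]; rfl)
      rw [Finset.card_pair hcd]
      omega
    have hwi : g * v * (g * v) = 1 := by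
      calc g * v * (g * v) = g * (v * g) * v := by simp [mul_assoc]
        _ = g * g * (v * v) := by rw [← hgv]; simp [mul_assoc]
        _ = 1 := by rw [hgg, hvv, one_mul]
    have hwfix : fixF (g * v) = {c, d} := hfix2 _ (G.mul_mem hg hvG) hwi
      (by rw [Perm.mul_apply, va, hgq]; exact hpa) (by rw [Perm.mul_apply, vc, hgc])
      (by rw [Perm.mul_apply, vd, hgd])
    have hvfix : fixF v = {c, d} := hfix2 v hvG hvv (by rw [va]; exact hqa) vc vd
    have hgfix : fixF g = {c, d} := hgS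
    -- centralised elements fix `c` and `d`
    have hcent : ∀ i, fixF i = ({c, d} : Finset α) → ∀ r ∈ pstab G Q, i * r * i⁻¹ = r →
        r ∈ pstab G ({c, d} : Finset α) := by
      intro i hi r hr hir
      have hcomm : i * r = r * i := mul_inv_eq_iff_eq_mul.1 hir
      have hmem : ∀ z, z ∈ fixF i → r z ∈ fixF i := fun z hz => by
        rw [mem_fixF] at hz ⊢
        rw [← Perm.mul_apply, hcomm, Perm.mul_apply, hz]
      have hord : Odd (orderOf r) := Odd.of_dvd_nat hR (by
        rw [← Subgroup.orderOf_mk r hr]; exact orderOf_dvd_natCard _)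
      have hc' : r c = c ∨ r c = d := by simpa [hi] using hmem c (by simp [hi])
      have hd' : r d = c ∨ r d = d := by simpa [hi] using hmem d (by simp [hi])
      refine ⟨hr.1, fun z hz => ?_⟩
      simp only [Finset.mem_insert, Finset.mem_singleton] at hz
      rcases hz with rfl | rfl
      · exact fix_of_pair hord hc' hd'
      · exact fix_of_pair hord hd'.symm hc'.symm
    have hnorm : ∀ i ∈ G, i * i = 1 → (∀ z ∈ Q, i z ∈ Q) → ∀ r ∈ pstab G Q, i * r * i⁻¹ ∈ pstab G Q :=
      fun i hi hii hiQ r hr => mem_pstab_conj hi (fun z hz => by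
        rw [inv_eq_of_mul_eq_one_right hii]; exact hiQ z hz) hr
    have hle : pstab G Q ≤ pstab G ({c, d} : Finset α) := le_of_four_group hR hgg hvv hgv
      (hnorm g hg hgg fun z hz => by rcases (memQ z).1 hz with rfl | rfl | rfl | rfl <;> simp [memQ, hga, hgb, hq, hgq])
      (hnorm v hvG hvv fun z hz => by rcases (memQ z).1 hz with rfl | rfl | rfl | rfl <;> simp [memQ, va, vb, vp, vq])
      (hcent g hgfix) (hcent v hvfix) (hcent _ hwfix)
    have hle' : pstab G Q ≤ pstab G ({a, b, c, d} : Finset α) := fun r hr => ⟨hr.1, fun z hz => by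
      simp only [Finset.mem_insert, Finset.mem_singleton] at hz
      rcases hz with rfl | rfl | rfl | rfl
      · exact hr.2 _ ((memQ _).2 (by simp))
      · exact hr.2 _ ((memQ _).2 (by simp))
      · exact (hle hr).2 _ (by simp)
      · exact (hle hr).2 _ (by simp)⟩
    have hcard : Nat.card (pstab G ({a, b, c, d} : Finset α)) = Nat.card (pstab G Q) :=
      h4.hom.card_pstab (card_four hnd') hQc
    have heq := Subgroup.eq_of_le_of_card_ge hle' hcard.le
    intro r' hr'
    rw [← heq] at hr'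
    exact hr'.2 p ((memQ p).2 (by simp))
  have hbot : ∀ A : Finset α, A.card = 4 → pstab G A = ⊥ := by
    intro A hA
    have h0 : pstab G ({a, b, c, d} : Finset α) = ⊥ := by
      rw [Subgroup.eq_bot_iff_forall]
      intro r hr
      refine Equiv.ext fun z => ?_
      by_cases hz : z ∈ ({a, b, c, d} : Finset α)
      · exact hr.2 z hz
      · simp only [Finset.mem_insert, Finset.mem_singleton, not_or] at hz
        exact hkey z hz.1 hz.2.1 hz.2.2.1 hz.2.2.2 r hr
    refine Subgroup.eq_bot_of_card_eq _ ?_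
    rw [h4.hom.card_pstab hA (card_four hnd'), h0, Subgroup.card_bot]
  haveI := tr_iff.1 h4
  have hdeg := Cfsg.Agent.S0415.result G (by omega) (fun x => by
    rw [Subgroup.eq_bot_iff_forall]
    intro k hk
    have hmem : (k : Perm α) ∈ pstab G (Finset.univ.image x) := ⟨k.2, fun y hy => by
      obtain ⟨i, -, rfl⟩ := Finset.mem_image.1 hy
      exact congrFun (congrArg (⇑) (hk : k • x = x)) i⟩
    rw [hbot _ (by rw [Finset.card_image_of_injective _ x.injective, Finset.card_univ, Fintype.card_fin]),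
      Subgroup.mem_bot] at hmem
    exact Subtype.ext hmem)
  have hpar := even_card_sub_fixF (g := g) (by rwa [pow_two])
  rw [hgS, Finset.card_pair hcd] at hpar
  omega

end Cfsg.Lib.Perm.LW
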