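import Cfsg.Agent.Lib.Perm.LW.Basic
import Mathlib.GroupTheory.Nilpotent

/-!
# Descending to the fixed points of a prime power subgroup

The lemmas of Witt and Gleason combined: if some element other than the identity fixes more than `k` points of
a `k`-transitive group, the group induces a `k`-transitive group on some proper subset with more than `k` points.
-/

set_option autoImplicit false
set_option linter.style.haveILetI false
set_option linter.unusedSectionVars false

namespace Cfsg.Lib.Perm.LW

open Equiv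

variable {α : Type*} [Fintype α] [DecidableEq α]

/-- Injective tuples in a set with a spare place are connected by changes of one coordinate. -/
theorem tuples_connected {β : Type*} [Fintype β] [DecidableEq β] {k : ℕ} (hk : k < Fintype.card β)
    (Rel : (Fin k → β) → (Fin k → β) → Prop)
    (hrefl : ∀ u, Rel u u) (htrans : ∀ u v w, Rel u v → Rel v w → Rel u w)
    (hone : ∀ u : Fin k → β, Function.Injective u → ∀ i z, z ∉ Finset.univ.image u → Rel u (Function.update u i z))
    (u v : Fin k → β) (hu : Function.Injective u) (hv : Function.Injective v) : Rel u v := by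
  have hinj : ∀ w : Fin k → β, Function.Injective w → ∀ i z, z ∉ Finset.univ.image w →
      Function.Injective (Function.update w i z) := by
    intro w hw i z hz a b hab
    rcases eq_or_ne a i with ha | ha <;> rcases eq_or_ne b i with hb | hb
    · rw [ha, hb]
    · rw [ha, Function.update_self, Function.update_of_ne hb] at hab
      exact absurd (Finset.mem_image.2 ⟨b, Finset.mem_univ _, hab.symm⟩) hz
    · rw [hb, Function.update_self, Function.update_of_ne ha] at hab
      exact absurd (Finset.mem_image.2 ⟨a, Finset.mem_univ _, hab⟩) hz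
    · rw [Function.update_of_ne ha, Function.update_of_ne hb] at hab
      exact hw hab
  suffices ∀ n (u : Fin k → β), Function.Injective u → (Finset.univ.filter fun i => u i ≠ v i).card = n → Rel u v from
    this _ u hu rfl
  intro n
  induction n using Nat.strong_induction_on with
  | _ n ih =>
    intro u hu hn
    by_cases he : ∀ i, u i = v i
    · exact (funext he : u = v) ▸ hrefl u
    push Not at he
    obtain ⟨i, hi⟩ := he
    by_cases hfree : v i ∈ Finset.univ.image u
    · obtain ⟨j, -, hj⟩ := Finset.mem_image.1 hfree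
      obtain ⟨z, hz⟩ : ∃ z, z ∉ Finset.univ.image u := by
        by_contra hall
        push Not at hall
        have h1 := congrArg Finset.card (Finset.eq_univ_of_forall hall)
        rw [Finset.card_image_of_injective _ hu, Finset.card_univ, Fintype.card_fin, Finset.card_univ] at h1
        omega
      have hji : j ≠ i := fun e => hi (by rw [← hj, e])
      have hu1 := hinj u hu j z hz
      have hfree' : v i ∉ Finset.univ.image (Function.update u j z) := by
        intro hm
        obtain ⟨l, -, hl⟩ := Finset.mem_image.1 hm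
        rcases eq_or_ne l j with hlj | hlj
        · rw [hlj, Function.update_self] at hl
          exact hz (hl ▸ hfree)
        · rw [Function.update_of_ne hlj, ← hj] at hl
          exact hlj (hu hl)
      refine htrans _ _ _ (hone u hu j z hz) (htrans _ _ _ (hone _ hu1 i (v i) hfree')
        (ih _ ?_ _ (hinj _ hu1 i (v i) hfree') rfl))
      rw [← hn]
      refine Finset.card_lt_card ⟨fun l hl => ?_, fun hsub => ?_⟩
      · simp only [Finset.mem_filter, Finset.mem_univ, true_and] at hl ⊢
        rcases eq_or_ne l i with hli | hli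
        · exact hli ▸ hi
        rw [Function.update_of_ne hli] at hl
        rcases eq_or_ne l j with hlj | hlj
        · subst hlj
          rw [hj]
          exact fun e => hji (hv e.symm)
        · rwa [Function.update_of_ne hlj] at hl
      · have := hsub (Finset.mem_filter.2 ⟨Finset.mem_univ i, hi⟩)
        simp only [Finset.mem_filter, Finset.mem_univ, true_and, Function.update_self] at this
        exact this rfl
    · refine htrans _ _ _ (hone u hu i (v i) hfree) (ih _ ?_ _ (hinj u hu i (v i) hfree) rfl)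
      rw [← hn]
      refine Finset.card_lt_card ⟨fun l hl => ?_, fun hsub => ?_⟩
      · simp only [Finset.mem_filter, Finset.mem_univ, true_and] at hl ⊢
        rcases eq_or_ne l i with hli | hli
        · exact hli ▸ hi
        rwa [Function.update_of_ne hli] at hl
      · have := hsub (Finset.mem_filter.2 ⟨Finset.mem_univ i, hi⟩)
        simp only [Finset.mem_filter, Finset.mem_univ, true_and, Function.update_self] at this
        exact this rfl

/-- Gleason: if each `k`-subset is the exact fixed point set of a `p`-subgroup, the group is `k`-transitive. -/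
theorem tr_of_gleason (M : Subgroup (Perm α)) {k p : ℕ} [hp : Fact p.Prime] (hk : k < Fintype.card α)
    (h : ∀ A : Finset α, A.card = k → ∃ P : Subgroup (Perm α), P ≤ M ∧ IsPGroup p P ∧
      ∀ x, (∀ g ∈ P, g x = x) ↔ x ∈ A) : Tr M k := by
  classical
  intro u v hu hv
  refine tuples_connected hk (fun u v => ∃ g ∈ M, ∀ i, g (u i) = v i) (fun u => ⟨1, M.one_mem, fun i => rfl⟩)
    (fun a b c ⟨g, hg, hgab⟩ ⟨g', hg', hgbc⟩ => ⟨g' * g, M.mul_mem hg' hg, fun i => by
      rw [Perm.mul_apply, hgab, hgbc]⟩) ?_ u v hu hv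
  intro u hu i z hz
  set B : Finset α := (Finset.univ.erase i).image u with hB
  set MB := pstab M B with hMB
  set O : Finset α := Finset.univ.filter (fun y => ∃ g ∈ MB, g (u i) = y) with hO
  suffices hzO : z ∈ O by
    obtain ⟨g, hg, hgz⟩ := (Finset.mem_filter.1 hzO).2
    refine ⟨g, hg.1, fun l => ?_⟩
    rcases eq_or_ne l i with hli | hli
    · rw [hli, Function.update_self, hgz]
    · rw [Function.update_of_ne hli]
      exact hg.2 _ (Finset.mem_image.2 ⟨l, Finset.mem_erase.2 ⟨hli, Finset.mem_univ _⟩, rfl⟩)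
  have hdisj : ∀ y ∈ O, y ∉ B := by
    intro y hy hyB
    obtain ⟨g, hg, hgy⟩ := (Finset.mem_filter.1 hy).2
    have h1 := hg.2 y hyB
    obtain ⟨l, hl, hly⟩ := Finset.mem_image.1 hyB
    have h2 : g (u i) = g y := hgy.trans h1.symm
    exact (Finset.mem_erase.1 hl).1 (hu (hly.trans (g.injective h2).symm))
  have key : ∀ y ∉ B, O.card % p = (if y ∈ O then 1 else 0) % p := by
    intro y hy
    have hBc : B.card + 1 = k := by
      have h1 : 1 ≤ k := Nat.lt_of_le_of_lt (Nat.zero_le _) i.2
      rw [hB, Finset.card_image_of_injective _ hu, Finset.card_erase_of_mem (Finset.mem_univ _), Finset.card_univ,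
        Fintype.card_fin]
      omega
    obtain ⟨P, hPM, hPp, hPfix⟩ := h (insert y B) (by rw [Finset.card_insert_of_notMem hy]; exact hBc)
    have hPB : P ≤ MB := fun g hg => ⟨hPM hg, fun x hx => (hPfix x).2 (Finset.mem_insert_of_mem hx) g hg⟩
    have hmem : ∀ (g : P) (x : α), x ∈ O → (g : Perm α) x ∈ O := by
      intro g x hx
      obtain ⟨g', hg', hgx⟩ := (Finset.mem_filter.1 hx).2
      exact Finset.mem_filter.2 ⟨Finset.mem_univ _, g * g', MB.mul_mem (hPB g.2) hg', by rw [Perm.mul_apply, hgx]⟩
    letI : MulAction P {x // x ∈ O} :=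
      { smul := fun g x => ⟨(g : Perm α) x, hmem g x x.2⟩
        one_smul := fun x => Subtype.ext rfl
        mul_smul := fun g g' x => Subtype.ext rfl }
    have h1 := hPp.card_modEq_card_fixedPoints {x // x ∈ O}
    rw [Nat.card_eq_fintype_card, Fintype.card_coe] at h1
    refine h1.trans (congrArg (· % p) ?_)
    have h2 : MulAction.fixedPoints P {x // x ∈ O} = {x : {x // x ∈ O} | (x : α) = y} := by
      ext x
      constructor
      · intro hx
        have h3 : (x : α) ∈ insert y B := (hPfix x).1 fun g hg => congrArg Subtype.val (hx ⟨g, hg⟩)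
        exact (Finset.mem_insert.1 h3).resolve_right (hdisj x x.2)
      · intro hx g
        exact Subtype.ext ((hPfix x).2 (Finset.mem_insert.2 (Or.inl hx)) g g.2)
    rw [h2]
    split_ifs with hyO
    · rw [Nat.card_eq_one_iff_unique]
      exact ⟨⟨fun a b => Subtype.ext (Subtype.ext (a.2.trans b.2.symm))⟩, ⟨⟨⟨y, hyO⟩, rfl⟩⟩⟩
    · haveI : IsEmpty ({x : {x // x ∈ O} | (x : α) = y} : Set _) :=
        ⟨fun a => hyO ((a.2 : (a.1 : α) = y) ▸ a.1.2)⟩
      exact Nat.card_of_isEmpty
  have hui : u i ∉ B := fun hm => by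
    obtain ⟨l, hl, hlu⟩ := Finset.mem_image.1 hm
    exact (Finset.mem_erase.1 hl).1 (hu hlu)
  have h1 := key (u i) hui
  have hzB : z ∉ B := fun hm => hz (Finset.image_subset_image (Finset.subset_univ _) hm)
  by_contra hzO
  have h2 := key z hzB
  rw [if_pos (Finset.mem_filter.2 ⟨Finset.mem_univ _, 1, MB.one_mem, rfl⟩)] at h1
  rw [if_neg hzO, h1, Nat.zero_mod, Nat.mod_eq_of_lt hp.out.one_lt] at h2
  exact absurd h2 one_ne_zero

/-- Descent to the fixed points of a prime power subgroup. -/
theorem descend (G : Subgroup (Perm α)) {k : ℕ} (hG : Tr G k) (hns : ¬ Semi G k) :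
    ∃ F : Finset α, k < F.card ∧ F.card < Fintype.card α ∧ Tr (restr G F) k := by
  classical
  simp only [Semi] at hns
  push Not at hns
  obtain ⟨g, hg, hg1, hgk⟩ := hns
  obtain ⟨p, hp, hpg⟩ := Nat.exists_prime_and_dvd (fun h => hg1 (orderOf_eq_one_iff.1 h))
  haveI := Fact.mk hp
  let fixS : Subgroup (Perm α) → Finset α := fun Q => Finset.univ.filter fun x => ∀ q ∈ Q, q x = x
  set S : Set (Subgroup (Perm α)) := {Q | Q ≤ G ∧ IsPGroup p Q ∧ Q ≠ ⊥ ∧ k < (fixS Q).card} with hS
  have hSne : S.Nonempty := by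
    refine ⟨Subgroup.zpowers (g ^ (orderOf g / p)), ?_, ?_, ?_, ?_⟩
    · exact Subgroup.zpowers_le.2 (G.pow_mem hg _)
    · refine IsPGroup.of_card (n := 1) ?_
      rw [Nat.card_zpowers, pow_one, orderOf_pow_orderOf_div (orderOf_pos g).ne' hpg]
    · rw [ne_eq, Subgroup.zpowers_eq_bot, ← orderOf_eq_one_iff, orderOf_pow_orderOf_div (orderOf_pos g).ne' hpg]
      exact hp.ne_one
    · refine hgk.trans_le (Finset.card_le_card fun x hx => Finset.mem_filter.2 ⟨Finset.mem_univ _, fun q hq => ?_⟩)
      obtain ⟨i, rfl⟩ := Subgroup.mem_zpowers_iff.1 hq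
      exact Perm.zpow_apply_eq_self_of_apply_eq_self (Perm.pow_apply_eq_self_of_apply_eq_self (mem_fixF.1 hx) _) i
  obtain ⟨Q, ⟨hQG, hQp, hQ1, hQk⟩, hmax⟩ := (Set.toFinite S).exists_maximal hSne
  set F := fixS Q with hF
  have memF : ∀ x, x ∈ F ↔ ∀ q ∈ Q, q x = x := fun x => by simp [hF, fixS]
  have hFlt : F.card < Fintype.card α := by
    rw [← Finset.card_univ]
    refine Finset.card_lt_card ⟨Finset.subset_univ _, fun hsub => hQ1 ?_⟩
    rw [Subgroup.eq_bot_iff_forall]
    exact fun q hq => Equiv.ext fun x => (memF x).1 (hsub (Finset.mem_univ x)) q hq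
  refine ⟨F, hQk, hFlt, ?_⟩
  have hNF : ∀ h ∈ G, h ∈ Subgroup.normalizer (Q : Set (Perm α)) → ∀ x ∈ F, h x ∈ F := by
    intro h _ hh x hx
    refine (memF _).2 fun q hq => ?_
    have h1 := (memF x).1 hx (h⁻¹ * q * h) ((Subgroup.mem_normalizer_iff''.1 hh q).1 hq)
    rw [Perm.mul_apply, Perm.mul_apply, Perm.inv_eq_iff_eq] at h1
    exact h1
  have hQle : ∀ A : Finset α, A ⊆ F → Q ≤ pstab G A := fun A hA q hq => ⟨hQG hq, fun x hx => (memF x).1 (hA hx) q hq⟩
  by_cases hW : ∀ A : Finset α, A ⊆ F → A.card = k → ¬ p ∣ Q.relIndex (pstab G A)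
  · -- Witt
    intro u v hu hv
    obtain ⟨h, hh, huv⟩ := hG (fun i => (u i : α)) (fun i => (v i : α)) (Subtype.coe_injective.comp hu)
      (Subtype.coe_injective.comp hv)
    set A : Finset α := Finset.univ.image fun i => (v i : α) with hA
    have hAF : A ⊆ F := fun x hx => by
      obtain ⟨i, -, rfl⟩ := Finset.mem_image.1 hx
      exact (v i).2
    have hAk : A.card = k := by
      rw [hA, Finset.card_image_of_injective _ (fun a b hab => hv (Subtype.ext hab)), Finset.card_univ, Fintype.card_fin]
    set R := pstab G A with hR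
    have hQR : Q ≤ R := hQle A hAF
    set Q' := Q.map (MulAut.conj h).toMonoidHom with hQ'
    have hQ'R : Q' ≤ R := by
      rintro _ ⟨q, hq, rfl⟩
      refine ⟨G.mul_mem (G.mul_mem hh (hQG hq)) (G.inv_mem hh), fun x hx => ?_⟩
      obtain ⟨i, -, rfl⟩ := Finset.mem_image.1 hx
      show (h * q * h⁻¹) (v i : α) = v i
      rw [Perm.mul_apply, Perm.mul_apply, Perm.inv_eq_iff_eq.2 (huv i).symm, (memF _).1 (u i).2 q hq, huv]
    let S1 : Sylow p R := IsPGroup.toSylow (p := p) (P := Q.subgroupOf R)
      (hQp.comap_of_injective _ R.subtype_injective) (hW A hAF hAk)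
    have hQ'p : IsPGroup p (Q'.subgroupOf R) := (hQp.map _).comap_of_injective _ R.subtype_injective
    have hidx : ¬ p ∣ Q'.relIndex R := by
      intro hd
      apply hW A hAF hAk
      have hc : Nat.card Q' = Nat.card Q := Subgroup.card_map_of_injective (MulAut.conj h).injective
      have e1 := (Q.subgroupOf R).card_mul_index
      have e2 := (Q'.subgroupOf R).card_mul_index
      rw [Nat.card_congr (Subgroup.subgroupOfEquivOfLe hQR).toEquiv] at e1
      rw [Nat.card_congr (Subgroup.subgroupOfEquivOfLe hQ'R).toEquiv, hc, ← e1] at e2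
      rw [Subgroup.relIndex] at hd ⊢
      rwa [← Nat.eq_of_mul_eq_mul_left Nat.card_pos e2]
    let S2 : Sylow p R := IsPGroup.toSylow (p := p) (P := Q'.subgroupOf R) hQ'p hidx
    obtain ⟨r, hr⟩ := MulAction.exists_smul_eq R S2 S1
    have hN : (r : Perm α) * h ∈ Subgroup.normalizer (Q : Set (Perm α)) := by
      have hone : ∀ q ∈ Q, (r : Perm α) * h * q * ((r : Perm α) * h)⁻¹ ∈ Q := by
        intro q hq
        have hq' : h * q * h⁻¹ ∈ Q' := ⟨q, hq, rfl⟩
        have h1 : MulAut.conj r • (⟨h * q * h⁻¹, hQ'R hq'⟩ : R) ∈ ((r • S2 : Sylow p R) : Subgroup R) := by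
          rw [Sylow.coe_subgroup_smul]
          exact Subgroup.smul_mem_pointwise_smul _ _ _ hq'
        rw [hr] at h1
        have h2 : ((r : Perm α)) * (h * q * h⁻¹) * (r : Perm α)⁻¹ ∈ Q := h1
        rw [show (r : Perm α) * h * q * ((r : Perm α) * h)⁻¹ = r * (h * q * h⁻¹) * (r : Perm α)⁻¹ by group]
        exact h2
      exact Subgroup.mem_normalizer_fintype hone
    obtain ⟨σ, hσ, hσx⟩ := exists_mem_restr (G.mul_mem r.2.1 hh) (hNF _ (G.mul_mem r.2.1 hh) hN)
    refine ⟨σ, hσ, fun i => Subtype.ext ?_⟩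
    rw [← hσx, Perm.mul_apply, huv i]
    exact r.2.2 _ (Finset.mem_image.2 ⟨i, Finset.mem_univ _, rfl⟩)
  · -- Gleason
    push Not at hW
    obtain ⟨A₀, hA₀F, hA₀k, hA₀⟩ := hW
    have hall : ∀ A : Finset α, A ⊆ F → A.card = k → p ∣ Q.relIndex (pstab G A) := by
      intro A hAF hAk
      -- the pointwise stabilizers are conjugate
      obtain ⟨x, hx⟩ : ∃ x : Fin k → α, Function.Injective x ∧ Finset.univ.image x = A := by
        let e := (Finset.equivFinOfCardEq hAk).symm
        exact ⟨fun i => (e i : α), Subtype.coe_injective.comp e.injective, by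
          ext z
          simp only [Finset.mem_image, Finset.mem_univ, true_and]
          exact ⟨fun ⟨i, hi⟩ => hi ▸ (e i).2, fun hz => ⟨e.symm ⟨z, hz⟩, by simp⟩⟩⟩
      obtain ⟨y, hy⟩ : ∃ y : Fin k → α, Function.Injective y ∧ Finset.univ.image y = A₀ := by
        let e := (Finset.equivFinOfCardEq hA₀k).symm
        exact ⟨fun i => (e i : α), Subtype.coe_injective.comp e.injective, by
          ext z
          simp only [Finset.mem_image, Finset.mem_univ, true_and]
          exact ⟨fun ⟨i, hi⟩ => hi ▸ (e i).2, fun hz => ⟨e.symm ⟨z, hz⟩, by simp⟩⟩⟩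
      obtain ⟨h, hh, hxy⟩ := hG x y hx.1 hy.1
      have hmap : (pstab G A).map (MulAut.conj h).toMonoidHom = pstab G A₀ := by
        refine le_antisymm ?_ fun r hr => ⟨h⁻¹ * r * h, ⟨G.mul_mem (G.mul_mem (G.inv_mem hh) hr.1) hh, fun z hz => ?_⟩, by simp [mul_assoc]⟩
        · rintro _ ⟨r, hr, rfl⟩
          refine ⟨G.mul_mem (G.mul_mem hh hr.1) (G.inv_mem hh), fun z hz => ?_⟩
          obtain ⟨i, -, rfl⟩ := Finset.mem_image.1 (hy.2.symm ▸ hz)
          show (h * r * h⁻¹) (y i) = y i
          rw [Perm.mul_apply, Perm.mul_apply, Perm.inv_eq_iff_eq.2 (hxy i).symm,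
            hr.2 _ (hx.2 ▸ Finset.mem_image.2 ⟨i, Finset.mem_univ _, rfl⟩), hxy]
        · obtain ⟨i, -, rfl⟩ := Finset.mem_image.1 (hx.2.symm ▸ hz)
          rw [Perm.mul_apply, Perm.mul_apply, hxy, hr.2 _ (hy.2 ▸ Finset.mem_image.2 ⟨i, Finset.mem_univ _, rfl⟩),
            Perm.inv_eq_iff_eq, hxy]
      have hc : Nat.card (pstab G A) = Nat.card (pstab G A₀) := by
        rw [← hmap, Subgroup.card_map_of_injective (MulAut.conj h).injective]
      have e1 := (Q.subgroupOf (pstab G A)).card_mul_index
      have e2 := (Q.subgroupOf (pstab G A₀)).card_mul_index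
      rw [Nat.card_congr (Subgroup.subgroupOfEquivOfLe (hQle A hAF)).toEquiv, hc] at e1
      rw [Nat.card_congr (Subgroup.subgroupOfEquivOfLe (hQle A₀ hA₀F)).toEquiv, ← e1] at e2
      rw [Subgroup.relIndex] at hA₀ ⊢
      rwa [← Nat.eq_of_mul_eq_mul_left Nat.card_pos e2]
    refine tr_of_gleason (restr G F) (k := k) (p := p) (by rw [Fintype.card_coe]; exact hQk) fun A hAk => ?_
    set A' : Finset α := A.map (Function.Embedding.subtype _) with hA'
    have hA'F : A' ⊆ F := fun x hx => by
      obtain ⟨y, -, rfl⟩ := Finset.mem_map.1 hx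
      exact y.2
    have hA'k : A'.card = k := by rw [hA', Finset.card_map, hAk]
    set R := pstab G A' with hR
    have hQR := hQle A' hA'F
    obtain ⟨P, hP⟩ := (hQp.comap_of_injective _ R.subtype_injective : IsPGroup p (Q.subgroupOf R)).exists_le_sylow
    set P' : Subgroup (Perm α) := (P : Subgroup R).map R.subtype with hP'
    have hP'p : IsPGroup p P' := P.isPGroup'.map _
    have hQP' : Q ≤ P' := fun q hq => ⟨⟨q, hQR hq⟩, hP hq, rfl⟩
    have hlt : Q < P' := by
      refine lt_of_le_of_ne hQP' fun he => P.not_dvd_index ?_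
      have : (P : Subgroup R) = Q.subgroupOf R := by
        rw [he, hP', Subgroup.subgroupOf, Subgroup.comap_map_eq_self_of_injective R.subtype_injective]
      rw [this]
      exact hall A' hA'F hA'k
    haveI := hP'p.isNilpotent
    obtain ⟨N, hQN, hNP, hNn⟩ : ∃ N : Subgroup (Perm α), Q < N ∧ N ≤ P' ∧ N ≤ Subgroup.normalizer (Q : Set (Perm α)) := by
      have h1 : Q.subgroupOf P' < ⊤ := by
        rw [lt_top_iff_ne_top, ne_eq, Subgroup.subgroupOf_eq_top]
        exact not_le_of_gt hlt
      have h2 := Group.normalizerCondition_of_isNilpotent _ h1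
      obtain ⟨n, hn, hnQ⟩ := SetLike.exists_of_lt h2
      refine ⟨Q ⊔ Subgroup.zpowers (n : Perm α), lt_of_le_of_ne le_sup_left fun he => hnQ ?_,
        sup_le hQP' (Subgroup.zpowers_le.2 n.2), sup_le Subgroup.le_normalizer (Subgroup.zpowers_le.2 ?_)⟩
      · exact he ▸ (le_sup_right (a := Q) (Subgroup.mem_zpowers (n : Perm α)))
      · refine Subgroup.mem_normalizer_fintype fun q hq => ?_
        exact (Subgroup.mem_normalizer_iff.1 hn ⟨q, hQP' hq⟩).1 hq
    have hNG : N ≤ G := fun x hx => by
      obtain ⟨y, -, rfl⟩ := hNP hx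
      exact y.2.1
    have hNA : ∀ g ∈ N, ∀ x ∈ A', g x = x := fun g hg x hx => by
      obtain ⟨y, -, rfl⟩ := hNP hg
      exact y.2.2 x hx
    -- the group induced on `F`
    let φ : N →* Perm ↥F :=
      { toFun := fun n => (exists_mem_restr (hNG n.2) (hNF _ (hNG n.2) (hNn n.2))).choose
        map_one' := Equiv.ext fun x => Subtype.ext
          (((exists_mem_restr (hNG N.one_mem) (hNF _ (hNG N.one_mem) (hNn N.one_mem))).choose_spec.2 x).symm)
        map_mul' := fun a b => Equiv.ext fun x => Subtype.ext (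
          ((exists_mem_restr (hNG (a * b).2) (hNF _ (hNG (a * b).2) (hNn (a * b).2))).choose_spec.2 x).symm.trans
            ((congrArg (fun y => (a : Perm α) y)
              ((exists_mem_restr (hNG b.2) (hNF _ (hNG b.2) (hNn b.2))).choose_spec.2 x)).trans
            ((exists_mem_restr (hNG a.2) (hNF _ (hNG a.2) (hNn a.2))).choose_spec.2 _))) }
    have hφ : ∀ (n : N) (x : ↥F), (n : Perm α) x = φ n x := fun n x =>
      (exists_mem_restr (hNG n.2) (hNF _ (hNG n.2) (hNn n.2))).choose_spec.2 x
    refine ⟨φ.range, ?_, (hP'p.to_le hNP).of_surjective φ.rangeRestrict φ.rangeRestrict_surjective, fun x => ⟨fun hx => ?_, fun hx => ?_⟩⟩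
    · rintro _ ⟨n, rfl⟩
      exact ⟨n, hNG n.2, hφ n⟩
    · by_contra hxA
      have hmem : N ∈ S := by
        refine ⟨hNG, hP'p.to_le hNP, fun hb => hQ1 (le_bot_iff.1 (hb ▸ hQN.le)), ?_⟩
        calc k < (insert (x : α) A').card := by
              rw [Finset.card_insert_of_notMem ?_, hA'k]
              · omega
              · intro hm
                obtain ⟨y, hy, hyx⟩ := Finset.mem_map.1 hm
                exact hxA (Subtype.ext hyx ▸ hy)
          _ ≤ (fixS N).card := Finset.card_le_card fun y hy => Finset.mem_filter.2 ⟨Finset.mem_univ _, fun n hn => by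
              rcases Finset.mem_insert.1 hy with hyx | hy
              · rw [hyx, hφ ⟨n, hn⟩ x, hx _ ⟨⟨n, hn⟩, rfl⟩]
              · exact hNA n hn y hy⟩
      exact hQN.not_ge (hmax hmem hQN.le)
    · rintro _ ⟨n, rfl⟩
      exact Subtype.ext ((hφ n x).symm.trans (hNA n n.2 _ (Finset.mem_map.2 ⟨x, hx, rfl⟩)))

end Cfsg.Lib.Perm.LW
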