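import Cfsg.Agent.Lib.Perm.LW.Tools
import Cfsg.Agent.Lib.Perm.LW.Hom

/-!
# Homogeneity against transitivity for small sets

If `G` is `i`-transitive, homogeneous on sets of `i + 1` and `i + 2` points, but not `(i + 1)`-transitive, then
only the identity fixes `i + 1` points. For `i ≤ 3` and degree at least `2i + 4` counting leaves a few orders,
none of which survives Sylow's theorem.
-/

set_option autoImplicit false
set_option linter.style.haveILetI false
set_option linter.unusedSectionVars false

namespace Cfsg.Lib.Perm.LW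

open Equiv

variable {α : Type*} [Fintype α] [DecidableEq α] {G : Subgroup (Perm α)}

/-- An order excluded by counting the Sylow subgroups of a large prime. -/
theorem no_large_prime {p q : ℕ} (hp : p.Prime) (hn : Fintype.card α < 2 * p) (hn1 : Fintype.card α ≤ p + 1)
    (hG : Nat.card G = p * q) (hpq : ¬ p ∣ q)
    (hcount : ∀ f ≤ p - 1, f ∣ p - 1 → f ∣ q → q / f % p ≠ 1) : False := by
  haveI : Fact p.Prime := ⟨hp⟩
  obtain ⟨x, hx⟩ := exists_prime_orderOf_dvd_card' (G := G) p (hG ▸ dvd_mul_right _ _)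
  have hN := card_normalizer_dvd (G := G) (c := x) hp hx hn hn1
  obtain ⟨P, hP⟩ := (IsPGroup.of_card (p := p) (n := 1) (G := Subgroup.zpowers x)
    (by rw [Nat.card_zpowers, hx, pow_one])).exists_le_sylow
  have hq0 : q ≠ 0 := fun h => hpq (h ▸ dvd_zero p)
  have hPc : Nat.card P = p := by
    rw [P.card_eq_multiplicity, hG, Nat.factorization_mul hp.ne_zero hq0, Finsupp.add_apply,
      hp.factorization_self, Nat.factorization_eq_zero_of_not_dvd hpq, Nat.add_zero, pow_one]
  have hPx : Subgroup.zpowers x = (P : Subgroup G) :=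
    Subgroup.eq_of_le_of_card_ge hP (by rw [Nat.card_zpowers, hx]; exact hPc.le)
  have hdvd : p ∣ Nat.card (Subgroup.normalizer ((Subgroup.zpowers x : Subgroup G) : Set G)) := by
    have h1 := Subgroup.card_dvd_of_le (Subgroup.le_normalizer (H := Subgroup.zpowers x))
    rwa [Nat.card_zpowers, hx] at h1
  obtain ⟨f, hf⟩ := hdvd
  rw [hf] at hN
  have hfp : f ∣ p - 1 := Nat.dvd_of_mul_dvd_mul_left hp.pos hN
  have hmod := card_sylow_modEq_one p G
  have hidx := (Subgroup.normalizer ((Subgroup.zpowers x : Subgroup G) : Set G)).card_mul_index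
  rw [hPx] at hf hidx
  erw [← P.card_eq_index_normalizer] at hidx
  rw [hf, hG, mul_assoc] at hidx
  have hidx' : f * Nat.card (Sylow p G) = q := Nat.eq_of_mul_eq_mul_left hp.pos hidx
  have hp1 : 0 < p - 1 := by have := hp.two_le; omega
  have hf0 : 0 < f := Nat.pos_of_dvd_of_pos hfp hp1
  refine hcount f (Nat.le_of_dvd hp1 hfp) hfp ⟨_, hidx'.symm⟩ ?_
  rw [← hidx', Nat.mul_div_cancel_left _ hf0]
  rw [Nat.ModEq, Nat.mod_eq_of_lt hp.one_lt] at hmod
  exact hmod

set_option synthInstance.maxSize 2000 in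
/-- The arithmetic left by double counting. -/
theorem candidates : ∀ i < 4, ∀ s < 25, ∀ m < 62, (1 ≤ i ∧ 2 ≤ s ∧ i + 4 ≤ m ∧ m % s = 0 ∧
    (i + 1).factorial % s = 0 ∧ (i + 2).factorial % (s * (m - 1)) = 0) →
    (i = 2 ∧ s = 3 ∧ m = 9) ∨ (i = 3 ∧ s = 2 ∧ m = 16) ∨ (i = 3 ∧ s = 3 ∧ m = 9) ∨ (i = 3 ∧ s = 3 ∧ m = 21) ∨
      (i = 3 ∧ s = 4 ∧ m = 16) ∨ (i = 3 ∧ s = 8 ∧ m = 16) := by
  decide +kernel

/-- What `i`-transitivity, homogeneity on `i + 1` and `i + 2` points and failure of `(i + 1)`-transitivity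
give: only the identity fixes `i + 1` points, and strong divisibilities. -/
theorem step_data {i : ℕ} (hn : i + 2 ≤ Fintype.card α) (hH1 : Hom G (i + 1)) (hH2 : Hom G (i + 2))
    (hT : Tr G i) (hnt : ¬ Tr G (i + 1)) :
    ∃ a s : ℕ, Fintype.card α - i = a * s ∧ 2 ≤ s ∧ Nat.card G = (Fintype.card α).descFactorial i * a ∧
      s ∣ (i + 1).factorial ∧ s * (Fintype.card α - i - 1) ∣ (i + 2).factorial ∧
      (∀ B : Finset α, B.card = i + 1 → pstab G B = ⊥) ∧
      (∀ B : Finset α, B.card = i → Nat.card (pstab G B) = a) := by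
  classical
  obtain ⟨x⟩ : Nonempty (Fin i ↪ α) :=
    Function.Embedding.nonempty_of_card_le (by rw [Fintype.card_fin]; omega)
  set A : Finset α := Finset.univ.image x with hAdef
  have hA : A.card = i := by simp [hAdef, Finset.card_image_of_injective _ x.injective]
  by_cases htrans : ∀ y z, y ∉ A → z ∉ A → z ∈ orb G A y
  · refine (hnt ?_).elim
    intro u v hu hv
    obtain ⟨g, hg, hgu⟩ := hT (u ∘ Fin.castSucc) x (hu.comp (Fin.castSucc_injective _)) x.injective
    obtain ⟨g', hg', hgv⟩ := hT (v ∘ Fin.castSucc) x (hv.comp (Fin.castSucc_injective _)) x.injective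
    have hout : ∀ (k : Perm α) (w : Fin (i + 1) → α), Function.Injective w → (∀ l, k (w l.castSucc) = x l) →
        k (w (Fin.last i)) ∉ A := by
      intro k w hw hk hmem
      obtain ⟨l, -, hl⟩ := Finset.mem_image.1 hmem
      exact (Fin.castSucc_lt_last l).ne (hw (k.injective ((hk l).trans hl)))
    obtain ⟨r, hr, hrz⟩ := mem_orb.1 (htrans _ _ (hout g u hu hgu) (hout g' v hv hgv))
    refine ⟨g'⁻¹ * r * g, G.mul_mem (G.mul_mem (G.inv_mem hg') hr.1) hg, Fin.lastCases ?_ fun l => ?_⟩
    · rw [Perm.mul_apply, Perm.mul_apply, hrz, Perm.inv_eq_iff_eq]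
    · rw [Perm.mul_apply, Perm.mul_apply, show g (u l.castSucc) = x l from hgu l,
        hr.2 _ (Finset.mem_image_of_mem _ (Finset.mem_univ l)), Perm.inv_eq_iff_eq]
      exact (hgv l).symm
  push Not at htrans
  obtain ⟨y, z, hy, hz, hyz⟩ := htrans
  have hins : ∀ w, w ∉ A → (insert w A).card = i + 1 := fun w hw => by
    rw [Finset.card_insert_of_notMem hw, hA]
  have hins2 : ∀ w, w ∉ insert y A → (insert w (insert y A)).card = i + 2 := fun w hw => by
    rw [Finset.card_insert_of_notMem hw, hins y hy]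
  set e := Nat.card (pstab G (insert y A)) with he
  have hepos : 0 < e := Nat.card_pos
  have horbA : ∀ w, w ∉ A → (orb G A w).card * e = Nat.card (pstab G A) := fun w hw => by
    rw [he, hH1.card_pstab (hins y hy) (hins w hw), card_orb_mul]
  set a := (orb G A y).card with ha
  have horbcard : ∀ w, w ∉ A → (orb G A w).card = a := fun w hw =>
    Nat.eq_of_mul_eq_mul_right hepos ((horbA w hw).trans (horbA y hy).symm)
  have hzΓ : z ∉ insert y A := by
    simp only [Finset.mem_insert, not_or]
    exact ⟨fun h => hyz (by rw [h]; exact self_mem_orb A y), hz⟩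
  set L := (orb G (insert y A) z).card with hL
  have horbP : ∀ w, w ∉ insert y A → (orb G (insert y A) w).card = L := by
    intro w hw
    have h1 := card_orb_mul (G := G) (insert y A) w
    rw [hH2.card_pstab (hins2 w hw) (hins2 z hzΓ), ← card_orb_mul (G := G) (insert y A) z] at h1
    exact Nat.eq_of_mul_eq_mul_right Nat.card_pos h1
  have hsub : ∀ w, orb G (insert y A) w ⊆ orb G A w := fun w v hv => by
    obtain ⟨r, hr, hrv⟩ := mem_orb.1 hv
    exact mem_orb.2 ⟨r, ⟨hr.1, fun u hu => hr.2 u (Finset.mem_insert_of_mem hu)⟩, hrv⟩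
  have hnotmem : ∀ u v, u ∉ A → v ∈ orb G A u → v ∉ A := fun u v hu hv => orb_disjoint_self hu v hv
  have hLa : L ∣ a := by
    rw [← horbcard z hz]
    refine dvd_card_of_orbs (G := G) (A := insert y A) (fun w hw v hv => orb_eq hw ▸ hsub w hv) fun w hw =>
      horbP w ?_
    simp only [Finset.mem_insert, not_or]
    refine ⟨fun h => hyz ?_, hnotmem z w hz hw⟩
    rw [h] at hw
    rw [orb_eq hw]
    exact self_mem_orb A z
  have hLa1 : L ∣ a - 1 := by
    rw [ha, ← Finset.card_erase_of_mem (self_mem_orb (G := G) A y)]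
    refine dvd_card_of_orbs (G := G) (A := insert y A) (fun w hw v hv => Finset.mem_erase.2 ⟨?_, ?_⟩) fun w hw =>
      horbP w ?_
    · rintro rfl
      obtain ⟨r, hr, hrw⟩ := mem_orb.1 hv
      exact (Finset.mem_erase.1 hw).1 (r.injective (hrw.trans (hr.2 _ (Finset.mem_insert_self _ _)).symm))
    · exact orb_eq (Finset.mem_erase.1 hw).2 ▸ hsub w hv
    · simp only [Finset.mem_insert, not_or]
      exact ⟨(Finset.mem_erase.1 hw).1, hnotmem y w hy (Finset.mem_erase.1 hw).2⟩
  have hapos : 0 < a := Finset.card_pos.2 ⟨y, self_mem_orb A y⟩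
  have hL1 : L = 1 := Nat.dvd_one.1 (by
    have := Nat.dvd_sub hLa hLa1
    rwa [show a - (a - 1) = 1 by omega] at this)
  have he1 : e = 1 := by
    have hbot : pstab G (insert y A) = ⊥ := by
      rw [Subgroup.eq_bot_iff_forall]
      intro r hr
      refine Equiv.ext fun w => ?_
      by_cases hw : w ∈ insert y A
      · exact hr.2 w hw
      · obtain ⟨v, hv⟩ := Finset.card_eq_one.1 ((horbP w hw).trans hL1)
        have h1 : r w = v := Finset.mem_singleton.1 (hv ▸ mem_orb.2 ⟨r, hr, rfl⟩)
        have h2 : w = v := Finset.mem_singleton.1 (hv ▸ self_mem_orb _ w)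
        exact h1.trans h2.symm
    rw [he, hbot, Subgroup.card_bot]
  have hR : Nat.card (pstab G A) = a := by rw [← horbA y hy, ← ha, he1, mul_one]
  set m := Fintype.card α - i with hm
  have hadvd : a ∣ m := by
    rw [hm, ← hA, ← Finset.card_compl]
    exact dvd_card_of_orbs (fun w hw v hv => Finset.mem_compl.2 (hnotmem w v (Finset.mem_compl.1 hw) hv))
      fun w hw => horbcard w (Finset.mem_compl.1 hw)
  obtain ⟨s, hs⟩ := hadvd
  have hs2 : 2 ≤ s := by
    have hdisj : Disjoint (orb G A y) (orb G A z) := by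
      rw [Finset.disjoint_left]
      intro w hwy hwz
      apply hyz
      rw [← orb_eq hwy, orb_eq hwz]
      exact self_mem_orb A z
    have h2 : (orb G A y ∪ orb G A z).card ≤ Aᶜ.card := Finset.card_le_card fun w hw => by
      rcases Finset.mem_union.1 hw with hw | hw
      · exact Finset.mem_compl.2 (hnotmem y w hy hw)
      · exact Finset.mem_compl.2 (hnotmem z w hz hw)
    rw [Finset.card_union_of_disjoint hdisj, horbcard z hz, ← ha, Finset.card_compl, hA, ← hm, hs] at h2
    by_contra hlt
    interval_cases s <;> omega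
  have hG : Nat.card G = (Fintype.card α).descFactorial i * a := by
    rw [hT.card_eq (x := x), ← hAdef, hR]
  have hd : 0 < (Fintype.card α).descFactorial i := by
    rw [Nat.pos_iff_ne_zero, ne_eq, Nat.descFactorial_eq_zero_iff_lt]
    omega
  have hd1 : (Fintype.card α).descFactorial (i + 1) = (Fintype.card α).descFactorial i * m := by
    rw [Nat.descFactorial_succ, mul_comm, hm]
  have hd2 : (Fintype.card α).descFactorial (i + 2) = (Fintype.card α).descFactorial i * (m * (m - 1)) := by
    rw [Nat.descFactorial_succ, hd1, show Fintype.card α - (i + 1) = m - 1 by omega]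
    ring
  have hs_fac : s ∣ (i + 1).factorial := by
    have h1 : (i + 1).factorial * (Fintype.card α).choose (i + 1) ∣ (i + 1).factorial * Nat.card G :=
      Nat.mul_dvd_mul_left _ (hH1.choose_dvd (by omega))
    rw [← Nat.descFactorial_eq_factorial_mul_choose, hd1, hG, mul_left_comm (i + 1).factorial] at h1
    have h2 := Nat.dvd_of_mul_dvd_mul_left hd h1
    rw [hs, mul_comm (i + 1).factorial a] at h2
    exact Nat.dvd_of_mul_dvd_mul_left hapos h2
  have hsm : s * (m - 1) ∣ (i + 2).factorial := by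
    have h1 : (i + 2).factorial * (Fintype.card α).choose (i + 2) ∣ (i + 2).factorial * Nat.card G :=
      Nat.mul_dvd_mul_left _ (hH2.choose_dvd (by omega))
    rw [← Nat.descFactorial_eq_factorial_mul_choose, hd2, hG, mul_left_comm (i + 2).factorial] at h1
    have h2 := Nat.dvd_of_mul_dvd_mul_left hd h1
    rw [hs, mul_comm (i + 2).factorial a, mul_assoc a s] at h2
    rw [hs]
    exact Nat.dvd_of_mul_dvd_mul_left hapos h2
  refine ⟨a, s, hs, hs2, hG, hs_fac, hsm, fun B hB => ?_, fun B hB => ?_⟩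
  · refine Subgroup.eq_bot_of_card_eq _ ?_
    rw [hH1.card_pstab hB (hins y hy), ← he, he1]
  · rw [hT.hom.card_pstab hB hA, hR]

/-- The step for small sets. -/
theorem tr_step_small {i : ℕ} (hi1 : 1 ≤ i) (hi3 : i ≤ 3) (hn : 2 * (i + 2) ≤ Fintype.card α)
    (hH1 : Hom G (i + 1)) (hH2 : Hom G (i + 2)) (hT : Tr G i) : Tr G (i + 1) := by
  by_contra hnt
  obtain ⟨a, s, hs, hs2, hG, hs_fac, hsm, -, -⟩ := step_data (by omega) hH1 hH2 hT hnt
  obtain ⟨m, hm⟩ : ∃ m, m = Fintype.card α - i := ⟨_, rfl⟩
  rw [← hm] at hs hsm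
  have hfac : (i + 2).factorial ≤ 120 := Nat.factorial_le (show i + 2 ≤ 5 by omega)
  have hfac1 : (i + 1).factorial ≤ 24 := Nat.factorial_le (show i + 1 ≤ 4 by omega)
  have hsb : s ≤ 24 := (Nat.le_of_dvd (Nat.factorial_pos _) hs_fac).trans hfac1
  have hmb : s * (m - 1) ≤ 120 := (Nat.le_of_dvd (Nat.factorial_pos _) hsm).trans hfac
  have hmb2 : m - 1 ≤ 60 := by nlinarith
  rcases candidates i (by omega) s (by omega) m (by omega) ⟨hi1, hs2, by omega, by rw [hs]; simp,
      Nat.mod_eq_zero_of_dvd hs_fac, Nat.mod_eq_zero_of_dvd hsm⟩ with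
    ⟨rfl, rfl, hmv⟩ | ⟨rfl, rfl, hmv⟩ | ⟨rfl, rfl, hmv⟩ | ⟨rfl, rfl, hmv⟩ | ⟨rfl, rfl, hmv⟩ | ⟨rfl, rfl, hmv⟩
  · have hn' : Fintype.card α = 11 := by omega
    have hav : a = 3 := by omega
    rw [hn', hav] at hG
    exact no_large_prime (p := 11) (q := 30) (by norm_num) (by omega) (by omega) hG (by decide) (by decide)
  · have hn' : Fintype.card α = 19 := by omega
    have hav : a = 8 := by omega
    rw [hn', hav] at hG
    exact no_large_prime (p := 19) (q := 2448) (by norm_num) (by omega) (by omega) hG (by decide) (by decide)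
  · have hn' : Fintype.card α = 12 := by omega
    have hav : a = 3 := by omega
    rw [hn', hav] at hG
    exact no_large_prime (p := 11) (q := 360) (by norm_num) (by omega) (by omega) hG (by decide) (by decide)
  · have hn' : Fintype.card α = 24 := by omega
    have hav : a = 7 := by omega
    rw [hn', hav] at hG
    exact no_large_prime (p := 23) (q := 3696) (by norm_num) (by omega) (by omega) hG (by decide) (by decide)
  · have hn' : Fintype.card α = 19 := by omega
    have hav : a = 4 := by omega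
    rw [hn', hav] at hG
    exact no_large_prime (p := 19) (q := 1224) (by norm_num) (by omega) (by omega) hG (by decide) (by decide)
  · have hn' : Fintype.card α = 19 := by omega
    have hav : a = 2 := by omega
    rw [hn', hav] at hG
    exact no_large_prime (p := 19) (q := 612) (by norm_num) (by omega) (by omega) hG (by decide) (by decide)

end Cfsg.Lib.Perm.LW
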