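import Cfsg.Agent.Lib.Perm.LW.Induced
import Cfsg.Agent.Lib.Perm.LW.Small

/-!
# Homogeneous groups that are not transitive on tuples

`G` is `i`-transitive, homogeneous on `i + 1` and `i + 2` points, not `(i + 1)`-transitive. Then the degree is
`i + 2` and `G` is alternating, or the parameters are among four small exceptions.
-/

set_option autoImplicit false
set_option linter.style.haveILetI false
set_option linter.unusedSectionVars false

namespace Cfsg.Lib.Perm.LW

open Equiv
open scoped Pointwise

/-- The Sylow subgroups of prime order `p` account for `p - 1` elements each. -/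
theorem mul_le_card_orderOf {K : Type*} [Group K] [Finite K] {p : ℕ} [hp : Fact p.Prime]
    (hP : ∀ P : Sylow p K, Nat.card P = p) :
    Nat.card (Sylow p K) * (p - 1) ≤ Nat.card {x : K // orderOf x = p} := by
  classical
  have he : ∀ P : Sylow p K, ∃ f : Fin (p - 1) → K, Function.Injective f ∧ ∀ i, f i ∈ P ∧ orderOf (f i) = p := by
    intro P
    haveI := Fintype.ofFinite K
    have hcard : ((Finset.univ.filter fun x => x ∈ P).erase 1).card = p - 1 := by
      rw [Finset.card_erase_of_mem (by simp [P.1.one_mem]), ← Fintype.card_subtype, ← Nat.card_eq_fintype_card]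
      exact congrArg (· - 1) (hP P)
    let e := (Finset.equivFinOfCardEq hcard).symm
    refine ⟨fun i => (e i : K), Subtype.val_injective.comp e.injective, fun i => ?_⟩
    have hm := (e i).2
    simp only [Finset.mem_erase, Finset.mem_filter, Finset.mem_univ, true_and] at hm
    refine ⟨hm.2, ?_⟩
    have h1 : orderOf (e i : K) ∣ p := by
      have h2 := orderOf_dvd_natCard (⟨(e i : K), hm.2⟩ : (P : Subgroup K))
      rwa [Subgroup.orderOf_mk, hP P] at h2
    rcases (Nat.dvd_prime hp.out).1 h1 with h | h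
    · exact absurd (orderOf_eq_one_iff.1 h) hm.1
    · exact h
  choose f hf hmem using he
  have heq : ∀ (P : Sylow p K) i, Subgroup.zpowers (f P i) = (P : Subgroup K) := fun P i =>
    Subgroup.eq_of_le_of_card_ge (Subgroup.zpowers_le.2 (hmem P i).1)
      (by rw [Nat.card_zpowers, (hmem P i).2]; exact (hP P).le)
  calc Nat.card (Sylow p K) * (p - 1) = Nat.card (Sylow p K × Fin (p - 1)) := by
        rw [Nat.card_prod, Nat.card_eq_fintype_card (α := Fin (p - 1)), Fintype.card_fin]
    _ ≤ _ := Nat.card_le_card_of_injective (fun z => ⟨f z.1 z.2, (hmem z.1 z.2).2⟩) (by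
        rintro ⟨P, i⟩ ⟨Q, l⟩ h
        have h' : f P i = f Q l := congrArg Subtype.val h
        have hPQ : P = Q := Sylow.ext (by rw [← heq P i, h', heq Q l])
        subst hPQ
        rw [hf P h'])

variable {α : Type*} [Fintype α] [DecidableEq α] {G : Subgroup (Perm α)}

/-- The normalizer of a cycle of prime length `p`, when only the identity fixes `p` points. -/
theorem card_normalizer_dvd' {p : ℕ} (hp : p.Prime) {c : G} (hc : orderOf c = p) (hn : Fintype.card α < 2 * p)
    (hS : ∀ g ∈ G, g ≠ 1 → (fixF g).card < p) :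
    Nat.card (Subgroup.normalizer ((Subgroup.zpowers c : Subgroup G) : Set G)) ∣ p * (p - 1) := by
  classical
  set Z : Subgroup G := Subgroup.zpowers c with hZ
  let φ := Subgroup.normalizerMonoidHom Z
  have h1 : Nat.card φ.range ∣ p - 1 := by
    refine (Subgroup.card_subgroup_dvd_card _).trans (dvd_of_eq ?_)
    rw [IsCyclic.card_mulAut, hZ, Nat.card_zpowers, hc, Nat.totient_prime hp]
  have h2 : Nat.card φ.ker ∣ p := by
    have hco : orderOf (c : Perm α) = p := by rw [Subgroup.orderOf_coe, hc]
    obtain ⟨j, hj⟩ := Equiv.Perm.cycleType_prime_order (σ := (c : Perm α)) (by rw [hco]; exact hp)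
    rw [hco] at hj
    have hle := Equiv.Perm.sum_cycleType_le (c : Perm α)
    rw [hj, Multiset.sum_replicate, smul_eq_mul] at hle
    have hj0 : j = 0 := by nlinarith
    subst hj0
    have hcyc : (c : Perm α).IsCycle := by
      rw [← Equiv.Perm.card_cycleType_eq_one, hj]; simp
    have hsupp : (c : Perm α).support.card = p := by
      rw [← Equiv.Perm.sum_cycleType, hj]; simp
    let f : φ.ker →* Subgroup.zpowers (c : Perm α) :=
      { toFun := fun x => ⟨((x.1 : G) : Perm α), by
          have hx : (x.1 : G) ∈ Subgroup.centralizer (Z : Set G) :=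
            Subgroup.mem_subgroupOf.1 ((Subgroup.normalizerMonoidHom_ker Z).le x.2)
          have hcomm : Commute ((x.1 : G) : Perm α) (c : Perm α) :=
            (congrArg Subtype.val (Subgroup.mem_centralizer_iff.1 hx c (Subgroup.mem_zpowers c))).symm
          obtain ⟨hc', hmem⟩ := hcyc.commute_iff.1 hcomm
          obtain ⟨i, hi⟩ := Subgroup.mem_zpowers_iff.1 hmem
          have hy : (c : Perm α) ^ (-i) * ((x.1 : G) : Perm α) = 1 := by
            by_contra hne
            have h3 := hS _ (G.mul_mem (G.zpow_mem c.2 _) (x.1 : G).2) hne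
            have h4 : (c : Perm α).support ⊆ fixF ((c : Perm α) ^ (-i) * ((x.1 : G) : Perm α)) := by
              intro w hw
              rw [mem_fixF, Perm.mul_apply, zpow_neg, Perm.inv_eq_iff_eq, hi,
                Perm.ofSubtype_apply_of_mem _ hw]
              rfl
            have h5 := Finset.card_le_card h4
            omega
          rw [zpow_neg, inv_mul_eq_one] at hy
          rw [← hy]
          exact Subgroup.zpow_mem _ (Subgroup.mem_zpowers _) _⟩
        map_one' := rfl
        map_mul' := fun _ _ => rfl }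
    have hf : Function.Injective f := fun x y h => by
      have := congrArg Subtype.val h
      exact Subtype.ext (Subtype.ext (Subtype.ext this))
    have h6 := Subgroup.card_dvd_of_injective f hf
    rwa [Nat.card_zpowers, hco] at h6
  have h3 := φ.ker.card_mul_index
  rw [Subgroup.index_ker] at h3
  rw [← h3]
  exact mul_dvd_mul h2 h1

/-- The count of Sylow subgroups for a prime dividing the order once. -/
theorem sylow_data {p q : ℕ} [hp : Fact p.Prime] (hn : Fintype.card α < 2 * p)
    (hS : ∀ g ∈ G, g ≠ 1 → (fixF g).card < p) (hG : Nat.card G = p * q) (hpq : ¬ p ∣ q) :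
    (∀ P : Sylow p G, Nat.card P = p) ∧
      ∃ f, f ∣ p - 1 ∧ f ∣ q ∧ q / f % p = 1 ∧ Nat.card (Sylow p G) = q / f := by
  have hq0 : q ≠ 0 := fun h => hpq (h ▸ dvd_zero p)
  have hPc : ∀ P : Sylow p G, Nat.card P = p := fun P => by
    rw [P.card_eq_multiplicity, hG, Nat.factorization_mul hp.out.ne_zero hq0, Finsupp.add_apply,
      hp.out.factorization_self, Nat.factorization_eq_zero_of_not_dvd hpq, Nat.add_zero, pow_one]
  refine ⟨hPc, ?_⟩
  obtain ⟨x, hx⟩ := exists_prime_orderOf_dvd_card' (G := G) p (hG ▸ dvd_mul_right _ _)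
  have hN := card_normalizer_dvd' (G := G) (c := x) hp.out hx hn hS
  obtain ⟨P, hP⟩ := (IsPGroup.of_card (p := p) (n := 1) (G := Subgroup.zpowers x)
    (by rw [Nat.card_zpowers, hx, pow_one])).exists_le_sylow
  have hPx : Subgroup.zpowers x = (P : Subgroup G) :=
    Subgroup.eq_of_le_of_card_ge hP (by rw [Nat.card_zpowers, hx]; exact (hPc P).le)
  have hdvd : p ∣ Nat.card (Subgroup.normalizer ((Subgroup.zpowers x : Subgroup G) : Set G)) := by
    have h1 := Subgroup.card_dvd_of_le (Subgroup.le_normalizer (H := Subgroup.zpowers x))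
    rwa [Nat.card_zpowers, hx] at h1
  obtain ⟨f, hf⟩ := hdvd
  rw [hf] at hN
  have hfp : f ∣ p - 1 := Nat.dvd_of_mul_dvd_mul_left hp.out.pos hN
  have hmod := card_sylow_modEq_one p G
  have hidx := (Subgroup.normalizer ((Subgroup.zpowers x : Subgroup G) : Set G)).card_mul_index
  rw [hPx] at hf hidx
  erw [← P.card_eq_index_normalizer] at hidx
  rw [hf, hG, mul_assoc] at hidx
  have hidx' : f * Nat.card (Sylow p G) = q := Nat.eq_of_mul_eq_mul_left hp.out.pos hidx
  have hp1 : 0 < p - 1 := by have := hp.out.two_le; omega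
  have hdiv : q / f = Nat.card (Sylow p G) := by
    rw [← hidx', Nat.mul_div_cancel_left _ (Nat.pos_of_dvd_of_pos hfp hp1)]
  rw [Nat.ModEq, Nat.mod_eq_of_lt hp.out.one_lt] at hmod
  exact ⟨f, hfp, ⟨_, hidx'.symm⟩, by rw [hdiv]; exact hmod, hdiv.symm⟩

/-- An involution preserving a set in an orbit of sets with stabilizers of odd order. -/
theorem no_invariant {k h : ℕ} (hH : Hom G k) (hG : Nat.card G = (Fintype.card α).choose k * h) (hh : Odd h)
    {g : Perm α} (hg : g ∈ G) (hord : orderOf g = 2) {S : Finset α} (hS : S.card = k)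
    (hinv : ∀ x ∈ S, g x ∈ S) : False := by
  haveI := hom_iff.1 hH
  have h1 := (MulAction.stabilizer G (Set.powersetCard.ofCard hS)).card_mul_index
  rw [MulAction.index_stabilizer_of_transitive, Set.powersetCard.card, Nat.card_eq_fintype_card (α := α),
    hG, mul_comm] at h1
  have hpos : 0 < (Fintype.card α).choose k := Nat.choose_pos (hS ▸ Finset.card_le_univ S)
  have h2 := Nat.eq_of_mul_eq_mul_left hpos h1
  have hmem : (⟨g, hg⟩ : G) ∈ MulAction.stabilizer G (Set.powersetCard.ofCard hS) := by
    refine Subtype.ext ?_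
    show (⟨g, hg⟩ : G) • S = S
    rw [smul_eq_map]
    exact Finset.eq_of_subset_of_card_le (fun z hz => by
      obtain ⟨w, hw, rfl⟩ := Finset.mem_map.1 hz; exact hinv w hw) (by rw [Finset.card_map])
  have h3 := orderOf_dvd_natCard (⟨_, hmem⟩ : MulAction.stabilizer G (Set.powersetCard.ofCard hS))
  rw [← Subgroup.orderOf_coe, ← Subgroup.orderOf_coe, h2] at h3
  rw [show orderOf (g : Perm α) = 2 from hord] at h3
  exact (Nat.not_even_iff_odd.2 hh) (even_iff_two_dvd.2 h3)

/-- The sign of an involution from its fixed points. -/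
theorem sign_of_involution {g : Perm α} (hord : orderOf g = 2) :
    ∃ r, Fintype.card α = (fixF g).card + 2 * r ∧ Perm.sign g = (-1) ^ r := by
  obtain ⟨j, hj⟩ := Equiv.Perm.cycleType_prime_order (σ := g) (by rw [hord]; exact Nat.prime_two)
  rw [hord] at hj
  have hsupp : g.support.card = 2 * (j + 1) := by
    rw [← Equiv.Perm.sum_cycleType, hj, Multiset.sum_replicate, smul_eq_mul, mul_comm]
  refine ⟨j + 1, ?_, ?_⟩
  · rw [fixF, Finset.card_compl, hsupp]
    have := hsupp ▸ Finset.card_le_univ g.support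
    omega
  · rw [Equiv.Perm.sign_of_cycleType, hj, Multiset.sum_replicate, Multiset.card_replicate, smul_eq_mul,
      show (j + 1) * 2 + (j + 1) = 2 * (j + 1) + (j + 1) by ring, pow_add, pow_mul]
    simp

/-- The even elements of a group of permutations. -/
theorem exists_even_part (G : Subgroup (Perm α)) :
    ∃ K : Subgroup (Perm α), (∀ g, g ∈ K ↔ g ∈ G ∧ Perm.sign g = 1) ∧
      (Nat.card G = Nat.card K ∨ Nat.card G = 2 * Nat.card K) := by
  let f : G →* ℤˣ := Perm.sign.comp G.subtype
  refine ⟨f.ker.map G.subtype, fun g => ?_, ?_⟩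
  · rw [Subgroup.mem_map]
    constructor
    · rintro ⟨x, hx, rfl⟩
      exact ⟨x.2, MonoidHom.mem_ker.1 hx⟩
    · rintro ⟨hg, hs⟩
      exact ⟨⟨g, hg⟩, MonoidHom.mem_ker.2 hs, rfl⟩
  · rw [Subgroup.card_map_of_injective G.subtype_injective]
    have h1 := f.ker.card_mul_index
    rw [Subgroup.index_ker] at h1
    have h2 : Nat.card f.range ∣ 2 := by
      have := Subgroup.card_subgroup_dvd_card f.range
      rwa [Nat.card_eq_fintype_card (α := ℤˣ), Fintype.card_units_int] at this
    rcases (Nat.dvd_prime Nat.prime_two).1 h2 with h | h <;> rw [h] at h1 <;> omega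

set_option synthInstance.maxSize 2000 in
/-- The arithmetic left by double counting, without the restriction on the degree. -/
theorem candidates' : ∀ i < 4, ∀ s < 25, ∀ m < 62, (1 ≤ i ∧ 2 ≤ s ∧ 3 ≤ m ∧ m % s = 0 ∧
    (i + 1).factorial % s = 0 ∧ (i + 2).factorial % (s * (m - 1)) = 0) →
    (i, s, m) ∈ [(1, 2, 4), (2, 2, 4), (2, 3, 3), (2, 3, 9), (3, 2, 4), (3, 2, 6), (3, 2, 16), (3, 3, 3),
      (3, 3, 6), (3, 3, 9), (3, 3, 21), (3, 4, 4), (3, 4, 16), (3, 6, 6), (3, 8, 16)] := by
  decide +kernel

/-- Degree seven and order two hundred and ten is impossible. -/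
theorem no_seven (hn : Fintype.card α = 7) (hG : Nat.card G = 210)
    (hS : ∀ g ∈ G, g ≠ 1 → (fixF g).card < 3) : False := by
  classical
  obtain ⟨K, hK, hcard⟩ := exists_even_part G
  have hKc : Nat.card K = 105 := by
    rcases hcard with h | h
    · exfalso
      haveI : Fact (Nat.Prime 2) := ⟨Nat.prime_two⟩
      obtain ⟨x, hx⟩ := exists_prime_orderOf_dvd_card' (G := K) 2 (by rw [← h, hG]; norm_num)
      obtain ⟨hxG, hxs⟩ := (hK x).1 x.2
      rw [← Subgroup.orderOf_coe] at hx
      obtain ⟨r, hr, hsign⟩ := sign_of_involution hx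
      have hne : (x : Perm α) ≠ 1 := fun e => by rw [e, orderOf_one] at hx; omega
      have hf := hS _ hxG hne
      obtain rfl : r = 3 := by omega
      rw [hsign] at hxs
      exact absurd hxs (by decide)
    · omega
  have hSK : ∀ g ∈ K, g ≠ 1 → (fixF g).card < 3 := fun g hg => hS g ((hK g).1 hg).1
  haveI : Fact (Nat.Prime 7) := ⟨by norm_num⟩
  haveI : Fact (Nat.Prime 5) := ⟨by norm_num⟩
  obtain ⟨hP7, f, hf1, hf2, hf3, hn7⟩ := sylow_data (G := K) (p := 7) (q := 15) (by omega)
    (fun g hg h => (hSK g hg h).trans_le (by norm_num)) (by rw [hKc]) (by decide)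
  obtain ⟨hP5, f', hf1', hf2', hf3', hn5⟩ := sylow_data (G := K) (p := 5) (q := 21) (by omega)
    (fun g hg h => (hSK g hg h).trans_le (by norm_num)) (by rw [hKc]) (by decide)
  have hn7' : Nat.card (Sylow 7 K) = 15 := by
    have := Nat.le_of_dvd (by norm_num) hf1
    interval_cases f <;> simp_all
  have hn5' : Nat.card (Sylow 5 K) = 21 := by
    have := Nat.le_of_dvd (by norm_num) hf1'
    interval_cases f' <;> simp_all
  have h7 := mul_le_card_orderOf hP7
  have h5 := mul_le_card_orderOf hP5
  rw [hn7'] at h7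
  rw [hn5'] at h5
  have hle : Nat.card ({x : K // orderOf x = 7} ⊕ {x : K // orderOf x = 5}) ≤ Nat.card K := by
    refine Nat.card_le_card_of_injective (Sum.elim (fun x => x.1) fun x => x.1) ?_
    rintro (x | x) (y | y) h
    · exact congrArg Sum.inl (Subtype.ext h)
    · exfalso
      have := x.2
      rw [show x.1 = y.1 from h, y.2] at this
      omega
    · exfalso
      have := x.2
      rw [show x.1 = y.1 from h, y.2] at this
      omega
    · exact congrArg Sum.inr (Subtype.ext h)
  rw [Nat.card_sum, hKc] at hle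
  omega

/-- The exceptions. -/
theorem exceptions {i : ℕ} (hi : 1 ≤ i) (hn : i + 2 ≤ Fintype.card α) (hH1 : Hom G (i + 1)) (hH2 : Hom G (i + 2))
    (hT : Tr G i) (hnt : ¬ Tr G (i + 1)) :
    (i + 2 = Fintype.card α ∧ G = alternatingGroup α) ∨
      (Fintype.card α = 5 ∧ i = 2 ∧ Nat.card G = 20) ∨ (Fintype.card α = 6 ∧ i = 3 ∧ Nat.card G = 120) ∨
      (Fintype.card α = 9 ∧ i = 3 ∧ (Nat.card G = 504 ∨ Nat.card G = 1512)) := by
  classical
  obtain ⟨a, s, hs, hs2, hG, hsf, hsm, hbot, -⟩ := step_data hn hH1 hH2 hT hnt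
  have hfix : ∀ g ∈ G, g ≠ 1 → (fixF g).card < i + 1 := fun g hg h1 => fixF_lt hbot hg h1
  rcases eq_or_lt_of_le hn with heq | hlt
  · left
    refine ⟨heq, ?_⟩
    rw [← heq, Nat.add_sub_cancel_left] at hs
    have ha : a = 1 := by
      rcases (Nat.dvd_prime Nat.prime_two).1 ⟨s, hs⟩ with h | h
      · exact h
      · rw [h] at hs; omega
    rw [ha, mul_one] at hG
    have h2 : Nat.card (Perm α) = 2 * Nat.card G := by
      rw [Nat.card_perm, Nat.card_eq_fintype_card, hG, ← heq,
        ← Nat.factorial_mul_descFactorial (Nat.le_add_right i 2), Nat.add_sub_cancel_left, Nat.factorial_two]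
    have h1 := G.card_mul_index
    rw [h2] at h1
    have hpos : 0 < Nat.card G := Nat.card_pos
    exact Equiv.Perm.eq_alternatingGroup_of_index_eq_two (by nlinarith)
  rcases Nat.lt_or_ge i 4 with hi4 | hi4
  swap
  · exfalso
    have hS : Semi G i := fun g hg h1 => Nat.lt_succ_iff.1 (hfix g hg h1)
    rcases minimal hi4 G hT hS (by omega) with h | h | ⟨h45, hdeg, hall⟩
    · refine hnt fun x y hx hy => ?_
      haveI : Nontrivial α := Fintype.one_lt_card_iff_nontrivial.1 (by omega)
      obtain ⟨x', hx', hxx⟩ := exists_extend (show i + 1 ≤ Fintype.card α - 2 by omega) (Nat.sub_le _ _) x hx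
      obtain ⟨y', hy', hyy⟩ := exists_extend (show i + 1 ≤ Fintype.card α - 2 by omega) (Nat.sub_le _ _) y hy
      have hA := alternatingGroup.isMultiplyPretransitive α
      rw [Nat.card_eq_fintype_card] at hA
      obtain ⟨g, hg⟩ := hA.exists_smul_eq ⟨x', hx'⟩ ⟨y', hy'⟩
      refine ⟨g, h g.2, fun l => ?_⟩
      rw [← hxx, ← hyy]
      exact congrFun (congrArg (⇑) hg) _
    · exact hnt h
    · obtain ⟨x⟩ : Nonempty (Fin i ↪ α) :=
        Function.Embedding.nonempty_of_card_le (by rw [Fintype.card_fin]; omega)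
      have hGc := card_of_sharp hT (by omega) hall
      rw [hG] at hGc
      have ha : a = 1 := by
        have hd : (Fintype.card α).descFactorial i ≠ 0 := by
          rw [ne_eq, Nat.descFactorial_eq_zero_iff_lt]; omega
        exact (Nat.mul_eq_left hd).1 hGc
      rw [ha, one_mul, hdeg, Nat.add_sub_cancel_left] at hs
      subst hs
      rcases h45 with rfl | rfl <;> exact absurd hsf (by decide)
  -- small cases
  obtain ⟨m, hm⟩ : ∃ m, m = Fintype.card α - i := ⟨_, rfl⟩
  rw [← hm] at hs hsm
  have hfac : (i + 2).factorial ≤ 120 := Nat.factorial_le (show i + 2 ≤ 5 by omega)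
  have hfac1 : (i + 1).factorial ≤ 24 := Nat.factorial_le (show i + 1 ≤ 4 by omega)
  have hsb : s ≤ 24 := (Nat.le_of_dvd (Nat.factorial_pos _) hsf).trans hfac1
  have hmb : s * (m - 1) ≤ 120 := (Nat.le_of_dvd (Nat.factorial_pos _) hsm).trans hfac
  have hmb2 : m - 1 ≤ 60 := by nlinarith
  have kill : ∀ (p q : ℕ), p.Prime → Fintype.card α < 2 * p → Fintype.card α ≤ p + 1 → Nat.card G = p * q →
      ¬ p ∣ q → (∀ f ≤ p - 1, f ∣ p - 1 → f ∣ q → q / f % p ≠ 1) → False :=
    fun p q h1 h2 h3 h4 h5 h6 => no_large_prime h1 h2 h3 h4 h5 h6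
  have hcand := candidates' i hi4 s (by omega) m (by omega) ⟨hi, hs2, by omega, by rw [hs]; simp,
    Nat.mod_eq_zero_of_dvd hsf, Nat.mod_eq_zero_of_dvd hsm⟩
  simp only [List.mem_cons, List.not_mem_nil, or_false, Prod.mk.injEq] at hcand
  rcases hcand with
    ⟨rfl, rfl, hmv⟩ | ⟨rfl, rfl, hmv⟩ | ⟨rfl, rfl, hmv⟩ | ⟨rfl, rfl, hmv⟩ | ⟨rfl, rfl, hmv⟩ | ⟨rfl, rfl, hmv⟩ |
    ⟨rfl, rfl, hmv⟩ | ⟨rfl, rfl, hmv⟩ | ⟨rfl, rfl, hmv⟩ | ⟨rfl, rfl, hmv⟩ | ⟨rfl, rfl, hmv⟩ | ⟨rfl, rfl, hmv⟩ |
    ⟨rfl, rfl, hmv⟩ | ⟨rfl, rfl, hmv⟩ | ⟨rfl, rfl, hmv⟩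
  · -- degree five
    exfalso
    have hn' : Fintype.card α = 5 := by omega
    obtain rfl : a = 2 := by omega
    rw [hn'] at hG
    haveI : Fact (Nat.Prime 2) := ⟨Nat.prime_two⟩
    obtain ⟨x, hx⟩ := exists_prime_orderOf_dvd_card' (G := G) 2 (by rw [hG]; decide)
    rw [← Subgroup.orderOf_coe] at hx
    obtain ⟨p, hp⟩ : ∃ p, (x : Perm α) p ≠ p := by
      by_contra hall
      push Not at hall
      rw [show (x : Perm α) = 1 from Equiv.ext hall, orderOf_one] at hx
      omega
    have hxx : ∀ w, (x : Perm α) ((x : Perm α) w) = w := fun w => by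
      rw [← Perm.mul_apply, ← pow_two, ← hx, pow_orderOf_eq_one, Perm.one_apply]
    refine no_invariant (k := 2) (h := 1) hH1 (by rw [hG, hn']; decide) odd_one x.2 hx
      (S := {p, (x : Perm α) p}) (Finset.card_pair (Ne.symm hp)) fun w hw => ?_
    simp only [Finset.mem_insert, Finset.mem_singleton] at hw ⊢
    rcases hw with rfl | rfl
    · exact Or.inr rfl
    · exact Or.inl (hxx p)
  · -- degree six
    exfalso
    have hn' : Fintype.card α = 6 := by omega
    obtain rfl : a = 2 := by omega
    rw [hn'] at hG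
    have hG' : Nat.card G = 60 := by rw [hG]; rfl
    obtain ⟨K, hK, hcard⟩ := exists_even_part G
    haveI : Fact (Nat.Prime 2) := ⟨Nat.prime_two⟩
    obtain ⟨x, hx⟩ := exists_prime_orderOf_dvd_card' (G := K) 2 (by omega)
    rw [← Subgroup.orderOf_coe] at hx
    obtain ⟨hxG, hxs⟩ := (hK x).1 x.2
    have hne : (x : Perm α) ≠ 1 := fun e => by rw [e, orderOf_one] at hx; omega
    obtain ⟨r, hr, hsign⟩ := sign_of_involution hx
    have hr2 : r = 2 := by
      have := hfix _ hxG hne
      by_contra hr2
      obtain rfl : r = 3 := by omega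
      rw [hsign] at hxs
      exact absurd hxs (by decide)
    obtain ⟨u, hu⟩ := Finset.card_pos.1 (by omega : 0 < (fixF (x : Perm α)).card)
    rw [mem_fixF] at hu
    obtain ⟨p, hp⟩ : ∃ p, (x : Perm α) p ≠ p := by
      by_contra hall
      push Not at hall
      exact hne (Equiv.ext hall)
    have hxx : ∀ w, (x : Perm α) ((x : Perm α) w) = w := fun w => by
      rw [← Perm.mul_apply, ← pow_two, ← hx, pow_orderOf_eq_one, Perm.one_apply]
    have hup : u ∉ ({p, (x : Perm α) p} : Finset α) := by
      simp only [Finset.mem_insert, Finset.mem_singleton, not_or]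
      refine ⟨fun h => hp (h ▸ hu), fun h => ?_⟩
      have h' := hu
      rw [h, hxx] at h'
      exact hp h'.symm
    refine no_invariant (k := 3) (h := 3) hH1 (by rw [hG', hn']; decide) (by decide) hxG hx
      (S := insert u {p, (x : Perm α) p})
      (by rw [Finset.card_insert_of_notMem hup, Finset.card_pair (Ne.symm hp)]) fun w hw => ?_
    simp only [Finset.mem_insert, Finset.mem_singleton] at hw ⊢
    rcases hw with rfl | rfl | rfl
    · exact Or.inl hu
    · exact Or.inr (Or.inr rfl)
    · exact Or.inr (Or.inl (hxx p))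
  · right; left
    obtain rfl : a = 1 := by omega
    have hn' : Fintype.card α = 5 := by omega
    exact ⟨hn', rfl, by rw [hG, hn']; rfl⟩
  · exfalso
    have hn' : Fintype.card α = 11 := by omega
    obtain rfl : a = 3 := by omega
    exact kill 11 30 (by norm_num) (by omega) (by omega) (by rw [hG, hn']; rfl) (by decide) (by decide)
  · exfalso
    have hn' : Fintype.card α = 7 := by omega
    obtain rfl : a = 2 := by omega
    exact kill 7 60 (by norm_num) (by omega) (by omega) (by rw [hG, hn']; rfl) (by decide) (by decide)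
  · right; right; right
    obtain rfl : a = 3 := by omega
    have hn' : Fintype.card α = 9 := by omega
    exact ⟨hn', rfl, Or.inr (by rw [hG, hn']; rfl)⟩
  · exfalso
    have hn' : Fintype.card α = 19 := by omega
    obtain rfl : a = 8 := by omega
    exact kill 19 2448 (by norm_num) (by omega) (by omega) (by rw [hG, hn']; rfl) (by decide) (by decide)
  · right; right; left
    obtain rfl : a = 1 := by omega
    have hn' : Fintype.card α = 6 := by omega
    exact ⟨hn', rfl, by rw [hG, hn']; rfl⟩
  · exfalso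
    have hn' : Fintype.card α = 9 := by omega
    obtain rfl : a = 2 := by omega
    haveI : Fact (Nat.Prime 7) := ⟨by norm_num⟩
    obtain ⟨-, f, h1, h2, h3, -⟩ := sylow_data (G := G) (p := 7) (q := 144) (by omega)
      (fun g hg h => (hfix g hg h).trans_le (by norm_num)) (by rw [hG, hn']; rfl) (by decide)
    have := Nat.le_of_dvd (by norm_num) h1
    interval_cases f <;> simp_all
  · exfalso
    have hn' : Fintype.card α = 12 := by omega
    obtain rfl : a = 3 := by omega
    exact kill 11 360 (by norm_num) (by omega) (by omega) (by rw [hG, hn']; rfl) (by decide) (by decide)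
  · exfalso
    have hn' : Fintype.card α = 24 := by omega
    obtain rfl : a = 7 := by omega
    exact kill 23 3696 (by norm_num) (by omega) (by omega) (by rw [hG, hn']; rfl) (by decide) (by decide)
  · exfalso
    have hn' : Fintype.card α = 7 := by omega
    obtain rfl : a = 1 := by omega
    refine no_seven (G := G) hn' (by rw [hG, hn']; rfl) fun g hg h1 => ?_
    -- three fixed points make a set with trivial stabilizer
    by_contra hle
    obtain ⟨B, hB, hBc⟩ := Finset.exists_subset_card_eq (not_lt.1 hle)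
    have hGB := hG
    obtain ⟨x⟩ : Nonempty (Fin 3 ↪ α) := Function.Embedding.nonempty_of_card_le (by simp [hn'])
    rw [hT.card_eq (x := x)] at hGB
    have hc := Nat.eq_of_mul_eq_mul_left (Nat.pos_of_ne_zero (by
      rw [ne_eq, Nat.descFactorial_eq_zero_iff_lt]; omega)) hGB
    have hBx := hT.hom.card_pstab hBc (B := Finset.univ.image x)
      (by rw [Finset.card_image_of_injective _ x.injective, Finset.card_univ, Fintype.card_fin])
    rw [hc] at hBx
    have hmem : g ∈ pstab G B := ⟨hg, fun w hw => mem_fixF.1 (hB hw)⟩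
    rw [Subgroup.eq_bot_of_card_eq _ hBx, Subgroup.mem_bot] at hmem
    exact h1 hmem
  · exfalso
    have hn' : Fintype.card α = 19 := by omega
    obtain rfl : a = 4 := by omega
    exact kill 19 1224 (by norm_num) (by omega) (by omega) (by rw [hG, hn']; rfl) (by decide) (by decide)
  · right; right; right
    obtain rfl : a = 1 := by omega
    have hn' : Fintype.card α = 9 := by omega
    exact ⟨hn', rfl, Or.inl (by rw [hG, hn']; rfl)⟩
  · exfalso
    have hn' : Fintype.card α = 19 := by omega
    obtain rfl : a = 2 := by omega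
    exact kill 19 612 (by norm_num) (by omega) (by omega) (by rw [hG, hn']; rfl) (by decide) (by decide)

end Cfsg.Lib.Perm.LW
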