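import Cfsg.Agent.Lib.Perm.LW.Tools
import Cfsg.Agent.S0415

/-!
# Four times transitive groups in which only the identity fixes five points
-/

set_option autoImplicit false
set_option linter.style.haveILetI false
set_option linter.unusedSectionVars false

namespace Cfsg.Lib.Perm.LW

open Equiv

variable {α : Type*} [Fintype α] [DecidableEq α] {G : Subgroup (Perm α)}

theorem nodup4 {a b c d : α} : [a, b, c, d].Nodup ↔ (a ≠ b ∧ a ≠ c ∧ a ≠ d) ∧ (b ≠ c ∧ b ≠ d) ∧ c ≠ d := by
  simp [List.nodup_cons, List.mem_cons]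

theorem card_four {a b c d : α} (h : [a, b, c, d].Nodup) : ({a, b, c, d} : Finset α).card = 4 := by
  have := List.toFinset_card_of_nodup h
  simpa [List.toFinset_cons, Finset.insert_comm] using this

theorem exists_four {S : Finset α} (h : 4 ≤ S.card) :
    ∃ p q r s, [p, q, r, s].Nodup ∧ p ∈ S ∧ q ∈ S ∧ r ∈ S ∧ s ∈ S := by
  obtain ⟨U, hU, hUc⟩ := Finset.exists_subset_card_eq h
  obtain ⟨l, hl, hlU⟩ : ∃ l : List α, l.Nodup ∧ l.toFinset = U := ⟨U.toList, U.nodup_toList, U.toList_toFinset⟩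
  have hlen : l.length = 4 := by rw [← List.toFinset_card_of_nodup hl, hlU, hUc]
  match l, hlen with
  | [p, q, r, s], _ =>
    exact ⟨p, q, r, s, hl, hU (by simp [← hlU]), hU (by simp [← hlU]), hU (by simp [← hlU]), hU (by simp [← hlU])⟩

/-- The order of a four times transitive group. -/
theorem card_four_transitive (h4 : Tr G 4) {a b c d : α} (hnd : [a, b, c, d].Nodup) :
    Nat.card G = Fintype.card α * ((Fintype.card α - 1) * ((Fintype.card α - 2) * ((Fintype.card α - 3) *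
      Nat.card (pstab G {a, b, c, d})))) := by
  obtain ⟨⟨hab, hac, had⟩, ⟨hbc, hbd⟩, hcd⟩ := nodup4.1 hnd
  have hcard : 4 ≤ Fintype.card α := (card_four hnd) ▸ Finset.card_le_univ _
  have e0 : Nat.card G = Nat.card (pstab G ∅) := by
    rw [show pstab G ∅ = G from le_antisymm (pstab_le G ∅) fun g hg => ⟨hg, by simp⟩]
  have e1 := card_pstab_insert (G := G) (A := ∅) (y := a) (fun z _ => by
    obtain ⟨g, hg, hgz⟩ := (h4.mono (j := 1) (by norm_num) hcard) ![a] ![z]
      (Function.injective_of_subsingleton _) (Function.injective_of_subsingleton _)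
    exact ⟨g, ⟨hg, by simp⟩, hgz 0⟩) (by simp)
  have e2 := card_pstab_insert (G := G) (A := {a}) (y := b) (fun z hz => by
    obtain ⟨g, hg, hgz⟩ := (h4.mono (j := 2) (by norm_num) hcard) ![a, b] ![a, z]
      (by intro i j h; fin_cases i <;> fin_cases j <;> simp_all)
      (by intro i j h; fin_cases i <;> fin_cases j <;> simp_all [eq_comm])
    exact ⟨g, ⟨hg, fun x hx => by rw [Finset.mem_singleton.1 hx]; exact hgz 0⟩, hgz 1⟩) (by simp [hab.symm])
  have e3 := card_pstab_insert (G := G) (A := {b, a}) (y := c) (fun z hz => by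
    simp only [Finset.mem_insert, Finset.mem_singleton, not_or] at hz
    obtain ⟨g, hg, hgz⟩ := (h4.mono (j := 3) (by norm_num) hcard) ![a, b, c] ![a, b, z]
      (by intro i j h; fin_cases i <;> fin_cases j <;> simp_all)
      (by intro i j h; fin_cases i <;> fin_cases j <;> simp_all [eq_comm])
    refine ⟨g, ⟨hg, fun x hx => ?_⟩, hgz 2⟩
    simp only [Finset.mem_insert, Finset.mem_singleton] at hx
    rcases hx with rfl | rfl
    · exact hgz 1
    · exact hgz 0) (by simp [hac.symm, hbc.symm])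
  have e4 := card_pstab_insert (G := G) (A := {c, b, a}) (y := d) (fun z hz => by
    simp only [Finset.mem_insert, Finset.mem_singleton, not_or] at hz
    obtain ⟨g, hg, h1, h2, h3, h4'⟩ := h4.map4 hnd (a' := a) (b' := b) (c' := c) (d' := z)
      (nodup4.2 ⟨⟨hab, hac, Ne.symm hz.2.2⟩, ⟨hbc, Ne.symm hz.2.1⟩, Ne.symm hz.1⟩)
    refine ⟨g, ⟨hg, fun x hx => ?_⟩, h4'⟩
    simp only [Finset.mem_insert, Finset.mem_singleton] at hx
    rcases hx with rfl | rfl | rfl <;> assumption) (by simp [had.symm, hbd.symm, hcd.symm])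
  rw [e0, e1, Finset.card_empty, Nat.sub_zero, show insert a (∅ : Finset α) = {a} from rfl, e2,
    Finset.card_singleton, show insert b ({a} : Finset α) = {b, a} from rfl, e3, Finset.card_pair hab.symm,
    show insert c ({b, a} : Finset α) = {c, b, a} from rfl, e4,
    show insert d ({c, b, a} : Finset α) = {a, b, c, d} by ext; simp; tauto,
    Finset.card_insert_of_notMem (by simp [hac.symm, hbc.symm]), Finset.card_pair hab.symm]

/-- A group of index at most two contains the alternating group. -/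
theorem alt_le_of_two_mul_card (h : (Fintype.card α).factorial = 2 * Nat.card G ∨ (Fintype.card α).factorial = Nat.card G) :
    alternatingGroup α ≤ G := by
  have h1 := G.card_mul_index
  rw [Nat.card_eq_fintype_card (α := Perm α), Fintype.card_perm] at h1
  have hpos : 0 < Nat.card G := Nat.card_pos
  rcases h with h | h <;> rw [h] at h1
  · have hi : G.index = 2 := by nlinarith
    exact (Equiv.Perm.eq_alternatingGroup_of_index_eq_two hi).ge
  · have hi : G.index = 1 := by nlinarith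
    rw [Subgroup.index_eq_one.1 hi]
    exact le_top

/-- Data shared by the cases. -/
structure Setup (G : Subgroup (Perm α)) (a b c d : α) (N : Subgroup (Perm α)) : Prop where
  h4 : Tr G 4
  semi : Semi G 4
  hnd : [a, b, c, d].Nodup
  le : N ≤ pstab G {a, b, c}
  free : ∀ u ∈ N, u ≠ 1 → ∀ x, x ∉ ({a, b, c} : Finset α) → u x ≠ x
  trans : ∀ x, x ∉ ({a, b, c} : Finset α) → ∃ u ∈ N, u d = x
  nil : Group.IsNilpotent N
  normal : ∀ h ∈ G, (∀ x ∈ ({a, b, c} : Finset α), h x ∈ ({a, b, c} : Finset α)) → ∀ u ∈ N, h * u * h⁻¹ ∈ N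

namespace Setup

variable {a b c d : α} {N : Subgroup (Perm α)}

theorem d_notMem (S : Setup G a b c d N) : d ∉ ({a, b, c} : Finset α) := by
  obtain ⟨⟨hab, hac, had⟩, ⟨hbc, hbd⟩, hcd⟩ := nodup4.1 S.hnd
  simp [had.symm, hbd.symm, hcd.symm]

theorem apply_notMem (S : Setup G a b c d N) {u : Perm α} (hu : u ∈ N) {x : α}
    (hx : x ∉ ({a, b, c} : Finset α)) : u x ∉ ({a, b, c} : Finset α) := fun hm =>
  hx (u.injective ((S.le hu).2 _ hm) ▸ hm)

theorem inj (S : Setup G a b c d N) {u v : Perm α} (hu : u ∈ N) (hv : v ∈ N) (h : u d = v d) : u = v := by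
  by_contra hne
  exact S.free _ (N.mul_mem (N.inv_mem hv) hu) (fun h1 => hne (inv_mul_eq_one.1 h1).symm) d S.d_notMem
    (by rw [Perm.mul_apply, h, Perm.inv_eq_iff_eq])

open Classical in
/-- The regular normal subgroup is equivalent to the other points. -/
theorem card_image (S : Setup G a b c d N) (P : Perm α → Prop) :
    Nat.card {u : N // P u} = ((({a, b, c} : Finset α)ᶜ).filter fun x => ∃ u ∈ N, P u ∧ u d = x).card := by
  classical
  rw [← Fintype.card_coe, ← Nat.card_eq_fintype_card]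
  refine Nat.card_congr (Equiv.ofBijective (fun u => ⟨(u.1 : Perm α) d, Finset.mem_filter.2
    ⟨Finset.mem_compl.2 (S.apply_notMem u.1.2 S.d_notMem), u.1, u.1.2, u.2, rfl⟩⟩) ⟨fun u v h => ?_, fun x => ?_⟩)
  · exact Subtype.ext (Subtype.ext (S.inj u.1.2 v.1.2 (congrArg Subtype.val h)))
  · obtain ⟨u, hu, hP, hux⟩ := (Finset.mem_filter.1 x.2).2
    exact ⟨⟨⟨u, hu⟩, hP⟩, Subtype.ext hux⟩

theorem card_N (S : Setup G a b c d N) : Nat.card N = Fintype.card α - 3 := by
  classical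
  have h := S.card_image (fun u => u ∈ N)
  rw [Nat.card_congr (Equiv.subtypeUnivEquiv (α := N) (p := fun u => (u : Perm α) ∈ N) fun u => u.2)] at h
  refine h.trans ((congrArg Finset.card (?_ : _ = ({a, b, c} : Finset α)ᶜ)).trans ?_)
  · ext x
    rw [Finset.mem_filter, and_iff_left_iff_imp]
    intro hx
    obtain ⟨u, hu, hux⟩ := S.trans x (Finset.mem_compl.1 hx)
    exact ⟨u, hu, hu, hux⟩
  · obtain ⟨⟨hab, hac, -⟩, ⟨hbc, -⟩, -⟩ := nodup4.1 S.hnd
    rw [Finset.card_compl, Finset.card_insert_of_notMem (by simp [hab, hac]), Finset.card_pair hbc]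

/-- Centralizers in the regular normal subgroup count fixed points. -/
theorem card_cent (S : Setup G a b c d N) {h : Perm α} (hh : h ∈ G)
    (hT : ∀ x ∈ ({a, b, c} : Finset α), h x ∈ ({a, b, c} : Finset α)) (hd : h d = d) :
    Nat.card {u : N // h * (u : Perm α) * h⁻¹ = u} = (fixF h \ {a, b, c}).card := by
  classical
  rw [S.card_image (fun u => h * u * h⁻¹ = u)]
  congr 1
  have hinv : h⁻¹ d = d := inv_apply_of_fix hd
  ext x
  simp only [Finset.mem_filter, Finset.mem_compl, Finset.mem_sdiff, mem_fixF]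
  constructor
  · rintro ⟨hx, u, hu, hc, rfl⟩
    refine ⟨?_, hx⟩
    conv_rhs => rw [← hc, Perm.mul_apply, Perm.mul_apply, hinv]
  · rintro ⟨hfix, hx⟩
    obtain ⟨u, hu, rfl⟩ := S.trans x hx
    refine ⟨hx, u, hu, S.inj (S.normal h hh hT u hu) hu ?_, rfl⟩
    rw [Perm.mul_apply, Perm.mul_apply, hinv, hfix]

theorem eq_one_of_cent (S : Setup G a b c d N) {h : Perm α} (hh : h ∈ G)
    (hT : ∀ x ∈ ({a, b, c} : Finset α), h x ∈ ({a, b, c} : Finset α)) (hd : h d = d)
    (hcard : (fixF h \ {a, b, c}).card ≤ 1) : ∀ u ∈ N, h * u * h⁻¹ = u → u = 1 := by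
  intro u hu hc
  by_contra hne
  have h2 : Nat.card ({⟨1, by simp⟩, ⟨⟨u, hu⟩, hc⟩} : Set {u : N // h * (u : Perm α) * h⁻¹ = u}) = 2 := by
    rw [Nat.card_coe_set_eq, Set.ncard_pair]
    intro e
    exact hne (congrArg (fun v => ((v.1 : N) : Perm α)) e).symm
  have h3 := Nat.card_mono (Set.toFinite _) (Set.subset_univ ({⟨1, by simp⟩, ⟨⟨u, hu⟩, hc⟩} : Set {u : N // h * (u : Perm α) * h⁻¹ = u}))
  rw [h2, Nat.card_congr (Equiv.Set.univ _), S.card_cent hh hT hd] at h3
  omega

/-- Elements centralizing the regular normal subgroup and fixing `d` fix every other point. -/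
theorem fix_of_centralize (S : Setup G a b c d N) {h : Perm α} (hd : h d = d)
    (hc : ∀ u ∈ N, h * u * h⁻¹ = u) : ∀ x, x ∉ ({a, b, c} : Finset α) → h x = x := by
  intro x hx
  obtain ⟨u, hu, rfl⟩ := S.trans x hx
  conv_rhs => rw [← hc u hu, Perm.mul_apply, Perm.mul_apply, inv_apply_of_fix hd]

theorem four_eq (_S : Setup G a b c d N) : ({a, b, c, d} : Finset α) = insert d {a, b, c} := by
  ext; simp; tauto

/-- The stabilizer of the quadruple acts freely off it. -/
theorem free_R (S : Setup G a b c d N) {r : Perm α} (hr : r ∈ pstab G {a, b, c, d}) {x : α}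
    (hx : x ∉ ({a, b, c, d} : Finset α)) (h : r x = x) : r = 1 := by
  by_contra hne
  have h1 : insert x ({a, b, c, d} : Finset α) ⊆ fixF r := fun y hy => by
    rw [mem_fixF]
    rcases Finset.mem_insert.1 hy with rfl | hy
    · exact h
    · exact hr.2 y hy
  have h2 := (Finset.card_le_card h1).trans (S.semi r hr.1 hne)
  rw [Finset.card_insert_of_notMem hx, card_four S.hnd] at h2
  omega

theorem R_stab (_S : Setup G a b c d N) {r : Perm α} (hr : r ∈ pstab G {a, b, c, d}) :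
    ∀ x ∈ ({a, b, c} : Finset α), r x ∈ ({a, b, c} : Finset α) := fun x hx => by
  rw [hr.2 x (by simp at hx ⊢; tauto)]
  exact hx

theorem card_R_dvd (S : Setup G a b c d N) : Nat.card (pstab G {a, b, c, d}) ∣ Fintype.card α - 4 := by
  classical
  have h := card_dvd_of_free (R := pstab G {a, b, c, d}) (S := ({a, b, c, d} : Finset α)ᶜ)
    (fun r hr x hx => Finset.mem_compl.2 fun hm => Finset.mem_compl.1 hx (r.injective (hr.2 _ hm) ▸ hm))
    (fun r hr x hx h => S.free_R hr (Finset.mem_compl.1 hx) h)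
  rwa [Finset.card_compl, card_four S.hnd] at h

/-- The part of a fixed point set outside a triangle. -/
theorem card_fix_sdiff {h : Perm α} {T : Finset α} {c : α} (hcT : c ∈ T) (hT : ∀ x ∈ T, h x = x ↔ x = c) :
    (fixF h \ T).card + 1 = (fixF h).card := by
  have h1 : fixF h ∩ T = {c} := by
    ext x
    simp only [Finset.mem_inter, mem_fixF, Finset.mem_singleton]
    exact ⟨fun h => (hT x h.2).1 h.1, fun h => ⟨(hT x (h ▸ hcT)).2 h, h ▸ hcT⟩⟩
  have := Finset.card_sdiff_add_card_inter (fixF h) T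
  rw [h1, Finset.card_singleton] at this
  exact this

/-- The case of a quadruple stabilizer of even order. -/
theorem even_case (S : Setup G a b c d N) (heven : 2 ∣ Nat.card (pstab G {a, b, c, d})) (hn : 6 ≤ Fintype.card α) :
    alternatingGroup α ≤ G ∨ Tr G 5 := by
  classical
  obtain ⟨⟨hab, hac, had⟩, ⟨hbc, hbd⟩, hcd⟩ := nodup4.1 S.hnd
  haveI : Fact (Nat.Prime 2) := ⟨Nat.prime_two⟩
  set R := pstab G {a, b, c, d} with hR
  obtain ⟨⟨z, hzR⟩, hz⟩ := exists_prime_orderOf_dvd_card' 2 heven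
  rw [Subgroup.orderOf_mk] at hz
  have hz2 : z * z = 1 := by rw [← pow_two, ← hz, pow_orderOf_eq_one]
  have hfix : ∀ w ∈ R, w ≠ 1 → fixF w = {a, b, c, d} := fun w hw hw1 =>
    (Finset.eq_of_subset_of_card_le (fun y hy => mem_fixF.2 (hw.2 y hy))
      (by rw [card_four S.hnd]; exact S.semi w hw.1 hw1)).symm
  have hinvl : ∀ w ∈ R, w * w = 1 → w ≠ 1 → ∀ u ∈ N, w * u * w⁻¹ = u⁻¹ := by
    intro w hw hw2 hw1
    refine inverts_of_fpf hw2 (S.normal w hw.1 (S.R_stab hw))
      (S.eq_one_of_cent hw.1 (S.R_stab hw) (hw.2 d (by simp)) ?_)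
    rw [hfix w hw hw1, S.four_eq, Finset.insert_sdiff_of_notMem _ S.d_notMem, Finset.sdiff_self]
    simp
  have hz1 : z ≠ 1 := fun h => by simp [h] at hz
  have hzinv := hinvl z hzR hz2 hz1
  have hab' : ∀ u ∈ N, ∀ v ∈ N, u * v = v * u := by
    intro u hu v hv
    have h1 : (u * v)⁻¹ = u⁻¹ * v⁻¹ := by
      rw [← hzinv _ (N.mul_mem hu hv), ← hzinv u hu, ← hzinv v hv]; group
    have h2 := congrArg (·⁻¹) h1
    simpa using h2
  have hcardN : Nat.card N = Fintype.card α - 3 := S.card_N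
  have hodd : ¬ 2 ∣ Nat.card N := fun h2 => by
    obtain ⟨⟨u, hu⟩, hu2⟩ := exists_prime_orderOf_dvd_card' 2 h2
    rw [Subgroup.orderOf_mk] at hu2
    have hu2' : u * u = 1 := by rw [← pow_two, ← hu2, pow_orderOf_eq_one]
    have h1 := hzinv u hu
    rw [show u⁻¹ = u from inv_eq_of_mul_eq_one_right hu2'] at h1
    have := S.eq_one_of_cent hzR.1 (S.R_stab hzR) (hzR.2 d (by simp)) (by
      rw [hfix z hzR hz1, S.four_eq, Finset.insert_sdiff_of_notMem _ S.d_notMem, Finset.sdiff_self]; simp) u hu h1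
    simp [this] at hu2
  have huniq : ∀ w ∈ R, w * w = 1 → w ≠ 1 → w = z := by
    intro w hw hw2 hw1
    have hc : ∀ u ∈ N, z * w * u * (z * w)⁻¹ = u := fun u hu => by
      rw [show z * w * u * (z * w)⁻¹ = z * (w * u * w⁻¹) * z⁻¹ by group, hinvl w hw hw2 hw1 u hu,
        hzinv _ (N.inv_mem hu), inv_inv]
    have hmem : z * w ∈ R := R.mul_mem hzR hw
    have h1 : z * w = 1 := Equiv.ext fun x => by
      by_cases hx : x ∈ ({a, b, c} : Finset α)
      · exact hmem.2 x (by simp at hx ⊢; tauto)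
      · exact S.fix_of_centralize (hmem.2 d (by simp)) hc x hx
    rw [← inv_eq_of_mul_eq_one_right hz2]
    exact (inv_eq_of_mul_eq_one_right h1).symm
  -- an involution exchanging `a` and `b`
  obtain ⟨p, hp⟩ : ∃ p, z p ≠ p := by
    by_contra h
    push Not at h
    exact hz1 (Equiv.ext h)
  have hzq : z (z p) = p := by rw [← Perm.mul_apply, hz2, Perm.one_apply]
  have hza : z a = a := hzR.2 a (by simp)
  have hzb : z b = b := hzR.2 b (by simp)
  have hzd : z d = d := hzR.2 d (by simp)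
  have hzc : z c = c := hzR.2 c (by simp)
  obtain ⟨h, hh, e1, e2, e3, e4⟩ := S.h4.map4 (a := p) (b := z p) (c := a) (d := b) (a' := a) (b' := b) (c' := c)
    (d' := d) (nodup4.2 ⟨⟨Ne.symm hp, fun e => hp (e ▸ hza), fun e => hp (e ▸ hzb)⟩,
      ⟨fun e => hp (z.injective (e.trans hza.symm) ▸ hza), fun e => hp (z.injective (e.trans hzb.symm) ▸ hzb)⟩, hab⟩) S.hnd
  set g := h * z * h⁻¹ with hg
  have hgG : g ∈ G := G.mul_mem (G.mul_mem hh hzR.1) (G.inv_mem hh)
  have gapply : ∀ x, g (h x) = h (z x) := fun x => by simp [hg]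
  have hga : g a = b := by rw [← e1, gapply, e2]
  have hgb : g b = a := by rw [← e2, gapply, hzq, e1]
  have hgc : g c = c := by rw [← e3, gapply, hza]
  have hgd : g d = d := by rw [← e4, gapply, hzb]
  have hgg : g * g = 1 := by rw [hg, show h * z * h⁻¹ * (h * z * h⁻¹) = h * (z * z) * h⁻¹ by group, hz2]; simp
  have hgT : ∀ x ∈ ({a, b, c} : Finset α), g x ∈ ({a, b, c} : Finset α) := fun x hx => by
    simp only [Finset.mem_insert, Finset.mem_singleton] at hx
    rcases hx with rfl | rfl | rfl <;> simp [hga, hgb, hgc]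
  have hgR : g * z * g⁻¹ ∈ R := by
    refine mem_pstab_conj hgG (fun x hx => ?_) hzR
    rw [inv_eq_of_mul_eq_one_right hgg]
    simp only [Finset.mem_insert, Finset.mem_singleton] at hx
    rcases hx with rfl | rfl | rfl | rfl <;> simp [hga, hgb, hgc, hgd]
  have hcomm : g * z = z * g := by
    have h1 := huniq _ hgR (by rw [show g * z * g⁻¹ * (g * z * g⁻¹) = g * (z * z) * g⁻¹ by group, hz2]; simp)
      (fun h1 => hz1 (by simpa using conj_eq_one_iff.1 h1))
    rwa [mul_inv_eq_iff_eq_mul] at h1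
  have hsd : ∀ k : Perm α, k a = b → k b = a → k c = c → ∀ x ∈ ({a, b, c} : Finset α), k x = x ↔ x = c := by
    intro k ka kb kc x hx
    simp only [Finset.mem_insert, Finset.mem_singleton] at hx
    rcases hx with rfl | rfl | rfl <;> simp [ka, kb, kc, hab, hab.symm, hac, hbc]
  have hCg : Nat.card {u : N // g * (u : Perm α) * g⁻¹ = u} = 3 := by
    have h1 := card_fix_sdiff (h := g) (T := {a, b, c}) (c := c) (by simp) (hsd g hga hgb hgc)
    rw [card_fixF_conj, hfix z hzR hz1, card_four S.hnd] at h1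
    rw [S.card_cent hgG hgT hgd]
    omega
  have hgzG : g * z ∈ G := G.mul_mem hgG hzR.1
  have hgzT : ∀ x ∈ ({a, b, c} : Finset α), (g * z) x ∈ ({a, b, c} : Finset α) := fun x hx =>
    hgT _ (S.R_stab hzR x hx)
  have hgza : (g * z) a = b := by rw [Perm.mul_apply, hza, hga]
  have hgzb : (g * z) b = a := by rw [Perm.mul_apply, hzb, hgb]
  have hgzc : (g * z) c = c := by rw [Perm.mul_apply, hzc, hgc]
  have hgzd : (g * z) d = d := by rw [Perm.mul_apply, hzd, hgd]
  have hCgz : Nat.card {u : N // g * z * (u : Perm α) * (g * z)⁻¹ = u} ≤ 3 := by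
    have h1 := card_fix_sdiff (h := g * z) (T := {a, b, c}) (c := c) (by simp) (hsd _ hgza hgzb hgzc)
    have h2 := S.semi _ hgzG fun h1 => hab (by rw [h1] at hgza; exact hgza)
    rw [S.card_cent hgzG hgzT hgzd]
    omega
  -- the two centralizers generate
  have hgN : ∀ u ∈ N, g * u * g⁻¹ ∈ N := S.normal g hgG hgT
  have hgi : ∀ u : Perm α, g * (g * u * g⁻¹) * g⁻¹ = u := fun u => by
    rw [show g * (g * u * g⁻¹) * g⁻¹ = g * g * u * (g * g)⁻¹ by group, hgg]; simp
  let Φ : N → {u : N // g * (u : Perm α) * g⁻¹ = u} × {u : N // g * z * (u : Perm α) * (g * z)⁻¹ = u} := fun u =>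
    (⟨⟨u * (g * u * g⁻¹), N.mul_mem u.2 (hgN _ u.2)⟩, by
      show g * ((u : Perm α) * (g * u * g⁻¹)) * g⁻¹ = u * (g * u * g⁻¹)
      rw [show g * ((u : Perm α) * (g * u * g⁻¹)) * g⁻¹ = (g * u * g⁻¹) * (g * (g * u * g⁻¹) * g⁻¹) by group, hgi]
      exact hab' _ (hgN _ u.2) _ u.2⟩,
     ⟨⟨u * (g * u * g⁻¹)⁻¹, N.mul_mem u.2 (N.inv_mem (hgN _ u.2))⟩, by
      show g * z * ((u : Perm α) * (g * u * g⁻¹)⁻¹) * (g * z)⁻¹ = u * (g * u * g⁻¹)⁻¹
      rw [show g * z * ((u : Perm α) * (g * u * g⁻¹)⁻¹) * (g * z)⁻¹ =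
        g * (z * ((u : Perm α) * (g * u * g⁻¹)⁻¹) * z⁻¹) * g⁻¹ by group,
        hzinv _ (N.mul_mem u.2 (N.inv_mem (hgN _ u.2))),
        show g * ((u : Perm α) * (g * u * g⁻¹)⁻¹)⁻¹ * g⁻¹ = (g * (g * u * g⁻¹) * g⁻¹) * (g * u * g⁻¹)⁻¹ by group, hgi]⟩)
  have hΦ : Function.Injective Φ := by
    intro u v huv
    have h1 : (u : Perm α) * (g * u * g⁻¹) = (v : Perm α) * (g * v * g⁻¹) :=
      congrArg (fun w => ((w.1.1 : N) : Perm α)) huv
    have h2 : (u : Perm α) * (g * u * g⁻¹)⁻¹ = (v : Perm α) * (g * v * g⁻¹)⁻¹ :=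
      congrArg (fun w => ((w.2.1 : N) : Perm α)) huv
    have h3 : ∀ w : N, (w : Perm α) * (g * w * g⁻¹) * ((w : Perm α) * (g * w * g⁻¹)⁻¹) = (w : Perm α) ^ 2 := fun w => by
      rw [hab' _ w.2 _ (hgN _ w.2), show (g * (w : Perm α) * g⁻¹) * w * ((w : Perm α) * (g * w * g⁻¹)⁻¹) =
        (g * (w : Perm α) * g⁻¹) * (w * w) * (g * w * g⁻¹)⁻¹ by group,
        hab' _ (hgN _ w.2) _ (N.mul_mem w.2 w.2), mul_inv_cancel_right, pow_two]
    have h4' : (u : Perm α) ^ 2 = (v : Perm α) ^ 2 := by rw [← h3 u, ← h3 v, h1, h2]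
    refine (powCoprime (G := N) (n := 2) ?_).injective (Subtype.ext h4')
    exact ((Nat.prime_two.coprime_iff_not_dvd).2 hodd).symm
  have hle : Nat.card N ≤ 9 := by
    refine (Nat.card_le_card_of_injective Φ hΦ).trans ?_
    rw [Nat.card_prod, hCg]
    omega
  have h3dvd : 3 ∣ Nat.card N := by
    let C : Subgroup N :=
      { carrier := {u | g * (u : Perm α) * g⁻¹ = u}
        one_mem' := by simp
        mul_mem' := fun {u v} hu hv => by
          show g * ((u : Perm α) * v) * g⁻¹ = u * v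
          rw [show g * ((u : Perm α) * v) * g⁻¹ = (g * u * g⁻¹) * (g * v * g⁻¹) by group, hu, hv]
        inv_mem' := fun {u} hu => by
          show g * (u : Perm α)⁻¹ * g⁻¹ = (u : Perm α)⁻¹
          rw [show g * (u : Perm α)⁻¹ * g⁻¹ = (g * u * g⁻¹)⁻¹ by group, hu] }
    have h1 := C.card_subgroup_dvd_card
    rwa [show Nat.card C = 3 from hCg] at h1
  rw [hcardN] at hle h3dvd hodd
  have hRd := S.card_R_dvd
  rcases (by omega : Fintype.card α = 6 ∨ Fintype.card α = 12) with h6 | h12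
  · left
    rw [h6] at hRd
    have h2 : Nat.card R = 2 := Nat.dvd_antisymm hRd heven
    refine alt_le_of_two_mul_card (Or.inr ?_)
    rw [card_four_transitive S.h4 S.hnd, ← hR, h2, h6]
    rfl
  · rw [h12] at hRd
    obtain ⟨e, he, he8⟩ := (Nat.dvd_prime_pow Nat.prime_two).1 (show Nat.card R ∣ 2 ^ 3 from hRd)
    have he1 : e ≠ 0 := by
      rintro rfl
      rw [he8] at heven
      norm_num at heven
    by_cases he3 : e = 3
    · subst he3
      right
      have htr : ∀ x y, x ∉ ({a, b, c, d} : Finset α) → y ∉ ({a, b, c, d} : Finset α) → ∃ r ∈ R, r x = y := by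
        intro x y hx hy
        let O : Finset α := Finset.univ.filter fun z => ∃ r ∈ R, r x = z
        have hsub : O ⊆ ({a, b, c, d} : Finset α)ᶜ := fun z hz => by
          obtain ⟨r, hr, rfl⟩ := (Finset.mem_filter.1 hz).2
          exact Finset.mem_compl.2 fun hm => hx (r.injective (hr.2 _ hm) ▸ hm)
        have hO : 8 ≤ O.card := by
          rw [show (8 : ℕ) = Nat.card R by rw [he8]; rfl, ← Fintype.card_coe, ← Nat.card_eq_fintype_card]
          refine Nat.card_le_card_of_injective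
            (fun r : R => (⟨(r : Perm α) x, Finset.mem_filter.2 ⟨Finset.mem_univ _, r, r.2, rfl⟩⟩ : ↥O)) ?_
          intro r s h
          have h' : (r : Perm α) x = (s : Perm α) x := congrArg Subtype.val h
          exact Subtype.ext (inv_mul_eq_one.1 (S.free_R (R.mul_mem (R.inv_mem s.2) r.2) hx
            (by rw [Perm.mul_apply, h', Perm.inv_eq_iff_eq]))).symm
        have heq := Finset.eq_of_subset_of_card_le hsub
          (by rw [Finset.card_compl, card_four S.hnd, h12]; exact hO)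
        exact (Finset.mem_filter.1 (heq ▸ Finset.mem_compl.2 hy : y ∈ O)).2
      intro u v hu hv
      obtain ⟨g₁, hg₁, u1, u2, u3, u4⟩ := S.h4.map4 (a := u 0) (b := u 1) (c := u 2) (d := u 3)
        (nodup4.2 (by simp [hu.eq_iff])) S.hnd
      obtain ⟨g₂, hg₂, v1, v2, v3, v4⟩ := S.h4.map4 (a := v 0) (b := v 1) (c := v 2) (d := v 3)
        (nodup4.2 (by simp [hv.eq_iff])) S.hnd
      have h5 : ∀ (w : Fin 5 → α), Function.Injective w → ∀ k : Perm α, k (w 0) = a → k (w 1) = b → k (w 2) = c →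
          k (w 3) = d → k (w 4) ∉ ({a, b, c, d} : Finset α) := by
        intro w hw k k1 k2 k3 k4 hm
        simp only [Finset.mem_insert, Finset.mem_singleton] at hm
        rw [← k1, ← k2, ← k3, ← k4] at hm
        simp [k.injective.eq_iff, hw.eq_iff] at hm
      obtain ⟨r, hr, hrx⟩ := htr _ _ (h5 u hu g₁ u1 u2 u3 u4) (h5 v hv g₂ v1 v2 v3 v4)
      refine ⟨g₂⁻¹ * r * g₁, G.mul_mem (G.mul_mem (G.inv_mem hg₂) hr.1) hg₁, fun i => ?_⟩
      rw [Perm.mul_apply, Perm.mul_apply, Perm.inv_eq_iff_eq]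
      fin_cases i
      · simp only [Fin.zero_eta]; rw [u1, v1, hr.2 a (by simp)]
      · simp only [Fin.mk_one]; rw [u2, v2, hr.2 b (by simp)]
      · simp only [show (⟨2, by norm_num⟩ : Fin 5) = 2 from rfl]; rw [u3, v3, hr.2 c (by simp)]
      · simp only [show (⟨3, by norm_num⟩ : Fin 5) = 3 from rfl]; rw [u4, v4, hr.2 d (by simp)]
      · exact hrx
    · exfalso
      have hG := card_four_transitive S.h4 S.hnd
      rw [← hR, he8, h12] at hG
      haveI : Fact (Nat.Prime 11) := ⟨by norm_num⟩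
      have hq : ∃ q, Nat.card G = 11 * q ∧ (q = 2160 ∨ q = 4320) := by
        interval_cases e
        · exact absurd rfl he1
        · exact ⟨2160, by rw [hG]; norm_num, Or.inl rfl⟩
        · exact ⟨4320, by rw [hG]; norm_num, Or.inr rfl⟩
        · omega
      obtain ⟨q, hq, hq'⟩ := hq
      obtain ⟨x, hx⟩ := exists_prime_orderOf_dvd_card' (G := G) 11 (hq ▸ dvd_mul_right _ _)
      have hN := card_normalizer_dvd (G := G) (c := x) (by norm_num : (11 : ℕ).Prime) hx (by omega) (by omega)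
      obtain ⟨P, hP⟩ := (IsPGroup.of_card (p := 11) (n := 1) (G := Subgroup.zpowers x)
        (by rw [Nat.card_zpowers, hx, pow_one])).exists_le_sylow
      have hPc : Nat.card P = 11 := by
        rw [P.card_eq_multiplicity, hq]
        rcases hq' with rfl | rfl <;>
        · rw [Nat.factorization_mul (by norm_num) (by norm_num), Finsupp.add_apply,
            Nat.Prime.factorization_self (by norm_num), Nat.factorization_eq_zero_of_not_dvd (by norm_num)]
          norm_num
      have hPx : Subgroup.zpowers x = (P : Subgroup G) :=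
        Subgroup.eq_of_le_of_card_ge hP (by rw [Nat.card_zpowers, hx]; exact hPc.le)
      have h11 : 11 ∣ Nat.card (Subgroup.normalizer ((Subgroup.zpowers x : Subgroup G) : Set G)) := by
        have h1 := Subgroup.card_dvd_of_le (Subgroup.le_normalizer (H := Subgroup.zpowers x))
        rwa [Nat.card_zpowers, hx] at h1
      obtain ⟨f, hf⟩ := h11
      rw [hf] at hN
      have hf10 : f ∣ 10 := Nat.dvd_of_mul_dvd_mul_left (by norm_num) hN
      have hmod := card_sylow_modEq_one 11 G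
      have hidx := (Subgroup.normalizer ((Subgroup.zpowers x : Subgroup G) : Set G)).card_mul_index
      rw [hPx] at hf hidx
      erw [← P.card_eq_index_normalizer] at hidx
      rw [hf, hq, mul_assoc] at hidx
      have hidx' : f * Nat.card (Sylow 11 G) = q := Nat.eq_of_mul_eq_mul_left (by norm_num) hidx
      have hfle := Nat.le_of_dvd (by norm_num) hf10
      unfold Nat.ModEq at hmod
      interval_cases f <;> first
        | omega
        | (norm_num at hf10)

/-- A lift of a transposition to an involution, when quadruple stabilizers have odd order. -/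
theorem exists_lift (S : Setup G a b c d N) (hodd : ¬ 2 ∣ Nat.card (pstab G {a, b, c, d})) {p q r : α}
    (hpqr : ({p, q, r} : Finset α) = {a, b, c}) (hnd : [p, q, r, d].Nodup) :
    ∃ g ∈ G, g * g = 1 ∧ g p = q ∧ g q = p ∧ g r = r ∧ g d = d ∧
      (∀ x ∈ ({a, b, c} : Finset α), g x ∈ ({a, b, c} : Finset α)) ∧
      (fixF g \ {a, b, c}).card ≤ 2 := by
  classical
  obtain ⟨⟨hpq, hpr, hpd⟩, ⟨hqr, hqd⟩, hrd⟩ := nodup4.1 hnd
  obtain ⟨h, hh, h1, h2, h3, h4'⟩ := S.h4.map4 hnd (a' := q) (b' := p) (c' := r) (d' := d)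
    (nodup4.2 ⟨⟨hpq.symm, hqr, hqd⟩, ⟨hpr, hpd⟩, hrd⟩)
  obtain ⟨o, -, e, he, hpow⟩ := exists_two_part h
  set g := h ^ o with hg
  have gp : g p = q := by rw [hpow p (by rw [h1, h2]), h1]
  have gq : g q = p := by rw [hpow q (by rw [h2, h1]), h2]
  have gr : g r = r := by rw [hpow r (by rw [h3, h3]), h3]
  have gd : g d = d := by rw [hpow d (by rw [h4', h4']), h4']
  have hgG : g ∈ G := G.pow_mem hh o
  have hgT : ∀ x ∈ ({a, b, c} : Finset α), g x ∈ ({a, b, c} : Finset α) := by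
    rw [← hpqr]
    intro x hx
    simp only [Finset.mem_insert, Finset.mem_singleton] at hx
    rcases hx with rfl | rfl | rfl <;> simp [gp, gq, gr]
  have hmem : g * g ∈ pstab G {a, b, c, d} := by
    refine ⟨G.mul_mem hgG hgG, fun x hx => ?_⟩
    rw [S.four_eq, ← hpqr] at hx
    simp only [Finset.mem_insert, Finset.mem_singleton] at hx
    rcases hx with rfl | rfl | rfl | rfl <;> simp [gp, gq, gr, gd]
  have hgg : g * g = 1 := by
    have h1 : orderOf (g * g) ∣ 2 ^ e := orderOf_dvd_of_pow_eq_one (by rw [← pow_two, ← pow_mul, mul_comm, pow_mul, he, one_pow])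
    have h2 : orderOf (g * g) ∣ Nat.card (pstab G {a, b, c, d}) := by
      rw [← Subgroup.orderOf_mk (g * g) hmem]; exact orderOf_dvd_natCard _
    exact orderOf_eq_one_iff.1 (Nat.eq_one_of_dvd_coprimes
      (Nat.Coprime.pow_left e ((Nat.prime_two.coprime_iff_not_dvd).2 hodd)) h1 h2)
  refine ⟨g, hgG, hgg, gp, gq, gr, gd, hgT, ?_⟩
  have hg1 : g ≠ 1 := fun h => hpq (by rw [h] at gp; exact gp)
  have h4le := S.semi g hgG hg1
  have hsd := card_fix_sdiff (h := g) (T := {p, q, r}) (c := r) (by simp) (fun x hx => by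
    simp only [Finset.mem_insert, Finset.mem_singleton] at hx
    rcases hx with rfl | rfl | rfl <;> simp [gp, gq, gr, hpq, hpq.symm, hpr, hqr])
  rw [hpqr] at hsd
  by_contra hlt
  obtain ⟨p', q', r', s', hnd', hp', hq', hr', hs'⟩ := exists_four (S := fixF g) (by omega)
  obtain ⟨k, hk, k1, k2, k3, k4⟩ := S.h4.map4 hnd' S.hnd
  apply hodd
  have hmem' : k * g * k⁻¹ ∈ pstab G {a, b, c, d} := by
    refine ⟨G.mul_mem (G.mul_mem hk hgG) (G.inv_mem hk), fun x hx => ?_⟩
    simp only [Finset.mem_insert, Finset.mem_singleton] at hx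
    rw [← k1, ← k2, ← k3, ← k4] at hx
    rw [mem_fixF] at hp' hq' hr' hs'
    rcases hx with rfl | rfl | rfl | rfl <;> simp [hp', hq', hr', hs']
  haveI : Fact (Nat.Prime 2) := ⟨Nat.prime_two⟩
  have ho : orderOf (k * g * k⁻¹) = 2 := orderOf_eq_prime
    (by rw [pow_two, show k * g * k⁻¹ * (k * g * k⁻¹) = k * (g * g) * k⁻¹ by group, hgg]; simp)
    (fun h => hg1 (by simpa using conj_eq_one_iff.1 h))
  rw [← ho, ← Subgroup.orderOf_mk _ hmem']
  exact orderOf_dvd_natCard _

/-- The case of a nontrivial quadruple stabilizer of odd order. -/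
theorem odd_case (S : Setup G a b c d N) (hodd : ¬ 2 ∣ Nat.card (pstab G {a, b, c, d}))
    (hR : pstab G {a, b, c, d} ≠ ⊥) (hn : 6 ≤ Fintype.card α) : alternatingGroup α ≤ G := by
  classical
  obtain ⟨⟨hab, hac, had⟩, ⟨hbc, hbd⟩, hcd⟩ := nodup4.1 S.hnd
  set R := pstab G {a, b, c, d} with hRdef
  obtain ⟨g, hgG, hgg, hga, hgb, hgc, hgd, hgT, hgC⟩ := S.exists_lift hodd rfl S.hnd
  have hcardN := S.card_N
  have hgN : ∀ u ∈ N, g * u * g⁻¹ ∈ N := S.normal g hgG hgT
  have hRd := S.card_R_dvd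
  have hR1 : Nat.card R ≠ 1 := fun h => hR (Subgroup.card_eq_one.1 h)
  by_cases hNe : 2 ∣ Nat.card N
  swap
  · -- odd degree of the kernel
    exfalso
    obtain ⟨g', hg'G, hg'g, hb', hc', ha', hd', hg'T, hg'C⟩ := S.exists_lift hodd (p := b) (q := c) (r := a)
      (by ext; simp; tauto) (nodup4.2 ⟨⟨hbc, hab.symm, hbd⟩, ⟨hac.symm, hcd⟩, had⟩)
    have hfp : ∀ k : Perm α, k ∈ G → k * k = 1 → (∀ x ∈ ({a, b, c} : Finset α), k x ∈ ({a, b, c} : Finset α)) →
        k d = d → (fixF k \ {a, b, c}).card ≤ 2 → ∀ u ∈ N, k * u * k⁻¹ = u⁻¹ := by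
      intro k hk hkk hkT hkd hkC
      refine inverts_of_fpf hkk (S.normal k hk hkT) ?_
      intro u hu hc
      by_contra hu1
      -- a fixed element gives a fixed point of even multiplicity
      let C : Subgroup N :=
        { carrier := {u | k * (u : Perm α) * k⁻¹ = u}
          one_mem' := by simp
          mul_mem' := fun {u v} hu hv => by
            show k * ((u : Perm α) * v) * k⁻¹ = u * v
            rw [show k * ((u : Perm α) * v) * k⁻¹ = (k * u * k⁻¹) * (k * v * k⁻¹) by group, hu, hv]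
          inv_mem' := fun {u} hu => by
            show k * (u : Perm α)⁻¹ * k⁻¹ = (u : Perm α)⁻¹
            rw [show k * (u : Perm α)⁻¹ * k⁻¹ = (k * u * k⁻¹)⁻¹ by group, hu] }
      have h1 := C.card_subgroup_dvd_card
      rw [show Nat.card C = (fixF k \ {a, b, c}).card from S.card_cent hk hkT hkd] at h1
      have h2 : 1 < Nat.card C := by
        haveI : Nontrivial C := ⟨⟨⟨⟨u, hu⟩, hc⟩, 1, fun e => hu1 (congrArg (fun v : C => ((v : N) : Perm α)) e)⟩⟩
        exact Finite.one_lt_card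
      rw [show Nat.card C = (fixF k \ {a, b, c}).card from S.card_cent hk hkT hkd] at h2
      exact hNe ((show (fixF k \ {a, b, c}).card = 2 by omega) ▸ h1)
    have i1 := hfp g hgG hgg hgT hgd hgC
    have i2 := hfp g' hg'G hg'g hg'T hd' hg'C
    have hcw : ∀ u ∈ N, g * g' * u * (g * g')⁻¹ = u := fun u hu => by
      rw [show g * g' * u * (g * g')⁻¹ = g * (g' * u * g'⁻¹) * g⁻¹ by group, i2 u hu, i1 _ (N.inv_mem hu), inv_inv]
    have hwd : (g * g') d = d := by rw [Perm.mul_apply, hd', hgd]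
    have hw1 : g * g' ≠ 1 := fun h => hab (by
      have h1 : (g * g') a = b := by rw [Perm.mul_apply, ha', hga]
      rw [h] at h1; exact h1)
    have h1 : ({a, b, c} : Finset α)ᶜ ⊆ fixF (g * g') := fun x hx =>
      mem_fixF.2 (S.fix_of_centralize hwd hcw x (Finset.mem_compl.1 hx))
    have h2 := (Finset.card_le_card h1).trans (S.semi _ (G.mul_mem hgG hg'G) hw1)
    rw [Finset.card_compl, Finset.card_insert_of_notMem (by simp [hab, hac]), Finset.card_pair hbc] at h2
    rcases (by omega : Fintype.card α = 6 ∨ Fintype.card α = 7) with h | h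
    · rw [h] at hRd
      rcases (Nat.dvd_prime Nat.prime_two).1 hRd with h' | h'
      · exact hR1 h'
      · exact hodd (h' ▸ dvd_rfl)
    · rw [hcardN, h] at hNe; omega
  -- even degree of the kernel
  have hCset : (fixF g \ {a, b, c}).card = 2 := by
    have h1 : d ∈ fixF g \ {a, b, c} := Finset.mem_sdiff.2 ⟨mem_fixF.2 hgd, S.d_notMem⟩
    have h2 := Finset.card_pos.2 ⟨d, h1⟩
    have h3 := card_inter_fixF_mod (g := g) (by rw [pow_two, hgg]) (S := ({a, b, c} : Finset α)ᶜ) (fun x => by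
      rw [Finset.mem_compl, Finset.mem_compl, not_iff_not]
      refine ⟨fun h => ?_, hgT x⟩
      have := hgT _ h
      rwa [← Perm.mul_apply, hgg, Perm.one_apply] at this)
    rw [show ({a, b, c} : Finset α)ᶜ ∩ fixF g = fixF g \ {a, b, c} by ext; simp; tauto, Finset.card_compl,
      Finset.card_insert_of_notMem (by simp [hab, hac]), Finset.card_pair hbc] at h3
    rw [hcardN] at hNe
    omega
  have hC2 : Nat.card {u : N // g * (u : Perm α) * g⁻¹ = u} = 2 := (S.card_cent hgG hgT hgd).trans hCset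
  obtain ⟨u₀, hu₀N, hu₀, hu₀1, hC⟩ : ∃ u₀ ∈ N, g * u₀ * g⁻¹ = u₀ ∧ u₀ ≠ 1 ∧
      ∀ v ∈ N, g * v * g⁻¹ = v → v = 1 ∨ v = u₀ := by
    rw [Nat.card_eq_two_iff' (⟨1, by simp⟩ : {u : N // g * (u : Perm α) * g⁻¹ = u})] at hC2
    obtain ⟨⟨⟨u, hu⟩, hc⟩, hne, huniq⟩ := hC2
    refine ⟨u, hu, hc, fun e => hne (Subtype.ext (Subtype.ext e)), fun v hv hvc => ?_⟩
    by_contra hcon
    push Not at hcon
    exact hcon.2 (congrArg (fun w => ((w.1 : N) : Perm α)) (huniq ⟨⟨v, hv⟩, hvc⟩
      (fun e => hcon.1 (congrArg (fun w => ((w.1 : N) : Perm α)) e))))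
  have hu₀d : u₀ d ≠ d := S.free u₀ hu₀N hu₀1 d S.d_notMem
  have hgRn : ∀ r ∈ R, g * r * g⁻¹ ∈ R := fun r hr => mem_pstab_conj hgG (fun x hx => by
    rw [inv_eq_of_mul_eq_one_right hgg]
    simp only [Finset.mem_insert, Finset.mem_singleton] at hx
    rcases hx with rfl | rfl | rfl | rfl <;> simp [hga, hgb, hgc, hgd]) hr
  -- the conjugation action of `R` on the kernel
  have hRN : ∀ r ∈ R, ∀ u ∈ N, r * u * r⁻¹ ∈ N := fun r hr => S.normal r hr.1 (S.R_stab hr)
  have hRd' : ∀ r ∈ R, r d = d := fun r hr => hr.2 d (by simp)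
  have hmove : ∀ r ∈ R, r ≠ 1 → ∀ u ∈ N, r * u * r⁻¹ = u → u = 1 := by
    intro r hr hr1 u hu hc
    by_contra hu1
    refine hr1 (S.free_R hr (x := u d) ?_ ?_)
    · rw [S.four_eq, Finset.mem_insert, not_or]
      exact ⟨S.free u hu hu1 d S.d_notMem, S.apply_notMem hu S.d_notMem⟩
    · conv_rhs => rw [← hc, Perm.mul_apply, Perm.mul_apply, inv_apply_of_fix (hRd' r hr)]
  have hinvR : ∀ r ∈ R, g * r * g⁻¹ = r⁻¹ := by
    refine inverts_of_fpf hgg hgRn ?_
    intro r hr hc
    by_contra hr1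
    have h1 : g * (r * u₀ * r⁻¹) * g⁻¹ = r * u₀ * r⁻¹ := by
      rw [show g * (r * u₀ * r⁻¹) * g⁻¹ = (g * r * g⁻¹) * (g * u₀ * g⁻¹) * (g * r * g⁻¹)⁻¹ by group, hc, hu₀]
    rcases hC _ (hRN r hr u₀ hu₀N) h1 with h2 | h2
    · exact hu₀1 (conj_eq_one_iff.1 h2)
    · exact hu₀1 (hmove r hr hr1 u₀ hu₀N h2)
  have hmap : ∀ k : Perm α, k ∈ G → (∀ x ∈ ({a, b, c} : Finset α), k x ∈ ({a, b, c} : Finset α)) →
      ∀ v ∈ N, k⁻¹ * v * k ∈ N := by
    intro k hk hkT v hv
    obtain ⟨⟨w, hw⟩, hwv⟩ := Finite.surjective_of_injective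
      (f := fun w : N => (⟨k * w * k⁻¹, S.normal k hk hkT w w.2⟩ : N))
      (fun x y hxy => Subtype.ext (by simpa using congrArg Subtype.val hxy)) ⟨v, hv⟩
    have h1 : k * w * k⁻¹ = v := congrArg Subtype.val hwv
    rw [← h1, show k⁻¹ * (k * w * k⁻¹) * k = w by group]
    exact hw
  -- central elements of a prime exponent
  let Zp : ℕ → Set (Perm α) := fun p => {u | u ∈ N ∧ (∀ v ∈ N, u * v = v * u) ∧ u ^ p = 1}
  have hZinv : ∀ (p : ℕ) (k : Perm α), k ∈ G → (∀ x ∈ ({a, b, c} : Finset α), k x ∈ ({a, b, c} : Finset α)) →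
      ∀ u ∈ Zp p, k * u * k⁻¹ ∈ Zp p := by
    rintro p k hk hkT u ⟨hu, hc, hp⟩
    refine ⟨S.normal k hk hkT u hu, fun v hv => ?_, by rw [conj_pow, hp]; simp⟩
    have h1 := hc _ (hmap k hk hkT v hv)
    calc k * u * k⁻¹ * v = k * (u * (k⁻¹ * v * k)) * k⁻¹ := by group
      _ = k * ((k⁻¹ * v * k) * u) * k⁻¹ := by rw [h1]
      _ = v * (k * u * k⁻¹) := by group
  have hcenter : ∀ p, p.Prime → p ∣ Nat.card N → ∃ u ∈ Zp p, u ≠ 1 := by
    intro p hp hpN
    haveI := Fact.mk hp
    haveI := S.nil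
    obtain ⟨P⟩ : Nonempty (Sylow p N) := inferInstance
    haveI : (P : Subgroup N).Normal := by
      have h := (Group.isNilpotent_of_finite_tfae (G := N)).out 0 3 rfl rfl
      exact h.1 S.nil p inferInstance P
    have hPne : (P : Subgroup N) ≠ ⊥ := P.ne_bot_of_dvd_card hpN
    obtain ⟨x, hx, hx1⟩ := (Subgroup.bot_or_exists_ne_one _).resolve_left
      (Cfsg.Lib.Solv.inf_center_ne_bot_of_isNilpotent hPne)
    obtain ⟨e, he⟩ := IsPGroup.iff_orderOf.1 P.isPGroup' ⟨x, hx.1⟩
    rw [Subgroup.orderOf_mk] at he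
    have he0 : e ≠ 0 := fun h => hx1 (orderOf_eq_one_iff.1 (by rw [he, h, pow_zero]))
    set y := x ^ (orderOf x / p) with hy
    have hyo : orderOf y = p := orderOf_pow_orderOf_div (orderOf_pos x).ne' (he ▸ dvd_pow_self p he0)
    have hyc : y ∈ Subgroup.center N := Subgroup.pow_mem _ hx.2 _
    refine ⟨y, ⟨y.2, fun v hv => congrArg Subtype.val (Subgroup.mem_center_iff.1 hyc ⟨v, hv⟩).symm, ?_⟩, fun h => ?_⟩
    · rw [← hyo, ← Subgroup.orderOf_coe, pow_orderOf_eq_one]
    · rw [← Subgroup.orderOf_coe, h, orderOf_one] at hyo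
      exact hp.ne_one hyo.symm
  haveI : Fact (Nat.Prime 2) := ⟨Nat.prime_two⟩
  let Z : Subgroup N :=
    { carrier := {u | (u : Perm α) ∈ Zp 2}
      one_mem' := ⟨N.one_mem, fun v _ => by simp, by simp⟩
      mul_mem' := fun {u v} hu hv => ⟨N.mul_mem hu.1 hv.1, fun w hw => by
          rw [Subgroup.coe_mul, mul_assoc, hv.2.1 w hw, ← mul_assoc, hu.2.1 w hw, mul_assoc], by
          rw [Subgroup.coe_mul, Commute.mul_pow (hu.2.1 _ hv.1), hu.2.2, hv.2.2, mul_one]⟩
      inv_mem' := fun {u} hu => ⟨N.inv_mem hu.1, fun w hw => (Commute.inv_left (hu.2.1 w hw)).eq, by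
          rw [Subgroup.coe_inv, inv_pow, hu.2.2, inv_one]⟩ }
  have memZ : ∀ u : N, u ∈ Z ↔ (u : Perm α) ∈ Zp 2 := fun u => Iff.rfl
  haveI hZn : Z.Normal := ⟨fun u hu v => by
    have h1 : (v : Perm α) * u * (v : Perm α)⁻¹ = u := by rw [← hu.2.1 v v.2, mul_inv_cancel_right]
    show (v : Perm α) * u * (v : Perm α)⁻¹ ∈ Zp 2
    rw [h1]; exact hu⟩
  let Ψ : Z →* Perm α :=
    { toFun := fun u => ((u : N) : Perm α) * (g * ((u : N) : Perm α) * g⁻¹)
      map_one' := by simp
      map_mul' := fun u v => by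
        show ((u : N) : Perm α) * (v : N) * (g * (((u : N) : Perm α) * (v : N)) * g⁻¹) =
          ((u : N) : Perm α) * (g * (u : N) * g⁻¹) * (((v : N) : Perm α) * (g * (v : N) * g⁻¹))
        have h1 : ((v : N) : Perm α) * (g * (u : N) * g⁻¹) = (g * (u : N) * g⁻¹) * (v : N) :=
          v.2.2.1 _ (hgN _ u.1.2)
        calc ((u : N) : Perm α) * (v : N) * (g * (((u : N) : Perm α) * (v : N)) * g⁻¹)
            = ((u : N) : Perm α) * (((v : N) : Perm α) * (g * (u : N) * g⁻¹)) * (g * (v : N) * g⁻¹) := by group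
          _ = _ := by rw [h1]; group }
  have hgi : ∀ u : Perm α, g * (g * u * g⁻¹) * g⁻¹ = u := fun u => by
    rw [show g * (g * u * g⁻¹) * g⁻¹ = g * g * u * (g * g)⁻¹ by group, hgg]; simp
  have hΨC : ∀ u : Z, Ψ u = 1 ∨ Ψ u = u₀ := fun u => hC _ (N.mul_mem u.1.2 (hgN _ u.1.2)) (by
    show g * (((u : N) : Perm α) * (g * (u : N) * g⁻¹)) * g⁻¹ = ((u : N) : Perm α) * (g * (u : N) * g⁻¹)
    rw [show g * (((u : N) : Perm α) * (g * (u : N) * g⁻¹)) * g⁻¹ =
      (g * (u : N) * g⁻¹) * (g * (g * (u : N) * g⁻¹) * g⁻¹) by group, hgi]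
    exact (u.2.2.1 _ (hgN _ u.1.2)).symm)
  have hrange : Nat.card Ψ.range ≤ 2 := by
    have h1 : (Ψ.range : Set (Perm α)) ⊆ {1, u₀} := by
      rintro _ ⟨u, rfl⟩
      simpa using hΨC u
    calc Nat.card Ψ.range = (Ψ.range : Set (Perm α)).ncard := (Nat.card_coe_set_eq _)
      _ ≤ ({1, u₀} : Set (Perm α)).ncard := Set.ncard_le_ncard h1 (Set.toFinite _)
      _ ≤ 2 := by rw [Set.ncard_pair (Ne.symm hu₀1)]
  have hker : Nat.card Ψ.ker ≤ 2 := by
    rw [← hC2]
    refine Nat.card_le_card_of_injective (fun u => (⟨u.1.1, ?_⟩ : {u : N // g * (u : Perm α) * g⁻¹ = u})) ?_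
    · have h1 : ((u.1 : N) : Perm α) * (g * (u.1 : N) * g⁻¹) = 1 := u.2
      have h2 : ((u.1 : N) : Perm α) * (u.1 : N) = 1 := by rw [← pow_two]; exact u.1.2.2.2
      exact mul_left_cancel (h1.trans h2.symm)
    · intro u v h
      exact Subtype.ext (Subtype.ext (congrArg (fun w : {u : N // g * (u : Perm α) * g⁻¹ = u} => w.1) h))
  have hZcard : Nat.card Z = Nat.card Ψ.range * Nat.card Ψ.ker := by
    rw [← Ψ.ker.card_mul_index, Subgroup.index_ker, mul_comm]
  obtain ⟨y, hyZ, hy1⟩ := hcenter 2 Nat.prime_two hNe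
  -- `R` moves the nontrivial central involutions freely
  have hRZ : Nat.card R ∣ Nat.card Z - 1 := by
    let Sd : Finset α := Finset.univ.filter fun x => ∃ u : N, u ∈ Z ∧ u ≠ 1 ∧ (u : Perm α) d = x
    have hSd : Sd.card = Nat.card Z - 1 := by
      have h1 : Sd.card = Nat.card {u : Z // u ≠ 1} := by
        rw [← Fintype.card_coe, ← Nat.card_eq_fintype_card]
        symm
        refine Nat.card_congr (Equiv.ofBijective (fun u => ⟨((u.1 : N) : Perm α) d, Finset.mem_filter.2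
          ⟨Finset.mem_univ _, u.1.1, u.1.2, fun e => u.2 (Subtype.ext e), rfl⟩⟩) ⟨fun u v h => ?_, fun x => ?_⟩)
        · exact Subtype.ext (Subtype.ext (Subtype.ext (S.inj u.1.1.2 v.1.1.2 (congrArg Subtype.val h))))
        · obtain ⟨u, hu, hu1, hux⟩ := (Finset.mem_filter.1 x.2).2
          exact ⟨⟨⟨u, hu⟩, fun e => hu1 (congrArg Subtype.val e)⟩, Subtype.ext hux⟩
      rw [h1]
      haveI := Fintype.ofFinite Z
      rw [Nat.card_eq_fintype_card, Nat.card_eq_fintype_card, Fintype.card_subtype_compl, Fintype.card_subtype_eq]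
    rw [← hSd]
    refine card_dvd_of_free (fun r hr x hx => ?_) (fun r hr x hx hrx => ?_)
    · obtain ⟨u, hu, hu1, rfl⟩ := (Finset.mem_filter.1 hx).2
      refine Finset.mem_filter.2 ⟨Finset.mem_univ _, ⟨r * u * r⁻¹, hRN r hr _ u.2⟩,
        hZinv 2 r hr.1 (S.R_stab hr) _ hu, fun e => hu1 (Subtype.ext ?_), ?_⟩
      · simpa using conj_eq_one_iff.1 (congrArg Subtype.val e)
      · show (r * (u : Perm α) * r⁻¹) d = r ((u : Perm α) d)
        rw [Perm.mul_apply, Perm.mul_apply, inv_apply_of_fix (hRd' r hr)]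
    · obtain ⟨u, hu, hu1, rfl⟩ := (Finset.mem_filter.1 hx).2
      refine S.free_R hr ?_ hrx
      rw [S.four_eq, Finset.mem_insert, not_or]
      exact ⟨S.free _ u.2 (fun e => hu1 (Subtype.ext e)) d S.d_notMem, S.apply_notMem u.2 S.d_notMem⟩
  have hZ2 : 2 ≤ Nat.card Z := by
    haveI : Nontrivial Z := ⟨⟨⟨⟨y, hyZ.1⟩, hyZ⟩, 1, fun e => hy1 (congrArg (fun u : Z => ((u : N) : Perm α)) e)⟩⟩
    exact Finite.one_lt_card
  have hZ4 : Nat.card Z ≤ 4 := by rw [hZcard]; exact Nat.mul_le_mul hrange hker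
  have hR3 : Nat.card R = 3 ∧ Nat.card Z = 4 := by
    have h1 := Nat.le_of_dvd (by omega) hRZ
    have h2 : 0 < Nat.card R := Nat.card_pos
    interval_cases h : Nat.card Z <;> interval_cases h' : Nat.card R <;> first | omega | exact ⟨rfl, rfl⟩
  have hu₀Z : (⟨u₀, hu₀N⟩ : N) ∈ Z := by
    -- the central involutions meet the centralizer
    have hk : 2 ≤ Nat.card Ψ.ker := by
      rw [hR3.2] at hZcard
      nlinarith
    haveI : Nontrivial Ψ.ker := Finite.one_lt_card_iff_nontrivial.1 hk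
    obtain ⟨v, hv⟩ := exists_ne (1 : Ψ.ker)
    have h1 : ((v.1 : N) : Perm α) * (g * (v.1 : N) * g⁻¹) = 1 := v.2
    have h2 : ((v.1 : N) : Perm α) * (v.1 : N) = 1 := by rw [← pow_two]; exact v.1.2.2.2
    rcases hC _ v.1.1.2 (mul_left_cancel (h1.trans h2.symm)) with h | h
    · exact absurd (Subtype.ext (Subtype.ext (Subtype.ext h))) hv
    · rw [show (⟨u₀, hu₀N⟩ : N) = v.1.1 from Subtype.ext h.symm]
      exact v.1.2
  obtain ⟨z', hz'⟩ : ∃ z' : Z, Ψ z' = u₀ := by
    have hk : 2 ≤ Nat.card Ψ.range := by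
      rw [hR3.2] at hZcard
      nlinarith
    haveI : Nontrivial Ψ.range := Finite.one_lt_card_iff_nontrivial.1 hk
    obtain ⟨⟨_, u, rfl⟩, hu⟩ := exists_ne (1 : Ψ.range)
    exact ⟨u, (hΨC u).resolve_left fun h => hu (Subtype.ext h)⟩
  -- the kernel is a two-group
  have hN2 : ∀ p, p.Prime → p ∣ Nat.card N → p = 2 := by
    intro p hp hpN
    by_contra hp2
    obtain ⟨u, hu, hu1⟩ := hcenter p hp hpN
    have hpo : Nat.Coprime p 2 := (Nat.coprime_primes hp Nat.prime_two).2 hp2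
    have hinv : ∀ w ∈ Zp p, g * w * g⁻¹ = w⁻¹ := by
      intro w hw
      have h1 : g * (w * (g * w * g⁻¹)) * g⁻¹ = w * (g * w * g⁻¹) := by
        rw [show g * (w * (g * w * g⁻¹)) * g⁻¹ = (g * w * g⁻¹) * (g * (g * w * g⁻¹) * g⁻¹) by group, hgi]
        exact (hw.2.1 _ (hgN _ hw.1)).symm
      rcases hC _ (N.mul_mem hw.1 (hgN _ hw.1)) h1 with h2 | h2
      · exact eq_inv_of_mul_eq_one_right h2
      · exfalso
        have h3 : u₀ ^ p = 1 := by
          rw [← h2, Commute.mul_pow (hw.2.1 _ (hgN _ hw.1)), hw.2.2, conj_pow, hw.2.2]; simp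
        have h4 : u₀ ^ 2 = 1 := congrArg (fun v : N => (v : Perm α)) (Subtype.ext hu₀Z.2.2 : (⟨u₀, hu₀N⟩ : N) ^ 2 = 1)
        have h5 := pow_gcd_eq_one.2 ⟨h3, h4⟩
        rw [hpo.gcd_eq_one, pow_one] at h5
        exact hu₀1 h5
    obtain ⟨⟨r, hr⟩, hr1⟩ := @exists_ne R (Finite.one_lt_card_iff_nontrivial.1 (by rw [hR3.1]; norm_num)) 1
    have hr1' : r ≠ 1 := fun e => hr1 (Subtype.ext e)
    have hr3 : r ^ 3 = 1 := by
      have h1 : (⟨r, hr⟩ : R) ^ Nat.card R = 1 := pow_card_eq_one'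
      rw [hR3.1] at h1
      exact congrArg Subtype.val h1
    have h1 := hinv u hu
    have h2 := hinv _ (hZinv p r hr.1 (S.R_stab hr) u hu)
    have h3 := hinvR r hr
    have h4 : r⁻¹ * u⁻¹ * r = r * u⁻¹ * r⁻¹ := by
      calc r⁻¹ * u⁻¹ * r = (g * r * g⁻¹) * (g * u * g⁻¹) * (g * r * g⁻¹)⁻¹ := by rw [h3, h1, inv_inv]
        _ = g * (r * u * r⁻¹) * g⁻¹ := by group
        _ = (r * u * r⁻¹)⁻¹ := h2
        _ = r * u⁻¹ * r⁻¹ := by group
    have hrr : r⁻¹ = r * r := by
      rw [eq_comm, eq_inv_iff_mul_eq_one, ← pow_two, ← pow_succ]; exact hr3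
    have h5 : r * u * r⁻¹ = u := by
      have h6 := congrArg (fun x => r * x⁻¹ * r⁻¹) h4
      simp only [mul_inv_rev, inv_inv] at h6
      have h7 : u = r * r * u * (r * r)⁻¹ := by
        calc u = r * (r⁻¹ * (u * r)) * r⁻¹ := by group
          _ = r * (r * (u * r⁻¹)) * r⁻¹ := by rw [h6]
          _ = r * r * u * (r * r)⁻¹ := by group
      rw [← hrr, inv_inv] at h7
      calc r * u * r⁻¹ = r * (r⁻¹ * u * r) * r⁻¹ := by rw [← h7]
        _ = u := by group
    exact hu1 (hmove r hr hr1' u hu.1 h5)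
  have hNp : IsPGroup 2 N := by
    refine IsPGroup.of_card (n := (Nat.card N).primeFactorsList.length) ?_
    exact Nat.eq_prime_pow_of_unique_prime_dvd Nat.card_pos.ne' fun hq hqN => hN2 _ hq hqN
  have hN4 : Nat.card N = 4 := by
    by_contra hne
    -- a fixed coset outside the central involutions
    let σ : N ⧸ Z → N ⧸ Z := fun x => Quotient.liftOn' x (fun u => ((⟨g * u * g⁻¹, hgN _ u.2⟩ : N) : N ⧸ Z)) (by
      intro u v huv
      rw [QuotientGroup.leftRel_apply] at huv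
      refine QuotientGroup.eq.2 ?_
      show (g * (u : Perm α) * g⁻¹)⁻¹ * (g * v * g⁻¹) ∈ Zp 2
      rw [show (g * (u : Perm α) * g⁻¹)⁻¹ * (g * v * g⁻¹) = g * ((u : Perm α)⁻¹ * v) * g⁻¹ by group]
      exact hZinv 2 g hgG hgT _ huv)
    have hσσ : ∀ x, σ (σ x) = x := fun x => Quotient.inductionOn' x fun u =>
      congrArg QuotientGroup.mk (Subtype.ext (hgi u))
    let π : Perm (N ⧸ Z) := ⟨σ, σ, hσσ, hσσ⟩
    letI := Fintype.ofFinite (N ⧸ Z)
    have hπ : π ^ 2 ^ 1 = 1 := Equiv.ext fun x => by rw [pow_one, pow_two]; exact hσσ x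
    have h1 := Equiv.Perm.card_compl_support_modEq hπ
    obtain ⟨k, hk⟩ := IsPGroup.iff_card.1 (hNp.to_quotient Z)
    have hk0 : k ≠ 0 := by
      rintro rfl
      have h2 := Subgroup.card_eq_card_quotient_mul_card_subgroup Z
      rw [hk, pow_zero, one_mul] at h2
      exact hne (h2.trans hR3.2)
    have h1' : π.supportᶜ.card % 2 = 0 := by
      rw [h1, ← Nat.card_eq_fintype_card, hk]
      exact Nat.mod_eq_zero_of_dvd (dvd_pow_self 2 hk0) |>.trans rfl
    have hone : ((1 : N) : N ⧸ Z) ∈ π.supportᶜ := by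
      simp only [Finset.mem_compl, Perm.mem_support, ne_eq, not_not]
      exact congrArg QuotientGroup.mk (Subtype.ext (show g * (1 : Perm α) * g⁻¹ = 1 by simp))
    obtain ⟨x, hx, hx1⟩ := Finset.exists_mem_ne (s := π.supportᶜ) (by
      have := Finset.card_pos.2 ⟨_, hone⟩; omega) ((1 : N) : N ⧸ Z)
    induction x using QuotientGroup.induction_on with
    | _ w =>
      simp only [Finset.mem_compl, Perm.mem_support, ne_eq, not_not] at hx
      have hw : (⟨g * w * g⁻¹, hgN _ w.2⟩ : N)⁻¹ * w ∈ Z := QuotientGroup.eq.1 hx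
      have hz0 : (g * (w : Perm α) * g⁻¹)⁻¹ * w ∈ Zp 2 := hw
      set z0 := (g * (w : Perm α) * g⁻¹)⁻¹ * w with hz0def
      have hzc : g * z0 * g⁻¹ = z0 := by
        rw [hz0def, show g * ((g * (w : Perm α) * g⁻¹)⁻¹ * w) * g⁻¹ =
          (g * (g * (w : Perm α) * g⁻¹) * g⁻¹)⁻¹ * (g * w * g⁻¹) by
            simp only [mul_inv_rev, inv_inv, mul_assoc, inv_mul_cancel_left], hgi]
        have h2 : z0 * z0 = 1 := by rw [← pow_two]; exact hz0.2.2
        have h3 := inv_eq_of_mul_eq_one_right h2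
        rw [hz0def, mul_inv_rev, inv_inv] at h3
        exact h3
      have hwout : ∀ y : N, g * (y : Perm α) * g⁻¹ = y → y ∈ Z := fun y hy => by
        rcases hC _ y.2 hy with h | h
        · rw [show y = 1 from Subtype.ext h]; exact Z.one_mem
        · rw [show y = ⟨u₀, hu₀N⟩ from Subtype.ext h]; exact hu₀Z
      apply hx1
      refine (QuotientGroup.eq.2 ?_)
      rcases hC _ hz0.1 hzc with h | h
      · have h' : g * (w : Perm α) * g⁻¹ = w := inv_mul_eq_one.1 h
        simpa using Z.inv_mem (hwout w h')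
      · -- shift by a central involution
        have hzz : ((z' : N) : Perm α) * (g * (z' : N) * g⁻¹) = u₀ := hz'
        have hu2 : u₀ * u₀ = 1 := by
          have := hu₀Z.2.2
          rwa [pow_two] at this
        have hz'2 : ((z' : N) : Perm α) * (z' : N) = 1 := by rw [← pow_two]; exact z'.2.2.2
        have hgw : g * (w : Perm α) * g⁻¹ = (w : Perm α) * u₀ := by
          rw [hz0def] at h
          have h2 := congrArg (fun t => t * u₀) h
          simp only [hu2, mul_assoc] at h2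
          rw [← mul_assoc] at h2
          exact (inv_mul_eq_one.1 (by simpa [mul_assoc] using h2)).trans rfl
        have hgz' : g * ((z' : N) : Perm α) * g⁻¹ = ((z' : N) : Perm α) * u₀ := by
          calc g * ((z' : N) : Perm α) * g⁻¹
              = ((z' : N) : Perm α) * (z' : N) * (g * (z' : N) * g⁻¹) := by rw [hz'2, one_mul]
            _ = ((z' : N) : Perm α) * u₀ := by rw [mul_assoc, hzz]
        have hfix : g * ((w : Perm α) * (z' : N)) * g⁻¹ = (w : Perm α) * (z' : N) := by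
          rw [show g * ((w : Perm α) * (z' : N)) * g⁻¹ = (g * w * g⁻¹) * (g * (z' : N) * g⁻¹) by group, hgw, hgz',
            z'.2.2.1 u₀ hu₀N, mul_assoc (w : Perm α), ← mul_assoc u₀, hu2, one_mul]
        have h3 := hwout (w * z'.1) hfix
        simpa using Z.inv_mem ((Z.mul_mem_cancel_right z'.2).1 h3)
  have hn7 : Fintype.card α = 7 := by rw [hcardN] at hN4; omega
  refine alt_le_of_two_mul_card (Or.inl ?_)
  rw [card_four_transitive S.h4 S.hnd, ← hRdef, hR3.1, hn7]
  rfl

end Setup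

/-- Four times transitive groups in which only the identity fixes five points. -/
theorem four_minimal (h4 : Tr G 4) (hS : Semi G 4) (hn : 6 ≤ Fintype.card α) :
    alternatingGroup α ≤ G ∨ Tr G 5 ∨
      (Fintype.card α = 11 ∧ ∀ A : Finset α, A.card = 4 → pstab G A = ⊥) := by
  classical
  obtain ⟨a, b, c, d, hnd, -⟩ := exists_four (S := (Finset.univ : Finset α)) (by rw [Finset.card_univ]; omega)
  by_cases hR : pstab G {a, b, c, d} = ⊥
  · -- sharply four times transitive
    have hall : ∀ A : Finset α, A.card = 4 → pstab G A = ⊥ := by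
      intro A hA
      obtain ⟨p, q, r, s, hnd', hp, hq, hr, hs⟩ := exists_four (S := A) (by omega)
      rw [Subgroup.eq_bot_iff_forall]
      intro x hx
      obtain ⟨k, hk, k1, k2, k3, k4⟩ := h4.map4 hnd' hnd
      have hmem : k * x * k⁻¹ ∈ pstab G {a, b, c, d} := by
        refine ⟨G.mul_mem (G.mul_mem hk hx.1) (G.inv_mem hk), fun y hy => ?_⟩
        simp only [Finset.mem_insert, Finset.mem_singleton] at hy
        rw [← k1, ← k2, ← k3, ← k4] at hy
        rcases hy with rfl | rfl | rfl | rfl <;> simp [hx.2, hp, hq, hr, hs]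
      rw [hR, Subgroup.mem_bot] at hmem
      simpa using conj_eq_one_iff.1 hmem
    haveI := tr_iff.1 h4
    rcases Cfsg.Agent.S0415.result G (by omega) (fun x => by
      rw [Subgroup.eq_bot_iff_forall]
      intro k hk
      have hmem : (k : Perm α) ∈ pstab G (Finset.univ.image x) := ⟨k.2, fun y hy => by
        obtain ⟨i, -, rfl⟩ := Finset.mem_image.1 hy
        exact congrFun (congrArg (⇑) (hk : k • x = x)) i⟩
      rw [hall _ (by rw [Finset.card_image_of_injective _ x.injective, Finset.card_univ, Fintype.card_fin]),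
        Subgroup.mem_bot] at hmem
      exact Subtype.ext hmem) with h | h | h | h
    · omega
    · omega
    · left
      refine alt_le_of_two_mul_card (Or.inl ?_)
      rw [card_four_transitive h4 hnd, hR, Subgroup.card_bot, h]
      rfl
    · exact Or.inr (Or.inr ⟨h, hall⟩)
  obtain ⟨N, h1, h2, h3, h4', h5⟩ := exists_kernel h4 hS hnd hR
  have S : Setup G a b c d N := ⟨h4, hS, hnd, h1, h2, h3, h4', h5⟩
  by_cases heven : 2 ∣ Nat.card (pstab G {a, b, c, d})
  · exact (S.even_case heven hn).elim Or.inl fun h => Or.inr (Or.inl h)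
  · exact Or.inl (S.odd_case heven hR hn)

end Cfsg.Lib.Perm.LW
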