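import Cfsg.Agent.Lib.Perm.LW.Core

/-!
# Four times transitive groups with stabilizers of four points of odd order

Hall's theorem. Either the centralizers of involutions move their fixed points, and then the group is five times
transitive, or a fourth root of unity on four points forces the stabilizer of four points to be trivial.
-/

set_option autoImplicit false
set_option linter.style.haveILetI false
set_option linter.unusedSectionVars false

universe u

namespace Cfsg.Lib.Perm.LW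

open Equiv

variable {α : Type u} [Fintype α] [DecidableEq α] {G : Subgroup (Perm α)}

/-- Four times transitive, with every stabilizer of four points of odd order. -/
structure Odd4 (G : Subgroup (Perm α)) : Prop where
  h4 : Tr G 4
  odd : ∀ A : Finset α, A.card = 4 → Odd (Nat.card (pstab G A))

/-- An involution of `G` acting on four points as a double transposition. -/
structure Dbl (G : Subgroup (Perm α)) (g : Perm α) (a b p q : α) : Prop where
  mem : g ∈ G
  invol : g * g = 1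
  ga : g a = b
  gp : g p = q
  nd : [a, b, p, q].Nodup

namespace Odd4

theorem eq_one (H : Odd4 G) {g : Perm α} (hg : g ∈ G) {A : Finset α} (hA : A.card = 4) (hfix : ∀ x ∈ A, g x = x)
    (h2 : ∃ e : ℕ, g ^ 2 ^ e = 1) : g = 1 := by
  obtain ⟨e, he⟩ := h2
  rw [← orderOf_eq_one_iff]
  have h1 : orderOf g ∣ 2 ^ e := orderOf_dvd_of_pow_eq_one he
  obtain ⟨i, -, hi⟩ := (Nat.dvd_prime_pow Nat.prime_two).1 h1
  have h2 : orderOf g ∣ Nat.card (pstab G A) := by
    rw [← Subgroup.orderOf_mk g (show g ∈ pstab G A from ⟨hg, hfix⟩)]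
    exact orderOf_dvd_natCard _
  rcases i with _ | i
  · simpa using hi
  · exfalso
    rw [hi] at h2
    exact Nat.not_even_iff_odd.2 (H.odd A hA) (even_iff_two_dvd.2 ((dvd_pow_self 2 (Nat.succ_ne_zero i)).trans h2))

theorem fix_le (H : Odd4 G) {g : Perm α} (hg : g ∈ G) (hgg : g * g = 1) (h1 : g ≠ 1) : (fixF g).card ≤ 3 := by
  by_contra h
  obtain ⟨A, hA, hAc⟩ := Finset.exists_subset_card_eq (s := fixF g) (n := 4) (by omega)
  exact h1 (H.eq_one hg hAc (fun x hx => mem_fixF.1 (hA hx)) ⟨1, by rw [pow_one, pow_two]; exact hgg⟩)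

/-- A lift of a transposition to an involution. -/
theorem exists_swap (H : Odd4 G) {a b c d : α} (hnd : [a, b, c, d].Nodup) :
    ∃ g ∈ G, g * g = 1 ∧ g a = b ∧ g b = a ∧ g c = c ∧ g d = d := by
  obtain ⟨⟨hab, hac, had⟩, ⟨hbc, hbd⟩, hcd⟩ := nodup4.1 hnd
  obtain ⟨h, hh, h1, h2, h3, h4'⟩ := H.h4.map4 hnd (a' := b) (b' := a) (c' := c) (d' := d)
    (nodup4.2 ⟨⟨hab.symm, hbc, hbd⟩, ⟨hac, had⟩, hcd⟩)
  obtain ⟨o, -, e, he, hag⟩ := exists_two_part h
  have ga : (h ^ o) a = b := by rw [hag a (by rw [h1, h2]), h1]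
  have gb : (h ^ o) b = a := by rw [hag b (by rw [h2, h1]), h2]
  have gc : (h ^ o) c = c := by rw [hag c (by rw [h3, h3]), h3]
  have gd : (h ^ o) d = d := by rw [hag d (by rw [h4', h4']), h4']
  refine ⟨h ^ o, G.pow_mem hh o, ?_, ga, gb, gc, gd⟩
  refine H.eq_one (G.mul_mem (G.pow_mem hh o) (G.pow_mem hh o)) (card_four hnd) (fun x hx => ?_)
    ⟨e, by rw [← pow_two, ← pow_mul, mul_comm, pow_mul, he, one_pow]⟩
  simp only [Finset.mem_insert, Finset.mem_singleton] at hx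
  rcases hx with rfl | rfl | rfl | rfl <;> simp [ga, gb, gc, gd]

/-- Involutions that agree on four points are conjugate under their stabilizer. -/
theorem conj_of_agree (H : Odd4 G) {A : Finset α} (hA : A.card = 4) {s s' : Perm α} (hs : s ∈ G) (hs' : s' ∈ G)
    (h : s * s = 1) (h' : s' * s' = 1) (hag : ∀ x ∈ A, s' (s x) = x) : ∃ r ∈ pstab G A, r * s * r⁻¹ = s' :=
  exists_conj (H.odd A hA) h h' ⟨G.mul_mem hs' hs, hag⟩

end Odd4

namespace Dbl

variable {g : Perm α} {a b p q : α}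

theorem apply_apply (D : Dbl G g a b p q) (x : α) : g (g x) = x := by
  rw [← Perm.mul_apply, D.invol, Perm.one_apply]

theorem gb (D : Dbl G g a b p q) : g b = a := by rw [← D.ga, D.apply_apply]

theorem gq (D : Dbl G g a b p q) : g q = p := by rw [← D.gp, D.apply_apply]

theorem card (D : Dbl G g a b p q) : ({a, b, p, q} : Finset α).card = 4 := card_four D.nd

theorem notMem_fix (D : Dbl G g a b p q) {z : α} (hz : z ∈ fixF g) : z ≠ a ∧ z ≠ b ∧ z ≠ p ∧ z ≠ q := by
  obtain ⟨⟨hab, -, -⟩, -, hpq⟩ := nodup4.1 D.nd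
  rw [mem_fixF] at hz
  refine ⟨?_, ?_, ?_, ?_⟩ <;> rintro rfl
  · exact hab (hz.symm.trans D.ga)
  · exact hab (D.gb.symm.trans hz)
  · exact hpq (hz.symm.trans D.gp)
  · exact hpq (D.gq.symm.trans hz)

/-- Any two are conjugate respecting the four points. -/
theorem transport (H : Odd4 G) {g' : Perm α} {a' b' p' q' : α} (D : Dbl G g a b p q) (D' : Dbl G g' a' b' p' q') :
    ∃ k ∈ G, k a = a' ∧ k b = b' ∧ k p = p' ∧ k q = q' ∧ k * g * k⁻¹ = g' := by
  obtain ⟨k, hk, k1, k2, k3, k4⟩ := H.h4.map4 D.nd D'.nd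
  have i1 : k⁻¹ a' = a := Perm.inv_eq_iff_eq.2 k1.symm
  have i2 : k⁻¹ b' = b := Perm.inv_eq_iff_eq.2 k2.symm
  have i3 : k⁻¹ p' = p := Perm.inv_eq_iff_eq.2 k3.symm
  have i4 : k⁻¹ q' = q := Perm.inv_eq_iff_eq.2 k4.symm
  obtain ⟨r, hr, hrg⟩ := H.conj_of_agree D'.card (s := k * g * k⁻¹) (G.mul_mem (G.mul_mem hk D.mem) (G.inv_mem hk))
    D'.mem (by rw [show k * g * k⁻¹ * (k * g * k⁻¹) = k * (g * g) * k⁻¹ by simp [mul_assoc], D.invol]; simp)
    D'.invol (fun x hx => by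
      simp only [Finset.mem_insert, Finset.mem_singleton] at hx
      rcases hx with rfl | rfl | rfl | rfl
      · rw [Perm.mul_apply, Perm.mul_apply, i1, D.ga, k2, D'.gb]
      · rw [Perm.mul_apply, Perm.mul_apply, i2, D.gb, k1, D'.ga]
      · rw [Perm.mul_apply, Perm.mul_apply, i3, D.gp, k4, D'.gq]
      · rw [Perm.mul_apply, Perm.mul_apply, i4, D.gq, k3, D'.gp])
  refine ⟨r * k, G.mul_mem hr.1 hk, ?_, ?_, ?_, ?_, ?_⟩
  · rw [Perm.mul_apply, k1, hr.2 a' (by simp)]
  · rw [Perm.mul_apply, k2, hr.2 b' (by simp)]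
  · rw [Perm.mul_apply, k3, hr.2 p' (by simp)]
  · rw [Perm.mul_apply, k4, hr.2 q' (by simp)]
  · rw [← hrg]; simp [mul_assoc]

end Dbl

/-- The centralizers of involutions in the stabilizers of four points fix their fixed points. -/
def Still (G : Subgroup (Perm α)) : Prop :=
  ∀ g a b p q, Dbl G g a b p q → ∀ r ∈ pstab G ({a, b, p, q} : Finset α), g * r = r * g → ∀ z ∈ fixF g, r z = z

theorem apply_mem_fixF {g r : Perm α} (h : g * r = r * g) {z : α} (hz : z ∈ fixF g) : r z ∈ fixF g := by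
  rw [mem_fixF] at hz ⊢
  rw [← Perm.mul_apply, h, Perm.mul_apply, hz]

theorem Odd4.still_of_even (H : Odd4 G) (hn : Fintype.card α % 2 = 0) : Still G := by
  intro g a b p q D r hr hgr z hz
  have hne : g ≠ 1 := fun h => (nodup4.1 D.nd).1.1 (by rw [← D.ga, h]; rfl)
  have hle := H.fix_le D.mem D.invol hne
  have hpar := even_card_sub_fixF (g := g) (by rw [pow_two]; exact D.invol)
  have hpos : 0 < (fixF g).card := Finset.card_pos.2 ⟨z, hz⟩
  obtain ⟨u, w, -, huw⟩ := Finset.card_eq_two.1 (show (fixF g).card = 2 by omega)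
  have hord : Odd (orderOf r) := Odd.of_dvd_nat (H.odd _ D.card) (by
    rw [← Subgroup.orderOf_mk r hr]; exact orderOf_dvd_natCard _)
  have hu : r u = u ∨ r u = w := by simpa [huw] using apply_mem_fixF hgr (show u ∈ fixF g by simp [huw])
  have hw : r w = u ∨ r w = w := by simpa [huw] using apply_mem_fixF hgr (show w ∈ fixF g by simp [huw])
  rw [huw, Finset.mem_insert, Finset.mem_singleton] at hz
  rcases hz with rfl | rfl
  · exact fix_of_pair hord hu hw
  · exact fix_of_pair hord hw.symm hu.symm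

/-- Two fixed points of an involution in one orbit of an odd group it normalizes are joined by its centralizer. -/
theorem exists_centralizing {R : Subgroup (Perm α)} (hodd : Odd (Nat.card R)) {i : Perm α} (hi : i * i = 1)
    (hn : ∀ r ∈ R, i * r * i⁻¹ ∈ R) {u w : α} (hu : i u = u) (hw : i w = w) {r₀ : Perm α} (hr₀ : r₀ ∈ R)
    (h0 : r₀ u = w) : ∃ r ∈ R, i * r = r * i ∧ r u = w := by
  obtain ⟨m, hm⟩ := hodd
  have hii : i⁻¹ = i := inv_eq_of_mul_eq_one_right hi
  obtain ⟨z, hz⟩ : ∃ z, z = r₀⁻¹ * (i * r₀ * i⁻¹) := ⟨_, rfl⟩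
  have hzR : z ∈ R := hz ▸ R.mul_mem (R.inv_mem hr₀) (hn r₀ hr₀)
  have hiz : i * z * i⁻¹ = z⁻¹ := by
    rw [hz, show i * (r₀⁻¹ * (i * r₀ * i⁻¹)) * i⁻¹ = i * r₀⁻¹ * i⁻¹ * (i * i * r₀ * (i * i)⁻¹) by
      simp [mul_assoc], hi]
    simp [mul_assoc]
  have hz1 : z ^ (2 * m + 1) = 1 := by
    rw [← hm]
    exact congrArg Subtype.val (pow_card_eq_one' (x := (⟨z, hzR⟩ : R)))
  set y := z ^ (m + 1) with hy
  have hyy : y * y = z := by
    rw [hy, ← pow_add, show m + 1 + (m + 1) = 2 * m + 1 + 1 by ring, pow_succ, hz1, one_mul]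
  have hiy : i * y * i⁻¹ = y⁻¹ := by rw [hy, ← conj_pow, hiz, inv_pow]
  have hzu : z u = u := by
    rw [hz, Perm.mul_apply, Perm.mul_apply, Perm.mul_apply, hii, hu, h0, hw, Perm.inv_eq_iff_eq, h0]
  refine ⟨r₀ * y, R.mul_mem hr₀ (R.pow_mem hzR _), ?_, ?_⟩
  · rw [← mul_inv_eq_iff_eq_mul]
    calc i * (r₀ * y) * i⁻¹ = r₀ * (r₀⁻¹ * (i * r₀ * i⁻¹)) * (i * y * i⁻¹) := by simp [mul_assoc]
      _ = r₀ * y := by rw [← hz, ← hyy, hiy]; simp [mul_assoc]
  · rw [Perm.mul_apply, hy, Perm.pow_apply_eq_self_of_apply_eq_self hzu, h0]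

namespace Odd4

variable {g : Perm α} {a b p q : α}

/-- A fourth root of a double transposition. -/
theorem exists_root (H : Odd4 G) (D : Dbl G g a b p q) :
    ∃ x ∈ G, x * x = g ∧ x a = p ∧ x p = b ∧ x b = q ∧ x q = a := by
  obtain ⟨⟨hab, hap, haq⟩, ⟨hbp, hbq⟩, hpq⟩ := nodup4.1 D.nd
  obtain ⟨h, hh, e1, e2, e3, e4⟩ := H.h4.map4 D.nd (a' := p) (b' := q) (c' := b) (d' := a)
    (nodup4.2 ⟨⟨hpq, hbp.symm, hap.symm⟩, ⟨hbq.symm, haq.symm⟩, hab.symm⟩)
  obtain ⟨N, ⟨e, hNe⟩, hN⟩ := exists_two_part' h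
  set x := h ^ N with hxdef
  have hxG : x ∈ G := G.pow_mem hh N
  have xa : x a = p := by rw [hN a (by rw [e1, e3, e2, e4]), e1]
  have xb : x b = q := by rw [hN b (by rw [e2, e4, e1, e3]), e2]
  have xp : x p = b := by rw [hN p (by rw [e3, e2, e4, e1]), e3]
  have xq : x q = a := by rw [hN q (by rw [e4, e1, e3, e2]), e4]
  have hss : x * x * (x * x) = 1 := H.eq_one (G.mul_mem (G.mul_mem hxG hxG) (G.mul_mem hxG hxG)) D.card
    (fun z hz => by
      simp only [Finset.mem_insert, Finset.mem_singleton] at hz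
      rcases hz with rfl | rfl | rfl | rfl <;> simp [xa, xb, xp, xq])
    ⟨e, by rw [show x * x * (x * x) = x ^ 4 by simp [pow_succ, mul_assoc], ← pow_mul, mul_comm, pow_mul, hNe,
      one_pow]⟩
  obtain ⟨r, hr, hrs⟩ := H.conj_of_agree D.card (G.mul_mem hxG hxG) D.mem hss D.invol (fun z hz => by
    simp only [Finset.mem_insert, Finset.mem_singleton] at hz
    rcases hz with rfl | rfl | rfl | rfl <;> simp [xa, xb, xp, xq, D.ga, D.gb, D.gp, D.gq])
  have hr' : ∀ z ∈ ({a, b, p, q} : Finset α), r⁻¹ z = z := fun z hz => inv_apply_of_fix (hr.2 z hz)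
  refine ⟨r * x * r⁻¹, G.mul_mem (G.mul_mem hr.1 hxG) (G.inv_mem hr.1), ?_, ?_, ?_, ?_, ?_⟩
  · rw [← hrs]; simp [mul_assoc]
  · rw [Perm.mul_apply, Perm.mul_apply, hr' a (by simp), xa, hr.2 p (by simp)]
  · rw [Perm.mul_apply, Perm.mul_apply, hr' p (by simp), xp, hr.2 b (by simp)]
  · rw [Perm.mul_apply, Perm.mul_apply, hr' b (by simp), xb, hr.2 q (by simp)]
  · rw [Perm.mul_apply, Perm.mul_apply, hr' q (by simp), xq, hr.2 a (by simp)]

/-- A lift of a transposition commuting with a double transposition. -/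
theorem exists_comm_swap (H : Odd4 G) (D : Dbl G g a b p q) :
    ∃ t ∈ G, t * t = 1 ∧ g * t = t * g ∧ t a = b ∧ t b = a ∧ t p = p ∧ t q = q := by
  obtain ⟨t₀, ht₀, ht₀2, t₀a, t₀b, t₀p, t₀q⟩ := H.exists_swap D.nd
  have ht₀i : t₀⁻¹ = t₀ := inv_eq_of_mul_eq_one_right ht₀2
  set g₁ := t₀ * g * t₀⁻¹ with hg₁def
  have hg₁2 : g₁ * g₁ = 1 := by
    rw [hg₁def, show t₀ * g * t₀⁻¹ * (t₀ * g * t₀⁻¹) = t₀ * (g * g) * t₀⁻¹ by simp [mul_assoc], D.invol]
    simp
  obtain ⟨r₁, hr₁, hr₁g⟩ := H.conj_of_agree D.card (G.mul_mem (G.mul_mem ht₀ D.mem) (G.inv_mem ht₀)) D.mem hg₁2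
    D.invol (fun z hz => by
      simp only [Finset.mem_insert, Finset.mem_singleton] at hz
      rcases hz with rfl | rfl | rfl | rfl <;>
        simp [hg₁def, ht₀i, t₀a, t₀b, t₀p, t₀q, D.ga, D.gb, D.gp, D.gq])
  set u := r₁ * t₀ with hudef
  have huG : u ∈ G := G.mul_mem hr₁.1 ht₀
  have hgu : g * u = u * g := by
    calc g * u = r₁ * g₁ * r₁⁻¹ * (r₁ * t₀) := by rw [hr₁g]
      _ = u * g := by simp [hudef, hg₁def, mul_assoc]
  have ua : u a = b := by simp [hudef, t₀a, hr₁.2 b (by simp)]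
  have ub : u b = a := by simp [hudef, t₀b, hr₁.2 a (by simp)]
  have up : u p = p := by simp [hudef, t₀p, hr₁.2 p (by simp)]
  have uq : u q = q := by simp [hudef, t₀q, hr₁.2 q (by simp)]
  obtain ⟨o, -, e', he', hag⟩ := exists_two_part u
  set t := u ^ o with htdef
  have htG : t ∈ G := G.pow_mem huG o
  have ta : t a = b := by rw [hag a (by rw [ua, ub]), ua]
  have tb : t b = a := by rw [hag b (by rw [ub, ua]), ub]
  have tp : t p = p := by rw [hag p (by rw [up, up]), up]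
  have tq : t q = q := by rw [hag q (by rw [uq, uq]), uq]
  refine ⟨t, htG, H.eq_one (G.mul_mem htG htG) D.card (fun z hz => ?_)
    ⟨e', by rw [← pow_two, ← pow_mul, mul_comm, pow_mul, he', one_pow]⟩,
    (Commute.pow_right (hgu : Commute g u) o).eq, ta, tb, tp, tq⟩
  simp only [Finset.mem_insert, Finset.mem_singleton] at hz
  rcases hz with rfl | rfl | rfl | rfl <;> simp [ta, tb, tp, tq]

/-- If a fourth root moves a fixed point, the stabilizer of the four points fixes all of them. -/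
theorem fix_of_root_moves (H : Odd4 G) (hS : Still G) (D : Dbl G g a b p q) {x : Perm α} (hx : x ∈ G)
    (hxx : x * x = g) (xa : x a = p) (xp : x p = b) {z₀ : α} (hz₀ : z₀ ∈ fixF g) (hmove : x z₀ ≠ z₀) :
    pstab G ({a, b, p, q} : Finset α) ≤ pstab G (fixF g) := by
  obtain ⟨⟨hab, hap, haq⟩, ⟨hbp, hbq⟩, hpq⟩ := nodup4.1 D.nd
  have xb : x b = q := by rw [← xp, ← Perm.mul_apply, hxx, D.gp]
  have xq : x q = a := by rw [← xb, ← Perm.mul_apply, hxx, D.gb]
  have hgx : g * x = x * g := by rw [← hxx, mul_assoc]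
  obtain ⟨t, ht, htt, hgt, ta, tb, tp, tq⟩ := H.exists_comm_swap D
  have hti : t⁻¹ = t := inv_eq_of_mul_eq_one_right htt
  set Q : Finset α := {a, b, p, q} with hQ
  have memQ : ∀ w, w ∈ Q ↔ w = a ∨ w = b ∨ w = p ∨ w = q := fun w => by simp [hQ]
  -- the two commute on the fixed points
  have hcom : ∀ w ∈ fixF g, x (t (x (t w))) = w := by
    refine hS g a b p q D (x * (t * x * t)) ⟨G.mul_mem hx (G.mul_mem (G.mul_mem ht hx) ht), fun w hw => ?_⟩ ?_
    · rcases (memQ w).1 hw with rfl | rfl | rfl | rfl <;> simp [ta, tb, tp, tq, xa, xb, xp, xq]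
    · exact ((show Commute g x from hgx).mul_right (((show Commute g t from hgt).mul_right (show Commute g x from hgx)).mul_right (show Commute g t from hgt))).eq
  have hσ : ∀ w ∈ fixF g, x (x w) = w := fun w hw => by
    rw [← Perm.mul_apply, hxx]; exact mem_fixF.1 hw
  have hτ : ∀ w, t (t w) = w := fun w => by rw [← Perm.mul_apply, htt, Perm.one_apply]
  have hg1 : g ≠ 1 := fun h => hab (by rw [← D.ga, h]; rfl)
  have hT := H.fix_le D.mem D.invol hg1
  have ht1 : t ≠ 1 := fun h => hab (by rw [← ta, h]; rfl)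
  have htfix : ((fixF g) ∩ fixF t).card ≤ 1 := by
    have h3 : insert p (insert q ((fixF g) ∩ fixF t)) ⊆ fixF t := by
      intro w hw
      simp only [Finset.mem_insert, Finset.mem_inter] at hw
      rcases hw with rfl | rfl | hw
      · exact mem_fixF.2 tp
      · exact mem_fixF.2 tq
      · exact hw.2
    have h4 := (Finset.card_le_card h3).trans (H.fix_le ht htt ht1)
    rw [Finset.card_insert_of_notMem, Finset.card_insert_of_notMem] at h4
    · omega
    · exact fun h => (D.notMem_fix (Finset.mem_inter.1 h).1).2.2.2 rfl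
    · simp only [Finset.mem_insert, not_or]
      exact ⟨hpq, fun h => (D.notMem_fix (Finset.mem_inter.1 h).1).2.2.1 rfl⟩
  have hmemT : ∀ k : Perm α, g * k = k * g → ∀ w ∈ fixF g, k w ∈ fixF g := fun k hk w hw => apply_mem_fixF hk hw
  -- a point moved by both
  have hsame : ∀ w ∈ fixF g, x w = t w := by
    have hcomm : ∀ w ∈ fixF g, x (t w) = t (x w) := fun w hw => by
      have h1 := hcom (t w) (hmemT t hgt w hw)
      rw [hτ] at h1
      have h2 := congrArg x h1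
      rw [hσ (t (x w)) (hmemT t hgt _ (hmemT x hgx w hw))] at h2
      exact h2.symm
    obtain ⟨u, hu, hux, hut⟩ : ∃ u ∈ fixF g, x u ≠ u ∧ t u ≠ u := by
      by_cases h : t z₀ = z₀
      · refine ⟨x z₀, hmemT x hgx _ hz₀, fun h' => hmove (x.injective h'), fun h' => hmove ?_⟩
        exact (Finset.card_le_one.1 htfix z₀ (Finset.mem_inter.2 ⟨hz₀, mem_fixF.2 h⟩) (x z₀)
          (Finset.mem_inter.2 ⟨hmemT x hgx _ hz₀, mem_fixF.2 h'⟩)).symm
      · exact ⟨z₀, hz₀, hmove, h⟩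
    have hxu : x u = t u := by
      by_contra hne
      have h3 : ({u, x u, t u} : Finset α).card = 3 := by
        rw [Finset.card_insert_of_notMem (by simp [Ne.symm hux, Ne.symm hut]), Finset.card_pair hne]
      have heq : ({u, x u, t u} : Finset α) = fixF g := by
        refine Finset.eq_of_subset_of_card_le (fun w hw => ?_) (by omega)
        simp only [Finset.mem_insert, Finset.mem_singleton] at hw
        rcases hw with rfl | rfl | rfl
        · exact hu
        · exact hmemT x hgx u hu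
        · exact hmemT t hgt u hu
      have h4 : t (x u) ∈ fixF g := hmemT t hgt _ (hmemT x hgx u hu)
      rw [← heq] at h4
      simp only [Finset.mem_insert, Finset.mem_singleton] at h4
      rcases h4 with h4 | h4 | h4
      · exact hne ((hτ (x u)).symm.trans (congrArg t h4))
      · have h5 := hcomm u hu
        rw [h4] at h5
        exact hut (x.injective h5)
      · exact hux (t.injective h4)
    intro w hw
    rcases eq_or_ne w u with rfl | hwu
    · exact hxu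
    rcases eq_or_ne w (x u) with rfl | hwx
    · rw [hσ u hu, hxu, hτ]
    · have huxT := hmemT x hgx u hu
      have hfix : ∀ k : Perm α, g * k = k * g → (∀ y ∈ fixF g, k (k y) = y) → k u = x u → k w = w := by
        intro k hk hkk hku
        by_contra hne
        have h3 : ({u, x u, w, k w} : Finset α).card = 4 := card_four (nodup4.2
          ⟨⟨Ne.symm hux, Ne.symm hwu, fun e => hwx (by rw [← hku, e, hkk w hw])⟩,
            ⟨Ne.symm hwx, fun e => hwu (k.injective (e.symm.trans hku.symm))⟩, Ne.symm hne⟩)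
        have := Finset.card_le_card (show ({u, x u, w, k w} : Finset α) ⊆ fixF g by
          intro y hy
          simp only [Finset.mem_insert, Finset.mem_singleton] at hy
          rcases hy with rfl | rfl | rfl | rfl
          · exact hu
          · exact huxT
          · exact hw
          · exact hmemT k hk w hw)
        omega
      rw [hfix x hgx hσ rfl, hfix t hgt (fun y _ => hτ y) hxu.symm]
  -- the four group
  set v₀ := x * t with hv₀def
  have va₀ : v₀ a = q := by simp [hv₀def, ta, xb]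
  have vq₀ : v₀ q = a := by simp [hv₀def, tq, xq]
  have vb₀ : v₀ b = p := by simp [hv₀def, tb, xa]
  have vp₀ : v₀ p = b := by simp [hv₀def, tp, xp]
  have vT₀ : ∀ w ∈ fixF g, v₀ w = w := fun w hw => by
    rw [hv₀def, Perm.mul_apply, ← hsame w hw, hσ w hw]
  obtain ⟨o', -, e'', he'', hag'⟩ := exists_two_part v₀
  set v := v₀ ^ o' with hvdef
  have hvG : v ∈ G := G.pow_mem (G.mul_mem hx ht) o'
  have va : v a = q := by rw [hag' a (by rw [va₀, vq₀]), va₀]
  have vq : v q = a := by rw [hag' q (by rw [vq₀, va₀]), vq₀]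
  have vb : v b = p := by rw [hag' b (by rw [vb₀, vp₀]), vb₀]
  have vp : v p = b := by rw [hag' p (by rw [vp₀, vb₀]), vp₀]
  have vT : ∀ w ∈ fixF g, v w = w := fun w hw => by
    rw [hag' w (by rw [vT₀ w hw, vT₀ w hw]), vT₀ w hw]
  have hgv : g * v = v * g :=
    (Commute.pow_right (Commute.mul_right (hgx : Commute g x) (hgt : Commute g t)) o').eq
  have hvv : v * v = 1 := H.eq_one (G.mul_mem hvG hvG) D.card
    (fun w hw => by
      simp only [Finset.mem_insert, Finset.mem_singleton] at hw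
      rcases hw with rfl | rfl | rfl | rfl <;> simp [va, vb, vp, vq])
    ⟨e'', by rw [← pow_two, ← pow_mul, mul_comm, pow_mul, he'', one_pow]⟩
  have hwi : g * v * (g * v) = 1 := by
    calc g * v * (g * v) = g * (v * g) * v := by simp [mul_assoc]
      _ = g * g * (v * v) := by rw [← hgv]; simp [mul_assoc]
      _ = 1 := by rw [D.invol, hvv, one_mul]
  have Dv : Dbl G v a q b p := ⟨hvG, hvv, va, vb, nodup4.2 ⟨⟨haq, hab, hap⟩, ⟨hbq.symm, hpq.symm⟩, hbp⟩⟩
  have Dw : Dbl G (g * v) a p b q := ⟨G.mul_mem D.mem hvG, hwi, by rw [Perm.mul_apply, va, D.gq],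
    by rw [Perm.mul_apply, vb, D.gp], nodup4.2 ⟨⟨hap, hab, haq⟩, ⟨hbp.symm, hpq⟩, hbq⟩⟩
  have hnorm : ∀ i ∈ G, i * i = 1 → (∀ w ∈ Q, i w ∈ Q) → ∀ r ∈ pstab G Q, i * r * i⁻¹ ∈ pstab G Q :=
    fun i hi hii hiQ r hr => mem_pstab_conj hi (fun w hw => by
      rw [inv_eq_of_mul_eq_one_right hii]; exact hiQ w hw) hr
  refine le_of_four_group (H.odd Q D.card) D.invol hvv hgv
    (hnorm g D.mem D.invol fun w hw => by
      rcases (memQ w).1 hw with rfl | rfl | rfl | rfl <;> simp [memQ, D.ga, D.gb, D.gp, D.gq])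
    (hnorm v hvG hvv fun w hw => by rcases (memQ w).1 hw with rfl | rfl | rfl | rfl <;> simp [memQ, va, vb, vp, vq])
    (fun r hr hir => ⟨hr.1, hS g a b p q D r hr (mul_inv_eq_iff_eq_mul.1 hir)⟩)
    (fun r hr hir => ⟨hr.1, fun w hw => hS v a q b p Dv r ⟨hr.1, fun y hy => hr.2 y (by
      simp only [Finset.mem_insert, Finset.mem_singleton] at hy
      rw [memQ]; tauto)⟩ (mul_inv_eq_iff_eq_mul.1 hir) w (mem_fixF.2 (vT w hw))⟩)
    (fun r hr hir => ⟨hr.1, fun w hw => hS (g * v) a p b q Dw r ⟨hr.1, fun y hy => hr.2 y (by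
      simp only [Finset.mem_insert, Finset.mem_singleton] at hy
      rw [memQ]; tauto)⟩ (mul_inv_eq_iff_eq_mul.1 hir) w
        (mem_fixF.2 (by rw [Perm.mul_apply, vT w hw, mem_fixF.1 hw]))⟩)

end Odd4

/-- Elements outside the cyclic group of `0 → 2 → 1 → 3 → 0` give with it one of two transpositions. -/
theorem four_cycle_closure : ∀ σ : Perm (Fin 4), ∀ c : Perm (Fin 4), c = Equiv.swap 0 3 * Equiv.swap 0 1 * Equiv.swap 0 2 →
    σ ∈ [1, c, c * c, c * c * c] ∨ ∃ i : Fin 4, ∃ l : Fin 4,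
      (c ^ (i : ℕ) * σ * c ^ (l : ℕ) = Equiv.swap 0 1 ∨ c ^ (i : ℕ) * σ * c ^ (l : ℕ) = Equiv.swap 2 3) ∨
      ∃ m : Fin 4, (c ^ (i : ℕ) * σ * c ^ (l : ℕ) * σ * c ^ (m : ℕ) = Equiv.swap 0 1 ∨
        c ^ (i : ℕ) * σ * c ^ (l : ℕ) * σ * c ^ (m : ℕ) = Equiv.swap 2 3) := by
  rintro σ c rfl
  revert σ
  decide +kernel

/-- The three points other than the first, permuted in the six ways. -/
def reps : List (Perm (Fin 4)) :=
  [1, Equiv.swap 1 2, Equiv.swap 1 3, Equiv.swap 2 3, Equiv.swap 1 2 * Equiv.swap 2 3,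
    Equiv.swap 2 3 * Equiv.swap 1 2]

theorem reps_spec : ∀ σ ∈ reps, ∀ c : Perm (Fin 4), c = Equiv.swap 0 3 * Equiv.swap 0 1 * Equiv.swap 0 2 →
    σ⁻¹ * Equiv.swap 0 1 * σ ∉ [1, c, c * c, c * c * c] ∧
      ∀ τ ∈ reps, τ⁻¹ * σ ∈ [1, c, c * c, c * c * c] → σ = τ := by
  rintro σ hσ c rfl
  revert σ
  decide +kernel

namespace Odd4

/-- Without moving centralizers the stabilizers of four points are trivial. -/
theorem bot_of_still (H : Odd4 G) (hS : Still G) (hn : 6 ≤ Fintype.card α) :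
    ∀ A : Finset α, A.card = 4 → pstab G A = ⊥ := by
  classical
  obtain ⟨a, b, c, d, hnd, -⟩ := exists_four (S := (Finset.univ : Finset α)) (by rw [Finset.card_univ]; omega)
  obtain ⟨⟨hab, hac, had⟩, ⟨hbc, hbd⟩, hcd⟩ := nodup4.1 hnd
  set Q0 : Finset α := {a, b, c, d} with hQ0
  have memQ0 : ∀ w, w ∈ Q0 ↔ w = a ∨ w = b ∨ w = c ∨ w = d := fun w => by simp [hQ0]
  have hQ0c : Q0.card = 4 := card_four hnd
  set R := pstab G Q0 with hR
  have hReq : ∀ B : Finset α, B.card = 4 → pstab G B ≤ R → pstab G B = R := fun B hB hle =>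
    Subgroup.eq_of_le_of_card_ge hle (H.h4.hom.card_pstab hB hQ0c).symm.le
  have hgoal : R = ⊥ → ∀ A : Finset α, A.card = 4 → pstab G A = ⊥ := fun h0 A hA => by
    refine Subgroup.eq_bot_of_card_eq _ ?_
    rw [H.h4.hom.card_pstab hA hQ0c, ← hR, h0, Subgroup.card_bot]
  have hbot : (∀ w, w ∉ Q0 → ∀ r ∈ R, r w = w) → R = ⊥ := fun h => by
    rw [Subgroup.eq_bot_iff_forall]
    intro r hr
    refine Equiv.ext fun w => ?_
    by_cases hw : w ∈ Q0
    · exact hr.2 w hw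
    · exact h w hw r hr
  refine hgoal ?_
  obtain ⟨g, hg, hgg, hga, hgb, hgc, hgd⟩ := H.exists_swap hnd
  have hg1 : g ≠ 1 := fun h => hab (by rw [← hga, h]; rfl)
  have hgg' : ∀ w, g (g w) = w := fun w => by rw [← Perm.mul_apply, hgg, Perm.one_apply]
  have hT := H.fix_le hg hgg hg1
  have hcT : c ∈ fixF g := mem_fixF.2 hgc
  have hdT : d ∈ fixF g := mem_fixF.2 hgd
  set X : Finset α := Finset.univ.filter fun w => g w ≠ w ∧ w ≠ a ∧ w ≠ b with hXdef
  have memX : ∀ w, w ∈ X ↔ g w ≠ w ∧ w ≠ a ∧ w ≠ b := fun w => by simp [hXdef]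
  have hXQ : ∀ w ∈ X, w ∉ Q0 := fun w hw h => by
    obtain ⟨h1, h2, h3⟩ := (memX w).1 hw
    rcases (memQ0 w).1 h with rfl | rfl | rfl | rfl
    · exact h2 rfl
    · exact h3 rfl
    · exact h1 hgc
    · exact h1 hgd
  have hDX : ∀ w ∈ X, Dbl G g a b w (g w) := fun w hw => by
    obtain ⟨h1, h2, h3⟩ := (memX w).1 hw
    exact ⟨hg, hgg, hga, rfl, nodup4.2 ⟨⟨hab, Ne.symm h2, fun h => h3 (g.injective (h.symm.trans hgb.symm))⟩,
      ⟨Ne.symm h3, fun h => h2 (g.injective (h.symm.trans hga.symm))⟩, Ne.symm h1⟩⟩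
  have houts : ∀ w, w ∉ Q0 → w ∈ X ∨ w ∈ fixF g := fun w hw => by
    by_cases h : g w = w
    · exact Or.inr (mem_fixF.2 h)
    · refine Or.inl ((memX w).2 ⟨h, fun e => hw ((memQ0 w).2 (Or.inl e)), fun e => hw ((memQ0 w).2 (Or.inr (Or.inl e)))⟩)
  have hXne : X.Nonempty := by
    by_contra h
    rw [Finset.not_nonempty_iff_eq_empty] at h
    have h1 : (Finset.univ : Finset α) ⊆ insert a (insert b (fixF g)) := fun w _ => by
      by_cases hw : w ∈ Q0
      · rcases (memQ0 w).1 hw with rfl | rfl | rfl | rfl <;> simp [hgc, hgd]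
      · rcases houts w hw with h' | h'
        · rw [h] at h'; exact absurd h' (Finset.notMem_empty _)
        · simp [mem_fixF.1 h']
    have h2 := Finset.card_le_card h1
    have h3 := Finset.card_insert_le a (insert b (fixF g))
    have h4 := Finset.card_insert_le b (fixF g)
    rw [Finset.card_univ] at h2
    omega
  -- a root that moves a fixed point
  by_cases hV : ∃ g' a' b' p' q' x', Dbl G g' a' b' p' q' ∧ x' ∈ G ∧ x' * x' = g' ∧ x' a' = p' ∧ x' p' = b' ∧
      ∃ z ∈ fixF g', x' z ≠ z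
  · obtain ⟨g', a', b', p', q', x', D', hx', hxx', hxa', hxp', z, hz, hzm⟩ := hV
    have hfix := H.fix_of_root_moves hS D' hx' hxx' hxa' hxp' hz hzm
    have hall : ∀ g'' a'' b'' p'' q'', Dbl G g'' a'' b'' p'' q'' →
        ∀ r ∈ pstab G ({a'', b'', p'', q''} : Finset α), ∀ w ∈ fixF g'', r w = w := by
      intro g'' a'' b'' p'' q'' D'' r hr w hw
      obtain ⟨k, hk, k1, k2, k3, k4, hkg⟩ := D'.transport H D''
      have h1 : k⁻¹ * r * k ∈ pstab G ({a', b', p', q'} : Finset α) := by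
        refine ⟨G.mul_mem (G.mul_mem (G.inv_mem hk) hr.1) hk, fun y hy => ?_⟩
        rw [Perm.mul_apply, Perm.mul_apply, hr.2 (k y) (by
          simp only [Finset.mem_insert, Finset.mem_singleton] at hy ⊢
          rcases hy with rfl | rfl | rfl | rfl <;> simp [k1, k2, k3, k4]), ← Perm.mul_apply, inv_mul_cancel,
          Perm.one_apply]
      rw [← hkg, fixF_conj, Finset.mem_map] at hw
      obtain ⟨y, hy, rfl⟩ := hw
      have h2 := (hfix h1).2 y hy
      rw [Perm.mul_apply, Perm.mul_apply, Perm.inv_eq_iff_eq] at h2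
      exact h2
    have hQR : ∀ w ∈ X, pstab G ({a, b, w, g w} : Finset α) = R := fun w hw =>
      hReq _ (hDX w hw).card fun r hr => ⟨hr.1, fun y hy => by
        rcases (memQ0 y).1 hy with rfl | rfl | rfl | rfl
        · exact hr.2 _ (by simp)
        · exact hr.2 _ (by simp)
        · exact hall g a b w (g w) (hDX w hw) r hr _ hcT
        · exact hall g a b w (g w) (hDX w hw) r hr _ hdT⟩
    refine hbot fun w hw r hr => ?_
    rcases houts w hw with h | h
    · rw [← hQR w h] at hr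
      exact hr.2 w (by simp)
    · obtain ⟨w', hw'⟩ := hXne
      rw [← hQR w' hw'] at hr
      exact hall g a b w' (g w') (hDX w' hw') r hr w h
  push Not at hV
  -- the second transposition and their product
  obtain ⟨g₀', hg₀'G, hg₀'2, h0a, h0b, h0c, h0d⟩ := H.exists_swap (a := c) (b := d) (c := a) (d := b)
    (nodup4.2 ⟨⟨hcd, hac.symm, hbc.symm⟩, ⟨had.symm, hbd.symm⟩, hab⟩)
  set g₁ := g₀' * g * g₀'⁻¹ with hg₁def
  have hg₀'i : g₀'⁻¹ = g₀' := inv_eq_of_mul_eq_one_right hg₀'2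
  obtain ⟨r₁, hr₁, hr₁g⟩ := H.conj_of_agree hQ0c (s := g₁) (G.mul_mem (G.mul_mem hg₀'G hg) (G.inv_mem hg₀'G)) hg
    (by rw [hg₁def, show g₀' * g * g₀'⁻¹ * (g₀' * g * g₀'⁻¹) = g₀' * (g * g) * g₀'⁻¹ by simp [mul_assoc], hgg]
        simp) hgg
    (fun w hw => by
      rcases (memQ0 w).1 hw with rfl | rfl | rfl | rfl <;>
        simp [hg₁def, hg₀'i, h0a, h0b, h0c, h0d, hga, hgb, hgc, hgd])
  obtain ⟨o, -, e₁, he₁, hag₁⟩ := exists_two_part (r₁ * g₀')
  set h := (r₁ * g₀') ^ o with hhdef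
  have hhG : h ∈ G := G.pow_mem (G.mul_mem hr₁.1 hg₀'G) o
  have hgu : g * (r₁ * g₀') = r₁ * g₀' * g := by
    calc g * (r₁ * g₀') = r₁ * g₁ * r₁⁻¹ * (r₁ * g₀') := by rw [hr₁g]
      _ = r₁ * g₀' * g := by simp [hg₁def, mul_assoc]
  have hgh : g * h = h * g := (Commute.pow_right (hgu : Commute g (r₁ * g₀')) o).eq
  have uc : (r₁ * g₀') c = d := by rw [Perm.mul_apply, h0a, hr₁.2 d (by simp [hQ0])]
  have ud : (r₁ * g₀') d = c := by rw [Perm.mul_apply, h0b, hr₁.2 c (by simp [hQ0])]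
  have ua : (r₁ * g₀') a = a := by rw [Perm.mul_apply, h0c, hr₁.2 a (by simp [hQ0])]
  have ub : (r₁ * g₀') b = b := by rw [Perm.mul_apply, h0d, hr₁.2 b (by simp [hQ0])]
  have hhc : h c = d := by rw [hag₁ c (by rw [uc, ud]), uc]
  have hhd : h d = c := by rw [hag₁ d (by rw [ud, uc]), ud]
  have hha : h a = a := by rw [hag₁ a (by rw [ua, ua]), ua]
  have hhb : h b = b := by rw [hag₁ b (by rw [ub, ub]), ub]
  have hhh : h * h = 1 := H.eq_one (G.mul_mem hhG hhG) hQ0c
    (fun w hw => by rcases (memQ0 w).1 hw with rfl | rfl | rfl | rfl <;> simp [hha, hhb, hhc, hhd])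
    ⟨e₁, by rw [← pow_two, ← pow_mul, mul_comm, pow_mul, he₁, one_pow]⟩
  obtain ⟨j, hjdef⟩ : ∃ j, j = g * h := ⟨_, rfl⟩
  have hjj : j * j = 1 := by
    rw [hjdef]
    calc g * h * (g * h) = g * (h * g) * h := by simp [mul_assoc]
      _ = g * g * (h * h) := by rw [← hgh]; simp [mul_assoc]
      _ = 1 := by rw [hgg, hhh, one_mul]
  have Dj : Dbl G j a b c d := ⟨hjdef ▸ G.mul_mem hg hhG, hjj, by rw [hjdef, Perm.mul_apply, hha, hga],
    by rw [hjdef, Perm.mul_apply, hhc, hgd], hnd⟩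
  have hgj : g * j = j * g := by rw [hjdef, mul_assoc g h g, ← hgh]
  -- a point fixed by the product and moved by both
  have hr0 : ∃ r₀, j r₀ = r₀ ∧ g r₀ ≠ r₀ := by
    by_contra hcon
    push Not at hcon
    obtain ⟨w, hw⟩ := hXne
    obtain ⟨k, -, -, -, -, -, hkg⟩ := (hDX w hw).transport H Dj
    have h1 : (fixF j).card = (fixF g).card := by rw [← hkg, card_fixF_conj]
    have hsub : fixF j ⊆ ((fixF g).erase c).erase d := fun w hw => by
      have hw' := Dj.notMem_fix hw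
      rw [mem_fixF] at hw
      exact Finset.mem_erase.2 ⟨hw'.2.2.2, Finset.mem_erase.2 ⟨hw'.2.2.1, mem_fixF.2 (hcon w hw)⟩⟩
    have h2 := Finset.card_le_card hsub
    rw [Finset.card_erase_of_mem (Finset.mem_erase.2 ⟨hcd.symm, hdT⟩), Finset.card_erase_of_mem hcT] at h2
    have h3 : 2 ≤ (fixF g).card := Finset.one_lt_card.2 ⟨c, hcT, d, hdT, hcd⟩
    omega
  obtain ⟨r₀, hjr₀, hgr₀⟩ := hr0
  obtain ⟨hr₀a, hr₀b, hr₀c, hr₀d⟩ := Dj.notMem_fix (mem_fixF.2 hjr₀)
  have hr₀X : r₀ ∈ X := (memX r₀).2 ⟨hgr₀, hr₀a, hr₀b⟩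
  have hr₀Q : r₀ ∉ Q0 := hXQ r₀ hr₀X
  have hjs : j (g r₀) = g r₀ := by rw [← Perm.mul_apply, ← hgj, Perm.mul_apply, hjr₀]
  have hhr₀ : h r₀ = g r₀ := by
    have h1 : g (j r₀) = h r₀ := by rw [hjdef, Perm.mul_apply, hgg']
    rw [← h1, hjr₀]
  obtain ⟨y, hyG, hyy, ya, yc, yb, yd⟩ := H.exists_root Dj
  have hyr₀ : y r₀ = r₀ := hV j a b c d y Dj hyG hyy ya yc r₀ (mem_fixF.2 hjr₀)
  -- orbits of the stabilizer
  have horb_map : ∀ l ∈ G, (∀ w ∈ Q0, l w ∈ Q0) → ∀ u, orb G Q0 (l u) = (orb G Q0 u).map l.toEmbedding := by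
    intro l hl hlQ u
    have hQm : Q0.map l.toEmbedding = Q0 := Finset.eq_of_subset_of_card_le (fun w hw => by
      obtain ⟨v, hv, rfl⟩ := Finset.mem_map.1 hw; exact hlQ v hv) (by rw [Finset.card_map])
    ext w
    rw [Finset.mem_map, mem_orb]
    constructor
    · rintro ⟨r, hr, rfl⟩
      refine ⟨l⁻¹ (r (l u)), mem_orb.2 ⟨l⁻¹ * r * l, ?_, by simp⟩, by simp⟩
      refine (mem_pstab_map hl).1 ?_
      rw [hQm]
      simpa [mul_assoc] using hr
    · rintro ⟨v, hv, rfl⟩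
      obtain ⟨r, hr, rfl⟩ := mem_orb.1 hv
      refine ⟨l * r * l⁻¹, hQm ▸ (mem_pstab_map hl).2 hr, by simp⟩
  have hagree : ∀ l ∈ G, ∀ l' ∈ G, (∀ w ∈ Q0, l w ∈ Q0) → (∀ w ∈ Q0, l' w = l w) → ∀ u,
      orb G Q0 (l' u) = orb G Q0 (l u) := by
    intro l hl l' hl' hlQ he u
    refine orb_eq (mem_orb.2 ⟨l' * l⁻¹, ⟨G.mul_mem hl' (G.inv_mem hl), fun w hw => ?_⟩, by simp⟩)
    have hQm : Q0.map l.toEmbedding = Q0 := Finset.eq_of_subset_of_card_le (fun w hw => by
      obtain ⟨v, hv, rfl⟩ := Finset.mem_map.1 hw; exact hlQ v hv) (by rw [Finset.card_map])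
    rw [← hQm] at hw
    obtain ⟨v, hv, rfl⟩ := Finset.mem_map.1 hw
    simp [he v hv]
  have hjorb : ∀ u w, j u = u → j w = w → w ∈ orb G Q0 u → u = w := by
    intro u w hu hw hmem
    obtain ⟨r₂, hr₂, hr₂u⟩ := mem_orb.1 hmem
    obtain ⟨r, hr, hjr, hru⟩ := exists_centralizing (H.odd Q0 hQ0c) hjj (fun r hr => mem_pstab_conj Dj.mem
      (fun w hw => by
        rw [inv_eq_of_mul_eq_one_right hjj]
        rcases (memQ0 w).1 hw with rfl | rfl | rfl | rfl <;> simp [memQ0, Dj.ga, Dj.gb, Dj.gp, Dj.gq]) hr)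
      hu hw hr₂ hr₂u
    rw [← hru, hS j a b c d Dj r hr hjr u (mem_fixF.2 hu)]
  let x₀ : Fin 4 → α := ![a, b, c, d]
  have hx₀ : Function.Injective x₀ := by
    intro i l hil
    fin_cases i <;> fin_cases l <;> first
      | rfl
      | exact absurd hil hab | exact absurd hil.symm hab
      | exact absurd hil hac | exact absurd hil.symm hac
      | exact absurd hil had | exact absurd hil.symm had
      | exact absurd hil hbc | exact absurd hil.symm hbc
      | exact absurd hil hbd | exact absurd hil.symm hbd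
      | exact absurd hil hcd | exact absurd hil.symm hcd
  have hQx : ∀ w, w ∈ Q0 ↔ ∃ i, x₀ i = w := fun w => by
    rw [memQ0]
    constructor
    · rintro (rfl | rfl | rfl | rfl)
      exacts [⟨0, rfl⟩, ⟨1, rfl⟩, ⟨2, rfl⟩, ⟨3, rfl⟩]
    · rintro ⟨i, rfl⟩
      fin_cases i <;> simp [x₀]
  choose L hLG hL using fun σ : Perm (Fin 4) => H.h4 x₀ (x₀ ∘ σ) hx₀ (hx₀.comp σ.injective)
  have hLQ : ∀ σ, ∀ w ∈ Q0, L σ w ∈ Q0 := fun σ w hw => by
    obtain ⟨i, rfl⟩ := (hQx w).1 hw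
    exact (hQx _).2 ⟨σ i, (hL σ i).symm⟩
  let Φ : Perm (Fin 4) → Finset α := fun σ => orb G Q0 (L σ r₀)
  have hΦmul : ∀ σ τ, Φ (σ * τ) = (Φ τ).map (L σ).toEmbedding := fun σ τ => by
    show orb G Q0 _ = _
    rw [← horb_map (L σ) (hLG σ) (hLQ σ) (L τ r₀)]
    exact hagree (L σ * L τ) (G.mul_mem (hLG σ) (hLG τ)) (L (σ * τ)) (hLG _) (fun w hw => hLQ σ _ (hLQ τ w hw))
      (fun w hw => by
        obtain ⟨i, rfl⟩ := (hQx w).1 hw
        rw [hL (σ * τ) i, Perm.mul_apply (L σ), hL τ i]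
        exact (hL σ (τ i)).symm) r₀
  have hΦlift : ∀ σ, ∀ l ∈ G, (∀ i, l (x₀ i) = x₀ (σ i)) → ∀ u, orb G Q0 (L σ u) = orb G Q0 (l u) :=
    fun σ l hl hlσ u => (hagree (L σ) (hLG σ) l hl (hLQ σ) (fun w hw => by
      obtain ⟨i, rfl⟩ := (hQx w).1 hw
      rw [hlσ i]; exact (hL σ i).symm) u).symm
  have hΦone : Φ 1 = orb G Q0 r₀ := hΦlift 1 1 G.one_mem (fun _ => rfl) r₀
  obtain ⟨cy, hcy⟩ : ∃ cy : Perm (Fin 4), cy = Equiv.swap 0 3 * Equiv.swap 0 1 * Equiv.swap 0 2 := ⟨_, rfl⟩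
  have hg_lift : ∀ i, g (x₀ i) = x₀ (Equiv.swap (0 : Fin 4) 1 i) := fun i => by
    fin_cases i <;> simp [x₀, Equiv.swap_apply_def, hga, hgb, hgc, hgd]
  have hh_lift : ∀ i, h (x₀ i) = x₀ (Equiv.swap (2 : Fin 4) 3 i) := fun i => by
    fin_cases i <;> simp [x₀, Equiv.swap_apply_def, hha, hhb, hhc, hhd]
  have hcΦ : Φ cy = Φ 1 := by
    rw [hΦone, show Φ cy = _ from hΦlift cy y hyG (fun i => by
      subst hcy; fin_cases i <;> simp [x₀, Equiv.swap_apply_def, ya, yb, yc, yd]) r₀, hyr₀]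
  have hnot : ∀ σ, σ = Equiv.swap (0 : Fin 4) 1 ∨ σ = Equiv.swap (2 : Fin 4) 3 → Φ σ ≠ Φ 1 := by
    intro σ hσ he
    have h1 : orb G Q0 (g r₀) = orb G Q0 r₀ := by
      rcases hσ with rfl | rfl
      · rw [← hΦlift _ g hg hg_lift r₀]; exact he.trans hΦone
      · rw [← hhr₀, ← hΦlift _ h hhG hh_lift r₀]; exact he.trans hΦone
    exact hgr₀ (hjorb r₀ (g r₀) hjr₀ hjs (h1 ▸ self_mem_orb Q0 (g r₀))).symm
  let Kst : Subgroup (Perm (Fin 4)) :=
    { carrier := {σ | Φ σ = Φ 1}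
      one_mem' := rfl
      mul_mem' := fun {σ τ} hσ hτ => by
        show Φ (σ * τ) = Φ 1
        rw [hΦmul, show Φ τ = Φ 1 from hτ, ← hΦmul, mul_one]; exact hσ
      inv_mem' := fun {σ} hσ => by
        show Φ σ⁻¹ = Φ 1
        conv_lhs => rw [← mul_one σ⁻¹, hΦmul, ← show Φ σ = Φ 1 from hσ, ← hΦmul, inv_mul_cancel] }
  have hK : ∀ σ, Φ σ = Φ 1 → σ ∈ [1, cy, cy * cy, cy * cy * cy] := by
    intro σ hσ
    rcases four_cycle_closure σ cy hcy with h1 | ⟨i, l, h1 | ⟨m, h1⟩⟩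
    · exact h1
    · have hm : cy ^ (i : ℕ) * σ * cy ^ (l : ℕ) ∈ Kst :=
        Kst.mul_mem (Kst.mul_mem (Kst.pow_mem hcΦ _) hσ) (Kst.pow_mem hcΦ _)
      exact absurd hm (hnot _ h1)
    · have hm : cy ^ (i : ℕ) * σ * cy ^ (l : ℕ) * σ * cy ^ (m : ℕ) ∈ Kst :=
        Kst.mul_mem (Kst.mul_mem (Kst.mul_mem (Kst.mul_mem (Kst.pow_mem hcΦ _) hσ) (Kst.pow_mem hcΦ _)) hσ)
          (Kst.pow_mem hcΦ _)
      exact absurd hm (hnot _ h1)
  have hnoT : ∀ σ ∈ reps, ∀ z ∈ fixF g, z ∉ Q0 → Φ σ ≠ orb G Q0 z := by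
    intro σ hσ z hz hzQ he
    refine (reps_spec σ hσ cy hcy).1 (hK _ ?_)
    have h1 : Φ (Equiv.swap 0 1 * σ) = Φ σ := by
      rw [hΦmul, he, ← horb_map _ (hLG _) (hLQ _), hΦlift _ g hg hg_lift z, mem_fixF.1 hz]
    rw [mul_assoc, hΦmul, h1, ← hΦmul, inv_mul_cancel]
  have hinj : ∀ σ ∈ reps, ∀ τ ∈ reps, Φ σ = Φ τ → σ = τ := fun σ hσ τ hτ he =>
    (reps_spec σ hσ cy hcy).2 τ hτ (hK _ (by rw [hΦmul, he, ← hΦmul, inv_mul_cancel]))
  have hrepX : ∀ σ ∈ reps, L σ r₀ ∈ X := by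
    intro σ hσ
    have hout : L σ r₀ ∉ Q0 := fun h' => by
      obtain ⟨i, hi⟩ := (hQx _).1 h'
      refine hr₀Q ((hQx _).2 ⟨σ⁻¹ i, (L σ).injective ?_⟩)
      rw [hL σ (σ⁻¹ i), ← hi]
      simp
    rcases houts _ hout with h1 | h1
    · exact h1
    · exact absurd rfl (hnoT σ hσ _ h1 hout)
  -- classes of the moved points
  have hk : ∀ p ∈ X, ∃ k ∈ G, k a = a ∧ k b = b ∧ k r₀ = p ∧ g * k = k * g := by
    intro p hp
    obtain ⟨k, hk, k1, k2, k3, -, hkg⟩ := (hDX r₀ hr₀X).transport H (hDX p hp)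
    exact ⟨k, hk, k1, k2, k3, (mul_inv_eq_iff_eq_mul.1 hkg).symm⟩
  choose! k hkG hka hkb hkr hkc using hk
  let cls : α → α × α := fun p => ((k p)⁻¹ c, (k p)⁻¹ d)
  have hcls_orb : ∀ p ∈ X, ∀ p' ∈ X, cls p = cls p' → orb G Q0 p = orb G Q0 p' := by
    intro p hp p' hp' he
    have hec : (k p)⁻¹ c = (k p')⁻¹ c := congrArg Prod.fst he
    have hed : (k p)⁻¹ d = (k p')⁻¹ d := congrArg Prod.snd he
    refine orb_eq (mem_orb.2 ⟨k p * (k p')⁻¹, ⟨G.mul_mem (hkG p hp) (G.inv_mem (hkG p' hp')), fun w hw => ?_⟩, ?_⟩)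
    · rcases (memQ0 w).1 hw with rfl | rfl | rfl | rfl
      · rw [Perm.mul_apply, inv_apply_of_fix (hka p' hp'), hka p hp]
      · rw [Perm.mul_apply, inv_apply_of_fix (hkb p' hp'), hkb p hp]
      · rw [Perm.mul_apply, ← hec]; simp
      · rw [Perm.mul_apply, ← hed]; simp
    · rw [Perm.mul_apply, show (k p')⁻¹ p' = r₀ from Perm.inv_eq_iff_eq.2 (hkr p' hp').symm, hkr p hp]
  have hclsmem : ∀ p ∈ X, cls p ∈ (fixF g).offDiag := fun p hp => by
    have hc' : g * (k p)⁻¹ = (k p)⁻¹ * g := (Commute.inv_right (hkc p hp : Commute g (k p))).eq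
    exact Finset.mem_offDiag.2 ⟨apply_mem_fixF hc' hcT, apply_mem_fixF hc' hdT,
      fun e => hcd ((k p)⁻¹.injective e)⟩
  have hclsinj : ∀ σ ∈ reps.toFinset, ∀ τ ∈ reps.toFinset, cls (L σ r₀) = cls (L τ r₀) → σ = τ :=
    fun σ hσ τ hτ he => hinj σ (List.mem_toFinset.1 hσ) τ (List.mem_toFinset.1 hτ)
      (hcls_orb _ (hrepX σ (List.mem_toFinset.1 hσ)) _ (hrepX τ (List.mem_toFinset.1 hτ)) he)
  have hrep6 : reps.toFinset.card = 6 := by decide +kernel
  have himg : (reps.toFinset.image fun σ => cls (L σ r₀)).card = 6 := by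
    rw [Finset.card_image_of_injOn hclsinj, hrep6]
  have hsubimg : (reps.toFinset.image fun σ => cls (L σ r₀)) ⊆ (fixF g).offDiag := fun w hw => by
    obtain ⟨σ, hσ, rfl⟩ := Finset.mem_image.1 hw
    exact hclsmem _ (hrepX σ (List.mem_toFinset.1 hσ))
  have hle6 : (fixF g).offDiag.card ≤ 6 := by
    rw [Finset.offDiag_card]; interval_cases (fixF g).card <;> simp
  have himgeq := Finset.eq_of_subset_of_card_le hsubimg (by rw [himg]; exact hle6)
  have hT3 : (fixF g).card = 3 := by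
    have h1 := Finset.card_le_card hsubimg
    rw [himg, Finset.offDiag_card] at h1
    interval_cases (fixF g).card <;> simp at h1 ⊢
  have hcover : ∀ z ∈ X, ∃ σ ∈ reps, orb G Q0 z = Φ σ := by
    intro z hz
    have h1 := hclsmem z hz
    rw [← himgeq, Finset.mem_image] at h1
    obtain ⟨σ, hσ, he⟩ := h1
    exact ⟨σ, List.mem_toFinset.1 hσ, hcls_orb z hz _ (hrepX σ (List.mem_toFinset.1 hσ)) he.symm⟩
  -- the third fixed point is fixed by the stabilizer
  have hTfix : ∀ z ∈ fixF g, ∀ r ∈ R, r z = z := by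
    intro z hz r hr
    by_cases hzQ : z ∈ Q0
    · exact hr.2 z hzQ
    have hrz : r z ∈ orb G Q0 z := mem_orb.2 ⟨r, hr, rfl⟩
    have hout := orb_disjoint_self hzQ _ hrz
    rcases houts _ hout with h1 | h1
    · obtain ⟨σ, hσ, hσe⟩ := hcover _ h1
      exact absurd (hσe.symm.trans (orb_eq hrz)) (hnoT σ hσ z hz hzQ)
    · have h2 : ((fixF g).erase c).erase d = {z} := (Finset.eq_of_subset_of_card_le
        (Finset.singleton_subset_iff.2 (Finset.mem_erase.2 ⟨fun e => hzQ ((memQ0 z).2 (by simp [e])),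
          Finset.mem_erase.2 ⟨fun e => hzQ ((memQ0 z).2 (by simp [e])), hz⟩⟩))
        (by rw [Finset.card_erase_of_mem (Finset.mem_erase.2 ⟨hcd.symm, hdT⟩), Finset.card_erase_of_mem hcT, hT3]
            simp)).symm
      have h3 : r z ∈ ((fixF g).erase c).erase d := Finset.mem_erase.2 ⟨fun e => hout ((memQ0 _).2 (by simp [e])),
        Finset.mem_erase.2 ⟨fun e => hout ((memQ0 _).2 (by simp [e])), h1⟩⟩
      rw [h2] at h3
      exact Finset.mem_singleton.1 h3
  by_contra hRne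
  -- no moved point is fixed
  have hnoX : ∀ z ∈ X, ¬ ∀ r ∈ R, r z = z := by
    intro z hz hall
    refine hRne (hbot fun w hw r hr => ?_)
    rcases houts w hw with h1 | h1
    · have hone : ∀ σ, (Φ σ).card = (Φ 1).card := fun σ => by
        conv_lhs => rw [← mul_one σ, hΦmul, Finset.card_map]
      obtain ⟨σ, -, hσ⟩ := hcover z hz
      obtain ⟨τ, -, hτ⟩ := hcover w h1
      have hz1 : orb G Q0 z = {z} := Finset.eq_singleton_iff_unique_mem.2 ⟨self_mem_orb _ _, fun v hv => by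
        obtain ⟨r', hr', rfl⟩ := mem_orb.1 hv; exact hall r' hr'⟩
      have h2 : (orb G Q0 w).card = 1 := by rw [hτ, hone τ, ← hone σ, ← hσ, hz1, Finset.card_singleton]
      exact Finset.card_le_one.1 h2.le _ (mem_orb.2 ⟨r, hr, rfl⟩) _ (self_mem_orb _ _)
    · exact hTfix w h1 r hr
  -- transported facts
  have hback : ∀ k ∈ G, ∀ u v w z : α, k a = u → k b = v → k c = w → k d = z → ∀ r,
      (r ∈ pstab G ({u, v, w, z} : Finset α) → k⁻¹ * r * k ∈ R) ∧
      (r ∈ R → k * r * k⁻¹ ∈ pstab G ({u, v, w, z} : Finset α)) := by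
    intro k hk u v w z k1 k2 k3 k4 r
    have hmap : Q0.map k.toEmbedding = {u, v, w, z} := by simp [hQ0, k1, k2, k3, k4]
    refine ⟨fun hr => (mem_pstab_map hk).1 ?_, fun hr => hmap ▸ (mem_pstab_map hk).2 hr⟩
    rw [hmap]; simpa [mul_assoc] using hr
  have hE : ∀ τ ∈ G, τ * τ = 1 → ∀ u v w z, [u, v, w, z].Nodup → τ u = v → τ w = w → τ z = z →
      (fixF τ).card = 3 ∧ ∀ r ∈ pstab G ({u, v, w, z} : Finset α), ∀ y ∈ fixF τ, r y = y := by
    intro τ hτ hττ u v w z hnd' hu hw hz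
    obtain ⟨k, hk, k1, k2, k3, k4⟩ := H.h4.map4 hnd hnd'
    have hv : τ v = u := by rw [← hu, ← Perm.mul_apply, hττ, Perm.one_apply]
    obtain ⟨r', hr', hr'g⟩ := H.conj_of_agree (card_four hnd') (s := k * g * k⁻¹)
      (G.mul_mem (G.mul_mem hk hg) (G.inv_mem hk)) hτ
      (by rw [show k * g * k⁻¹ * (k * g * k⁻¹) = k * (g * g) * k⁻¹ by simp [mul_assoc], hgg]; simp) hττ
      (fun y hy => by
        simp only [Finset.mem_insert, Finset.mem_singleton] at hy
        rcases hy with rfl | rfl | rfl | rfl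
        · rw [Perm.mul_apply, Perm.mul_apply, show k⁻¹ y = a from Perm.inv_eq_iff_eq.2 k1.symm, hga, k2, hv]
        · rw [Perm.mul_apply, Perm.mul_apply, show k⁻¹ y = b from Perm.inv_eq_iff_eq.2 k2.symm, hgb, k1, hu]
        · rw [Perm.mul_apply, Perm.mul_apply, show k⁻¹ y = c from Perm.inv_eq_iff_eq.2 k3.symm, hgc, k3, hw]
        · rw [Perm.mul_apply, Perm.mul_apply, show k⁻¹ y = d from Perm.inv_eq_iff_eq.2 k4.symm, hgd, k4, hz])
    set m := r' * k with hm
    have hmg : m * g * m⁻¹ = τ := by rw [← hr'g, hm]; simp [mul_assoc]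
    have hmG : m ∈ G := G.mul_mem hr'.1 hk
    refine ⟨by rw [← hmg, card_fixF_conj, hT3], fun r hr y hy => ?_⟩
    have h1 := (hback m hmG u v w z (by rw [hm, Perm.mul_apply, k1, hr'.2 u (by simp)])
      (by rw [hm, Perm.mul_apply, k2, hr'.2 v (by simp)]) (by rw [hm, Perm.mul_apply, k3, hr'.2 w (by simp)])
      (by rw [hm, Perm.mul_apply, k4, hr'.2 z (by simp)]) r).1 hr
    rw [← hmg, fixF_conj, Finset.mem_map] at hy
    obtain ⟨y', hy', rfl⟩ := hy
    have h2 := hTfix y' hy' _ h1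
    rw [Perm.mul_apply, Perm.mul_apply, Perm.inv_eq_iff_eq] at h2
    exact h2
  have hU : ∀ u v w z, [u, v, w, z].Nodup → ∀ y y', y ∉ ({u, v, w, z} : Finset α) →
      y' ∉ ({u, v, w, z} : Finset α) → (∀ r ∈ pstab G ({u, v, w, z} : Finset α), r y = y) →
      (∀ r ∈ pstab G ({u, v, w, z} : Finset α), r y' = y') → y = y' := by
    intro u v w z hnd' y y' hy hy' hfy hfy'
    obtain ⟨k, hk, k1, k2, k3, k4⟩ := H.h4.map4 hnd hnd'
    have hmap : Q0.map k.toEmbedding = {u, v, w, z} := by simp [hQ0, k1, k2, k3, k4]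
    have key : ∀ y, y ∉ ({u, v, w, z} : Finset α) → (∀ r ∈ pstab G ({u, v, w, z} : Finset α), r y = y) →
        k⁻¹ y ∈ ((fixF g).erase c).erase d := by
      intro y hy hfy
      have hout : k⁻¹ y ∉ Q0 := fun hmem => hy (by
        rw [← hmap]; exact Finset.mem_map.2 ⟨_, hmem, by simp⟩)
      rcases houts _ hout with h1 | h1
      · refine absurd (fun r hr => ?_) (hnoX _ h1)
        have h2 := hfy _ ((hback k hk u v w z k1 k2 k3 k4 r).2 hr)
        rw [Perm.mul_apply, Perm.mul_apply] at h2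
        exact Perm.eq_inv_iff_eq.2 h2
      · exact Finset.mem_erase.2 ⟨fun e => hout ((memQ0 _).2 (by simp [e])),
          Finset.mem_erase.2 ⟨fun e => hout ((memQ0 _).2 (by simp [e])), h1⟩⟩
    refine k⁻¹.injective (Finset.card_le_one.1 ?_ _ (key y hy hfy) _ (key y' hy' hfy'))
    rw [Finset.card_erase_of_mem (Finset.mem_erase.2 ⟨hcd.symm, hdT⟩), Finset.card_erase_of_mem hcT, hT3]
  have hcommute : ∀ τ ∈ G, τ * τ = 1 → ∀ u v w z, [u, v, w, z].Nodup → τ u = v → τ w = w → τ z = z →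
      ∀ r ∈ pstab G ({u, v, w, z} : Finset α), τ * r = r * τ := by
    intro τ hτ hττ u v w z hnd' hu hw hz r hr
    obtain ⟨hcard, hfix⟩ := hE τ hτ hττ u v w z hnd' hu hw hz
    obtain ⟨⟨huv, huw, huz⟩, ⟨hvw, hvz⟩, hwz⟩ := nodup4.1 hnd'
    have hττ' : ∀ x, τ (τ x) = x := fun x => by rw [← Perm.mul_apply, hττ, Perm.one_apply]
    have hv : τ v = u := by rw [← hu, hττ']
    set τ' := r * τ * r⁻¹ with hτ'def
    have hτ'G : τ' ∈ G := G.mul_mem (G.mul_mem hr.1 hτ) (G.inv_mem hr.1)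
    have hτ'2 : τ' * τ' = 1 := by
      rw [hτ'def, show r * τ * r⁻¹ * (r * τ * r⁻¹) = r * (τ * τ) * r⁻¹ by simp [mul_assoc], hττ]; simp
    have hsame : ∀ y ∈ fixF τ, τ' y = y := fun y hy => by
      rw [hτ'def, Perm.mul_apply, Perm.mul_apply, inv_apply_of_fix (hfix r hr y hy), mem_fixF.1 hy, hfix r hr y hy]
    obtain ⟨e, he, hew, hez⟩ : ∃ e ∈ fixF τ, e ≠ w ∧ e ≠ z := by
      by_contra hcon
      push Not at hcon
      have h1 := Finset.card_le_card (show fixF τ ⊆ {w, z} from fun e he => by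
        rw [Finset.mem_insert, Finset.mem_singleton]
        exact or_iff_not_imp_left.2 fun h' => hcon e he h')
      rw [hcard, Finset.card_pair hwz] at h1
      omega
    have hee := mem_fixF.1 he
    have hτ'τ : τ' = τ := by
      refine Equiv.ext fun p => ?_
      by_cases hpQ : p ∈ ({u, v, w, z} : Finset α)
      · rw [hτ'def, Perm.mul_apply, Perm.mul_apply, inv_apply_of_fix (hr.2 p hpQ)]
        refine hr.2 _ ?_
        simp only [Finset.mem_insert, Finset.mem_singleton] at hpQ ⊢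
        rcases hpQ with rfl | rfl | rfl | rfl <;> simp [hu, hv, hw, hz]
      by_cases hp : τ p = p
      · rw [hp]; exact hsame p (mem_fixF.2 hp)
      simp only [Finset.mem_insert, Finset.mem_singleton, not_or] at hpQ
      have hp' : τ' p ≠ p := fun h' => hp (by
        have h2 : τ (r⁻¹ p) = r⁻¹ p := by
          refine r.injective ?_
          rw [hτ'def, Perm.mul_apply, Perm.mul_apply] at h'
          simpa using h'
        have h3 := hfix r hr _ (mem_fixF.2 h2)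
        rw [← Perm.mul_apply, mul_inv_cancel, Perm.one_apply] at h3
        rwa [← h3] at h2)
      have hpe : p ≠ e := fun e' => hp (e' ▸ hee)
      have hA2 : [p, w, z, e].Nodup := nodup4.2 ⟨⟨hpQ.2.2.1, hpQ.2.2.2, hpe⟩, ⟨hwz, hew.symm⟩, hez.symm⟩
      have main : ∀ σ ∈ G, σ * σ = 1 → σ w = w → σ z = z → σ e = e → σ p ≠ p →
          σ p ∉ ({p, w, z, e} : Finset α) ∧ ∀ r' ∈ pstab G ({p, w, z, e} : Finset α), r' (σ p) = σ p := by
        intro σ hσ hσσ sw sz se sp
        have hne : ∀ x, σ x = x → p ≠ x → σ p ≠ x := fun x hx hpx h' => hpx (σ.injective (h'.trans hx.symm))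
        have hnd1 : [p, σ p, w, z].Nodup := nodup4.2 ⟨⟨Ne.symm sp, hpQ.2.2.1, hpQ.2.2.2⟩,
          ⟨hne w sw hpQ.2.2.1, hne z sz hpQ.2.2.2⟩, hwz⟩
        refine ⟨by simp [sp, hne w sw hpQ.2.2.1, hne z sz hpQ.2.2.2, hne e se hpe], fun r' hr' => ?_⟩
        have hle : pstab G ({p, σ p, w, z} : Finset α) ≤ pstab G ({p, w, z, e} : Finset α) := fun q hq =>
          ⟨hq.1, fun x hx => by
            simp only [Finset.mem_insert, Finset.mem_singleton] at hx
            rcases hx with rfl | rfl | rfl | rfl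
            · exact hq.2 _ (by simp)
            · exact hq.2 _ (by simp)
            · exact hq.2 _ (by simp)
            · exact (hE σ hσ hσσ p (σ p) w z hnd1 rfl sw sz).2 q hq _ (mem_fixF.2 se)⟩
        rw [← Subgroup.eq_of_le_of_card_ge hle (H.h4.hom.card_pstab (card_four hA2) (card_four hnd1)).le] at hr'
        exact hr'.2 _ (by simp)
      obtain ⟨h5, h6⟩ := main τ hτ hττ hw hz hee hp
      obtain ⟨h7, h8⟩ := main τ' hτ'G hτ'2 (hsame w (mem_fixF.2 hw)) (hsame z (mem_fixF.2 hz)) (hsame e he) hp'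
      exact (hU p w z e hA2 _ _ h5 h7 h6 h8).symm
    rw [hτ'def, mul_inv_eq_iff_eq_mul] at hτ'τ
    exact hτ'τ.symm
  refine hnoX r₀ hr₀X fun r hr => hS j a b c d Dj r hr ?_ r₀ (mem_fixF.2 hjr₀)
  have h1 := hcommute g hg hgg a b c d hnd hga hgc hgd r hr
  have h2 := hcommute h hhG hhh c d a b
    (nodup4.2 ⟨⟨hcd, hac.symm, hbc.symm⟩, ⟨had.symm, hbd.symm⟩, hab⟩) hhc hha hhb r ⟨hr.1, fun w hw => hr.2 w (by
      simp only [Finset.mem_insert, Finset.mem_singleton] at hw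
      rw [memQ0]; tauto)⟩
  rw [hjdef]
  exact ((show Commute g r from h1).mul_left h2).eq

/-- A moving centralizer gives five-fold transitivity, in odd degree. -/
theorem tr5_of_moving (H : Odd4 G) (hn : 6 ≤ Fintype.card α) (hM : ¬ Still G) : Tr G 5 := by
  classical
  have hpar : Fintype.card α % 2 = 1 := by
    by_contra hev
    exact hM (H.still_of_even (by omega))
  simp only [Still] at hM
  push Not at hM
  obtain ⟨g', a', b', p', q', D', r', hr', hgr', z', hz', hmove⟩ := hM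
  have hodd3 : ∀ k ∈ G, k * k = 1 → k ≠ 1 → ∀ u w, u ≠ w → k u = u → k w = w → (fixF k).card = 3 := by
    intro k hk hkk hk1 u w huw hu hw
    have h1 := H.fix_le hk hkk hk1
    have h2 := even_card_sub_fixF (g := k) (by rw [pow_two]; exact hkk)
    have h3 : 2 ≤ (fixF k).card := Finset.one_lt_card.2 ⟨u, mem_fixF.2 hu, w, mem_fixF.2 hw, huw⟩
    omega
  -- the centralizer is transitive on the fixed points
  have htrans : ∀ g a b p q, Dbl G g a b p q → ∀ u ∈ fixF g, ∀ w ∈ fixF g,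
      ∃ r ∈ pstab G ({a, b, p, q} : Finset α), g * r = r * g ∧ r u = w := by
    intro g a b p q D u hu w hw
    obtain ⟨k, hk, k1, k2, k3, k4, hkg⟩ := D'.transport H D
    set r := k * r' * k⁻¹ with hrdef
    have hmap : ({a', b', p', q'} : Finset α).map k.toEmbedding = {a, b, p, q} := by simp [k1, k2, k3, k4]
    have hr : r ∈ pstab G ({a, b, p, q} : Finset α) := hmap ▸ (mem_pstab_map hk).2 hr'
    have hgr : g * r = r * g := by
      rw [← hkg, hrdef]
      calc k * g' * k⁻¹ * (k * r' * k⁻¹) = k * (g' * r') * k⁻¹ := by simp [mul_assoc]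
        _ = k * (r' * g') * k⁻¹ := by rw [hgr']
        _ = k * r' * k⁻¹ * (k * g' * k⁻¹) := by simp [mul_assoc]
    have hord : Odd (orderOf r) := Odd.of_dvd_nat (H.odd _ D.card) (by
      rw [← Subgroup.orderOf_mk r hr]; exact orderOf_dvd_natCard _)
    set z := k z' with hz
    have hzT : z ∈ fixF g := by rw [← hkg, fixF_conj]; exact Finset.mem_map_of_mem k.toEmbedding hz'
    have hrz : r z ≠ z := fun h' => hmove (k.injective (by simpa [hrdef, hz] using h'))
    have hrrz : r (r z) ≠ z := fun h' => hrz (fix_of_pair hord (Or.inr rfl) (Or.inl h'))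
    have hne : r z ≠ r (r z) := fun h' => hrz (r.injective h').symm
    have h3 : ({z, r z, r (r z)} : Finset α).card = 3 := by
      rw [Finset.card_insert_of_notMem (by simp [Ne.symm hrz, Ne.symm hrrz]), Finset.card_pair hne]
    have heq : ({z, r z, r (r z)} : Finset α) = fixF g := by
      refine Finset.eq_of_subset_of_card_le (fun x hx => ?_) ?_
      · simp only [Finset.mem_insert, Finset.mem_singleton] at hx
        rcases hx with rfl | rfl | rfl
        · exact hzT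
        · exact apply_mem_fixF hgr hzT
        · exact apply_mem_fixF hgr (apply_mem_fixF hgr hzT)
      · rw [h3]
        exact H.fix_le D.mem D.invol fun e => (nodup4.1 D.nd).1.1 (by rw [← D.ga, e]; rfl)
    have hpow : ∀ y ∈ fixF g, ∃ i : ℕ, (r ^ i) z = y := fun y hy => by
      rw [← heq] at hy
      simp only [Finset.mem_insert, Finset.mem_singleton] at hy
      rcases hy with rfl | rfl | rfl
      · exact ⟨0, rfl⟩
      · exact ⟨1, by rw [pow_one]⟩
      · exact ⟨2, by rw [pow_two, Perm.mul_apply]⟩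
    obtain ⟨i, hi⟩ := hpow u hu
    obtain ⟨l, hl⟩ := hpow w hw
    refine ⟨r ^ l * (r ^ i)⁻¹, (pstab G _).mul_mem ((pstab G _).pow_mem hr _)
      ((pstab G _).inv_mem ((pstab G _).pow_mem hr _)), ?_, ?_⟩
    · exact (((show Commute g r from hgr).pow_right l).mul_right
        ((show Commute g r from hgr).pow_right i).inv_right).eq
    · rw [Perm.mul_apply, show (r ^ i)⁻¹ u = z from Perm.inv_eq_iff_eq.2 hi.symm, hl]
  obtain ⟨a, b, c, d, hnd, -⟩ := exists_four (S := (Finset.univ : Finset α)) (by rw [Finset.card_univ]; omega)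
  obtain ⟨⟨hab, hac, had⟩, ⟨hbc, hbd⟩, hcd⟩ := nodup4.1 hnd
  set Q0 : Finset α := {a, b, c, d} with hQ0
  have memQ0 : ∀ w, w ∈ Q0 ↔ w = a ∨ w = b ∨ w = c ∨ w = d := fun w => by simp [hQ0]
  obtain ⟨g₂, hg₂, hg₂2, h2a, h2b, h2c, h2d⟩ := H.exists_swap hnd
  obtain ⟨h₂, hh₂, hh₂2, h2c', h2d', h2a', h2b'⟩ := H.exists_swap (a := c) (b := d) (c := a) (d := b)
    (nodup4.2 ⟨⟨hcd, hac.symm, hbc.symm⟩, ⟨had.symm, hbd.symm⟩, hab⟩)
  -- a double transposition and a commuting lift of one of its halves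
  have h22 : ∀ w, g₂ (g₂ w) = w := fun w => by rw [← Perm.mul_apply, hg₂2, Perm.one_apply]
  obtain ⟨r₁, hr₁, hr₁g⟩ := H.conj_of_agree (card_four hnd) (s := h₂ * g₂ * h₂⁻¹)
    (G.mul_mem (G.mul_mem hh₂ hg₂) (G.inv_mem hh₂)) hg₂
    (by rw [show h₂ * g₂ * h₂⁻¹ * (h₂ * g₂ * h₂⁻¹) = h₂ * (g₂ * g₂) * h₂⁻¹ by simp [mul_assoc], hg₂2]; simp)
    hg₂2 (fun w hw => by
      rw [inv_eq_of_mul_eq_one_right hh₂2]
      rcases (memQ0 w).1 hw with rfl | rfl | rfl | rfl <;> simp [h2a, h2b, h2c, h2d, h2a', h2b', h2c', h2d'])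
  obtain ⟨o, -, e₁, he₁, hag₁⟩ := exists_two_part (r₁ * h₂)
  set h := (r₁ * h₂) ^ o with hhdef
  have hhG : h ∈ G := G.pow_mem (G.mul_mem hr₁.1 hh₂) o
  have hgu : g₂ * (r₁ * h₂) = r₁ * h₂ * g₂ := by
    calc g₂ * (r₁ * h₂) = r₁ * (h₂ * g₂ * h₂⁻¹) * r₁⁻¹ * (r₁ * h₂) := by rw [hr₁g]
      _ = r₁ * h₂ * g₂ := by simp [mul_assoc]
  have hgh : g₂ * h = h * g₂ := (Commute.pow_right (hgu : Commute g₂ (r₁ * h₂)) o).eq
  have uc : (r₁ * h₂) c = d := by rw [Perm.mul_apply, h2c', hr₁.2 d (by simp [hQ0])]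
  have ud : (r₁ * h₂) d = c := by rw [Perm.mul_apply, h2d', hr₁.2 c (by simp [hQ0])]
  have ua : (r₁ * h₂) a = a := by rw [Perm.mul_apply, h2a', hr₁.2 a (by simp [hQ0])]
  have ub : (r₁ * h₂) b = b := by rw [Perm.mul_apply, h2b', hr₁.2 b (by simp [hQ0])]
  have hhc : h c = d := by rw [hag₁ c (by rw [uc, ud]), uc]
  have hhd : h d = c := by rw [hag₁ d (by rw [ud, uc]), ud]
  have hha : h a = a := by rw [hag₁ a (by rw [ua, ua]), ua]
  have hhb : h b = b := by rw [hag₁ b (by rw [ub, ub]), ub]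
  have hhh : h * h = 1 := H.eq_one (G.mul_mem hhG hhG) (card_four hnd)
    (fun w hw => by rcases (memQ0 w).1 hw with rfl | rfl | rfl | rfl <;> simp [hha, hhb, hhc, hhd])
    ⟨e₁, by rw [← pow_two, ← pow_mul, mul_comm, pow_mul, he₁, one_pow]⟩
  obtain ⟨j, hjdef⟩ : ∃ j, j = g₂ * h := ⟨_, rfl⟩
  have hjj : j * j = 1 := by
    rw [hjdef]
    calc g₂ * h * (g₂ * h) = g₂ * (h * g₂) * h := by simp [mul_assoc]
      _ = g₂ * g₂ * (h * h) := by rw [← hgh]; simp [mul_assoc]
      _ = 1 := by rw [hg₂2, hhh, one_mul]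
  have Dj : Dbl G j a b c d := ⟨hjdef ▸ G.mul_mem hg₂ hhG, hjj, by rw [hjdef, Perm.mul_apply, hha, h2a],
    by rw [hjdef, Perm.mul_apply, hhc, h2d], hnd⟩
  have hg21 : g₂ ≠ 1 := fun e => hab (by rw [← h2a, e]; rfl)
  have hT3 := hodd3 g₂ hg₂ hg₂2 hg21 c d hcd h2c h2d
  obtain ⟨e, he⟩ := Finset.card_pos.1 (show 0 < (((fixF g₂).erase c).erase d).card by
    rw [Finset.card_erase_of_mem (Finset.mem_erase.2 ⟨hcd.symm, mem_fixF.2 h2d⟩),
      Finset.card_erase_of_mem (mem_fixF.2 h2c), hT3]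
    norm_num)
  simp only [Finset.mem_erase, mem_fixF] at he
  have hTeq : fixF g₂ = {c, d, e} := (Finset.eq_of_subset_of_card_le (fun w hw => by
    simp only [Finset.mem_insert, Finset.mem_singleton] at hw
    rcases hw with rfl | rfl | rfl <;> simp [h2c, h2d, he.2.2])
    (by rw [hT3, Finset.card_insert_of_notMem (by simp [hcd, Ne.symm he.2.1]),
      Finset.card_pair (Ne.symm he.1)])).symm
  have hea : e ≠ a := fun e' => hab (by rw [← h2a, ← e', he.2.2])
  have heb : e ≠ b := fun e' => hab (by rw [← h2b, ← e', he.2.2])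
  have heQ : e ∉ Q0 := by simp [hQ0, hea, heb, he.1, he.2.1]
  have hhe : h e = e := by
    have h1 : h e ∈ fixF g₂ := apply_mem_fixF hgh (mem_fixF.2 he.2.2)
    rw [hTeq] at h1
    simp only [Finset.mem_insert, Finset.mem_singleton] at h1
    rcases h1 with h1 | h1 | h1
    · exact absurd (h.injective (h1.trans hhd.symm)) he.1
    · exact absurd (h.injective (h1.trans hhc.symm)) he.2.1
    · exact h1
  have hje : j e = e := by rw [hjdef, Perm.mul_apply, hhe, he.2.2]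
  -- everything outside is in the orbit of `e`
  have horb : ∀ p, p ∉ Q0 → ∃ r ∈ pstab G Q0, r e = p := by
    intro p hp
    by_cases hgp : g₂ p = p
    · refine ⟨1, (pstab G Q0).one_mem, ?_⟩
      have h1 : p ∈ fixF g₂ := mem_fixF.2 hgp
      rw [hTeq] at h1
      simp only [Finset.mem_insert, Finset.mem_singleton] at h1
      rcases h1 with h1 | h1 | h1
      · exact absurd ((memQ0 p).2 (by simp [h1])) hp
      · exact absurd ((memQ0 p).2 (by simp [h1])) hp
      · exact h1.symm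
    have hj3 : (fixF j).card = 3 := by
      have hj1 : j ≠ 1 := fun e' => hab (by rw [← Dj.ga, e']; rfl)
      have h1 := H.fix_le Dj.mem hjj hj1
      have h2 := even_card_sub_fixF (g := j) (by rw [pow_two]; exact hjj)
      obtain ⟨k, -, -, -, -, -, hkg⟩ := D'.transport H Dj
      rw [← hkg, card_fixF_conj] at h1 h2 ⊢
      by_contra hne
      have h4 : (fixF g').card = 1 := by omega
      exact hmove (Finset.card_le_one.1 h4.le _ (apply_mem_fixF hgr' hz') _ hz')
    obtain ⟨r₀, hr₀, hr₀e⟩ : ∃ r₀ ∈ fixF j, r₀ ≠ e := by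
      obtain ⟨u, hu, w, hw, huw⟩ := Finset.one_lt_card.1 (by omega : 1 < (fixF j).card)
      by_cases hue : u = e
      · exact ⟨w, hw, fun hwe => huw (hue.trans hwe.symm)⟩
      · exact ⟨u, hu, hue⟩
    obtain ⟨hr₀a, hr₀b, hr₀c, hr₀d⟩ := Dj.notMem_fix hr₀
    have hgr₀ : g₂ r₀ ≠ r₀ := fun h' => by
      have h1 : r₀ ∈ fixF g₂ := mem_fixF.2 h'
      rw [hTeq] at h1
      simp only [Finset.mem_insert, Finset.mem_singleton] at h1
      rcases h1 with h1 | h1 | h1
      · exact hr₀c h1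
      · exact hr₀d h1
      · exact hr₀e h1
    simp only [memQ0, not_or] at hp
    have hDp : ∀ p, p ≠ a → p ≠ b → g₂ p ≠ p → Dbl G g₂ a b p (g₂ p) := fun p h1 h2 h3 =>
      ⟨hg₂, hg₂2, h2a, rfl, nodup4.2 ⟨⟨hab, Ne.symm h1, fun h => h2 (g₂.injective (h.symm.trans h2b.symm))⟩,
        ⟨Ne.symm h2, fun h => h1 (g₂.injective (h.symm.trans h2a.symm))⟩, Ne.symm h3⟩⟩
    obtain ⟨k, hk, k1, k2, k3, -, hkg⟩ := (hDp r₀ hr₀a hr₀b hgr₀).transport H (hDp p hp.1 hp.2.1 hgp)
    have hgk : g₂ * k = k * g₂ := (mul_inv_eq_iff_eq_mul.1 hkg).symm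
    obtain ⟨r, hr, hgr, hre⟩ := htrans g₂ a b r₀ (g₂ r₀) (hDp r₀ hr₀a hr₀b hgr₀) e (mem_fixF.2 he.2.2) (k⁻¹ e)
      (apply_mem_fixF ((Commute.inv_right (hgk : Commute g₂ k)).eq) (mem_fixF.2 he.2.2))
    set m := k * r with hm
    have hmG : m ∈ G := G.mul_mem hk hr.1
    have ma : m a = a := by rw [hm, Perm.mul_apply, hr.2 a (by simp), k1]
    have mb : m b = b := by rw [hm, Perm.mul_apply, hr.2 b (by simp), k2]
    have mr : m r₀ = p := by rw [hm, Perm.mul_apply, hr.2 r₀ (by simp), k3]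
    have me : m e = e := by rw [hm, Perm.mul_apply, hre]; simp
    have hgm : g₂ * m = m * g₂ := ((show Commute g₂ k from hgk).mul_right (show Commute g₂ r from hgr)).eq
    -- the point reached by the centralizer of the product
    have hjr₀ : j r₀ = r₀ := mem_fixF.1 hr₀
    have hhr₀ : j (h r₀) = h r₀ := by
      have hjh : j * h = h * j := by rw [hjdef, ← mul_assoc h, ← hgh, mul_assoc]
      rw [← Perm.mul_apply, hjh, Perm.mul_apply, hjr₀]
    have hcT : ∀ w, w = c ∨ w = d → m w = c ∨ m w = d := by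
      intro w hw
      have hwT : w ∈ fixF g₂ := by rcases hw with rfl | rfl <;> simp [h2c, h2d]
      have h1 := apply_mem_fixF hgm hwT
      rw [hTeq] at h1
      simp only [Finset.mem_insert, Finset.mem_singleton] at h1
      rcases h1 with h1 | h1 | h1
      · exact Or.inl h1
      · exact Or.inr h1
      · exact absurd (m.injective (h1.trans me.symm)) (by
          rcases hw with rfl | rfl
          · exact Ne.symm he.2.1
          · exact Ne.symm he.1)
    rcases hcT c (Or.inl rfl) with h1 | h1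
    · have h2 : m d = d := (hcT d (Or.inr rfl)).resolve_left fun h' => hcd (m.injective (h1.trans h'.symm))
      obtain ⟨r', hr', -, hr'e⟩ := htrans j a b c d Dj e (mem_fixF.2 hje) r₀ hr₀
      refine ⟨m * r', ⟨G.mul_mem hmG hr'.1, fun w hw => ?_⟩, by rw [Perm.mul_apply, hr'e, mr]⟩
      rw [Perm.mul_apply, hr'.2 w hw]
      rcases (memQ0 w).1 hw with rfl | rfl | rfl | rfl <;> assumption
    · have h2 : m d = c := (hcT d (Or.inr rfl)).resolve_right fun h' => hcd (m.injective (h1.trans h'.symm))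
      obtain ⟨r', hr', -, hr'e⟩ := htrans j a b c d Dj e (mem_fixF.2 hje) (h r₀) (mem_fixF.2 hhr₀)
      refine ⟨m * h * r', ⟨G.mul_mem (G.mul_mem hmG hhG) hr'.1, fun w hw => ?_⟩, ?_⟩
      · rw [Perm.mul_apply, hr'.2 w hw, Perm.mul_apply]
        rcases (memQ0 w).1 hw with rfl | rfl | rfl | rfl
        · rw [hha, ma]
        · rw [hhb, mb]
        · rw [hhc, h2]
        · rw [hhd, h1]
      · rw [Perm.mul_apply, hr'e, Perm.mul_apply, ← Perm.mul_apply h, hhh, Perm.one_apply, mr]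
  -- five-fold transitivity
  intro u v hu hv
  have hmove5 : ∀ u : Fin 5 → α, Function.Injective u → ∃ g ∈ G, g (u 0) = a ∧ g (u 1) = b ∧ g (u 2) = c ∧
      g (u 3) = d ∧ g (u 4) = e := by
    intro u hu
    obtain ⟨k, hk, k1, k2, k3, k4⟩ := H.h4.map4 (a := u 0) (b := u 1) (c := u 2) (d := u 3)
      (nodup4.2 (by simp [hu.eq_iff])) hnd
    obtain ⟨r, hr, hre⟩ := horb (k (u 4)) fun hm => by
      rw [memQ0, ← k1, ← k2, ← k3, ← k4] at hm
      simp [k.injective.eq_iff, hu.eq_iff] at hm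
    have hri : ∀ w ∈ Q0, r⁻¹ w = w := fun w hw => inv_apply_of_fix (hr.2 w hw)
    refine ⟨r⁻¹ * k, G.mul_mem (G.inv_mem hr.1) hk, ?_, ?_, ?_, ?_, ?_⟩
    · rw [Perm.mul_apply, k1, hri a (by simp [hQ0])]
    · rw [Perm.mul_apply, k2, hri b (by simp [hQ0])]
    · rw [Perm.mul_apply, k3, hri c (by simp [hQ0])]
    · rw [Perm.mul_apply, k4, hri d (by simp [hQ0])]
    · rw [Perm.mul_apply, ← hre, ← Perm.mul_apply, inv_mul_cancel, Perm.one_apply]
  obtain ⟨g, hg, g0, g1, g2, g3, g4⟩ := hmove5 u hu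
  obtain ⟨g', hg', f0, f1, f2, f3, f4⟩ := hmove5 v hv
  refine ⟨g'⁻¹ * g, G.mul_mem (G.inv_mem hg') hg, fun i => ?_⟩
  rw [Perm.mul_apply, Perm.inv_eq_iff_eq]
  fin_cases i
  · exact g0.trans f0.symm
  · exact g1.trans f1.symm
  · exact g2.trans f2.symm
  · exact g3.trans f3.symm
  · exact g4.trans f4.symm

end Odd4

end Cfsg.Lib.Perm.LW

namespace Cfsg.Lib.Perm.LW

open Equiv

variable {α : Type u} [Fintype α] [DecidableEq α] {G : Subgroup (Perm α)}

/-- The degree of a sharply four times transitive group. -/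
theorem degree_of_sharp (h4 : Tr G 4) (hn : 4 ≤ Fintype.card α)
    (hall : ∀ A : Finset α, A.card = 4 → pstab G A = ⊥) :
    Fintype.card α = 4 ∨ Fintype.card α = 5 ∨ Fintype.card α = 6 ∨ Fintype.card α = 11 := by
  haveI := tr_iff.1 h4
  refine Cfsg.Agent.S0415.result G hn fun x => ?_
  rw [Subgroup.eq_bot_iff_forall]
  intro k hk
  have hmem : (k : Perm α) ∈ pstab G (Finset.univ.image x) := ⟨k.2, fun y hy => by
    obtain ⟨i, -, rfl⟩ := Finset.mem_image.1 hy
    exact congrFun (congrArg (⇑) (hk : k • x = x)) i⟩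
  rw [hall _ (by rw [Finset.card_image_of_injective _ x.injective, Finset.card_univ, Fintype.card_fin]),
    Subgroup.mem_bot] at hmem
  exact Subtype.ext hmem

theorem Odd4.restr_erase (H : Odd4 G) (h5 : Tr G 5) (a : α) : Odd4 (restr G (Finset.univ.erase a)) := by
  refine ⟨tr_restr_erase h5, fun A hA => ?_⟩
  rw [← Nat.not_even_iff_odd, even_iff_two_dvd]
  intro h2
  haveI : Fact (Nat.Prime 2) := ⟨Nat.prime_two⟩
  obtain ⟨σ, hσ⟩ := exists_prime_orderOf_dvd_card' (G := pstab (restr G (Finset.univ.erase a)) A) 2 h2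
  rw [← Subgroup.orderOf_coe] at hσ
  obtain ⟨⟨g, hg, hgσ⟩, hfix⟩ := σ.2
  have hga := fix_of_restr_erase hgσ
  have hσσ : ∀ x, (σ : Perm ↥(Finset.univ.erase a)) ((σ : Perm ↥(Finset.univ.erase a)) x) = x := fun x => by
    rw [← Perm.mul_apply, ← pow_two, ← hσ, pow_orderOf_eq_one, Perm.one_apply]
  have hgg : g * g = 1 := Equiv.ext fun x => by
    rcases eq_or_ne x a with rfl | hx
    · rw [Perm.mul_apply, hga, hga, Perm.one_apply]
    · rw [Perm.mul_apply, hgσ ⟨x, Finset.mem_erase.2 ⟨hx, Finset.mem_univ _⟩⟩, hgσ, hσσ, Perm.one_apply]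
  have hg1 : g = 1 := H.eq_one hg (A := A.map (Function.Embedding.subtype _)) (by rw [Finset.card_map, hA])
    (fun x hx => by
      obtain ⟨w, hw, rfl⟩ := Finset.mem_map.1 hx
      exact (hgσ w).trans (congrArg Subtype.val (hfix w hw)))
    ⟨1, by rw [pow_one, pow_two, hgg]⟩
  have h1 : (σ : Perm ↥(Finset.univ.erase a)) = 1 := Equiv.ext fun x => Subtype.ext (by rw [← hgσ x, hg1]; rfl)
  rw [h1, orderOf_one] at hσ
  omega

/-- Hall's theorem. -/
theorem hall_four (H : Odd4 G) (hn : 4 ≤ Fintype.card α) :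
    ((Fintype.card α = 4 ∨ Fintype.card α = 5) ∧ G = ⊤) ∨
      ((Fintype.card α = 6 ∨ Fintype.card α = 7) ∧ G = alternatingGroup α) ∨
      (Fintype.card α = 11 ∧ Nat.card G = 7920) := by
  have htop : Fintype.card α ≤ 5 → G = ⊤ := by
    intro hle
    have hT : Tr G (Fintype.card α) := by
      rcases (show Fintype.card α = 4 ∨ Fintype.card α = 5 by omega) with h | h
      · rw [h]; exact H.h4
      · rw [h]; exact tr_succ_of_card_eq H.h4 h
    have hc := card_of_sharp hT le_rfl fun A hA => by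
      rw [Subgroup.eq_bot_iff_forall]
      exact fun r hr => Equiv.ext fun x => hr.2 x ((Finset.eq_univ_of_card A hA).symm ▸ Finset.mem_univ x)
    rw [Nat.descFactorial_self] at hc
    refine Subgroup.eq_top_of_card_eq G ?_
    rw [hc, Nat.card_eq_fintype_card, Fintype.card_perm]
  rcases Nat.lt_or_ge (Fintype.card α) 6 with h6 | h6
  · exact Or.inl ⟨by omega, htop (by omega)⟩
  haveI : Nontrivial α := Fintype.one_lt_card_iff_nontrivial.1 (by omega)
  by_cases hS : Still G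
  · have hall := H.bot_of_still hS h6
    have hc := card_of_sharp H.h4 (by omega) hall
    rcases degree_of_sharp H.h4 hn hall with h | h | h | h
    · omega
    · omega
    · rw [h] at hc
      refine Or.inr (Or.inl ⟨Or.inl h, Equiv.Perm.eq_alternatingGroup_of_index_eq_two ?_⟩)
      have h1 := G.card_mul_index
      rw [hc, Nat.card_eq_fintype_card, Fintype.card_perm, h] at h1
      norm_num [Nat.descFactorial] at h1
      omega
    · rw [h] at hc
      exact Or.inr (Or.inr ⟨h, hc⟩)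
  · have hodd : Fintype.card α % 2 = 1 := by
      by_contra hev
      exact hS (H.still_of_even (by omega))
    have h5 := H.tr5_of_moving h6 hS
    obtain ⟨a⟩ : Nonempty α := Fintype.card_pos_iff.1 (by omega)
    have hcard : Fintype.card ↥(Finset.univ.erase a) = Fintype.card α - 1 := by
      rw [Fintype.card_coe, Finset.card_erase_of_mem (Finset.mem_univ _), Finset.card_univ]
    have H' := H.restr_erase h5 a
    have hall := H'.bot_of_still (H'.still_of_even (by omega)) (by omega)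
    have h7 : Fintype.card α = 7 := by
      rcases degree_of_sharp H'.h4 (by omega) hall with h | h | h | h <;> omega
    have h1 : ∀ e : α, ∃ g ∈ G, g e = a := fun e => by
      obtain ⟨g, hg, hge⟩ := (h5.mono (j := 1) (by omega) (by omega)) ![e] ![a]
        (Function.injective_of_subsingleton _) (Function.injective_of_subsingleton _)
      exact ⟨g, hg, hge 0⟩
    have hc := card_of_sharp h5 (by omega) (pstab_bot_of_restr_erase h1 hall)
    rw [h7] at hc
    refine Or.inr (Or.inl ⟨Or.inr h7, Equiv.Perm.eq_alternatingGroup_of_index_eq_two ?_⟩)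
    have h2 := G.card_mul_index
    rw [hc, Nat.card_eq_fintype_card, Fintype.card_perm, h7] at h2
    norm_num [Nat.descFactorial] at h2
    omega

end Cfsg.Lib.Perm.LW
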