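import Cfsg.Agent.Lib.Perm.LW.Minimal
import Cfsg.Agent.Lib.Perm.LW.Descend

/-!
# Some set of `k + 1` points carries the alternating group

For a `k`-transitive group, `4 ≤ k < n`, some `(k + 1)`-set has all its even permutations induced by the group.
-/

set_option autoImplicit false
set_option linter.style.haveILetI false
set_option linter.unusedSectionVars false

universe u

namespace Cfsg.Lib.Perm.LW

open Equiv

variable {α : Type u} [Fintype α] [DecidableEq α]

section sharp

variable {G : Subgroup (Perm α)} {k : ℕ}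

theorem eq_of_agree (hall : ∀ A : Finset α, A.card = k → pstab G A = ⊥) {x : Fin k → α}
    (hx : Function.Injective x) {g h : Perm α} (hg : g ∈ G) (hh : h ∈ G) (he : ∀ i, g (x i) = h (x i)) : g = h := by
  have hmem : h⁻¹ * g ∈ pstab G (Finset.univ.image x) :=
    ⟨G.mul_mem (G.inv_mem hh) hg, fun z hz => by
      obtain ⟨i, -, rfl⟩ := Finset.mem_image.1 hz
      rw [Perm.mul_apply, he i, Perm.inv_eq_iff_eq]⟩
  rw [hall _ (by rw [Finset.card_image_of_injective _ hx, Finset.card_univ, Fintype.card_fin]),
    Subgroup.mem_bot] at hmem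
  exact (inv_mul_eq_one.1 hmem).symm

theorem fixF_lt (hall : ∀ A : Finset α, A.card = k → pstab G A = ⊥) {g : Perm α} (hg : g ∈ G) (hg1 : g ≠ 1) :
    (fixF g).card < k := by
  by_contra hle
  obtain ⟨A, hA, hAc⟩ := Finset.exists_subset_card_eq (not_lt.1 hle)
  have hmem : g ∈ pstab G A := ⟨hg, fun x hx => mem_fixF.1 (hA hx)⟩
  rw [hall A hAc, Subgroup.mem_bot] at hmem
  exact hg1 hmem

/-- In a sharply transitive group of degree `k + 7` every transposition of a `k`-tuple has exactly one fixed
point outside the tuple, the same for all transpositions. -/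
theorem sharp_point (hk : k = 4 ∨ k = 5) (hT : Tr G k) (hall : ∀ A : Finset α, A.card = k → pstab G A = ⊥)
    (hn : Fintype.card α = k + 7) {x : Fin k → α} (hx : Function.Injective x) :
    ∃ y, (∀ i, x i ≠ y) ∧ ∀ i j, i ≠ j → ∃ g ∈ G, (∀ l, g (x l) = x (Equiv.swap i j l)) ∧ g y = y ∧
      ∀ z, (∀ l, x l ≠ z) → g z = z → z = y := by
  classical
  have hex : ∀ π : Perm (Fin k), ∃ g ∈ G, ∀ i, g (x i) = x (π i) := fun π =>
    hT x (x ∘ π) hx (hx.comp π.injective)
  choose L hLG hL using hex
  have hmul : ∀ π τ, L (π * τ) = L π * L τ := fun π τ => eq_of_agree hall hx (hLG _) (G.mul_mem (hLG _) (hLG _))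
    fun i => by rw [hL, Perm.mul_apply (L π), hL, hL, Perm.mul_apply]
  have hone : L 1 = 1 := eq_of_agree hall hx (hLG _) G.one_mem fun i => by rw [hL]; rfl
  let T : Finset α := Finset.univ.image x
  have hT' : T.card = k := by simp [T, Finset.card_image_of_injective _ hx]
  have memT : ∀ z, z ∈ T ↔ ∃ l, x l = z := fun z => by simp [T]
  have hpres : ∀ π z, L π z ∈ T ↔ z ∈ T := by
    intro π z
    simp only [memT]
    refine ⟨fun ⟨l, hl⟩ => ⟨π⁻¹ l, (L π).injective ?_⟩, fun ⟨l, hl⟩ => ⟨π l, by rw [← hl, hL]⟩⟩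
    rw [hL, ← hl, show π (π⁻¹ l) = l by simp]
  have hinvol : ∀ π, π * π = 1 → L π ^ 2 = 1 := fun π h => by rw [pow_two, ← hmul, h, hone]
  have hout : ∀ π, π * π = 1 → π ≠ 1 →
      (Finset.univ.filter fun i => π i = i).card + (Tᶜ ∩ fixF (L π)).card < k ∧
        (Tᶜ ∩ fixF (L π)).card % 2 = 1 := by
    intro π h2 h1
    have hne : L π ≠ 1 := fun e => h1 (Equiv.ext fun i => hx (by rw [← hL, e]; rfl))
    refine ⟨lt_of_le_of_lt ?_ (fixF_lt hall (hLG π) hne), ?_⟩
    · rw [← Finset.card_image_of_injective _ hx, ← Finset.card_union_of_disjoint]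
      · refine Finset.card_le_card (Finset.union_subset (fun z hz => ?_) Finset.inter_subset_right)
        obtain ⟨i, hi, rfl⟩ := Finset.mem_image.1 hz
        rw [mem_fixF, hL, (Finset.mem_filter.1 hi).2]
      · rw [Finset.disjoint_left]
        intro z hz hz'
        obtain ⟨i, -, rfl⟩ := Finset.mem_image.1 hz
        exact Finset.mem_compl.1 (Finset.mem_inter.1 hz').1 ((memT _).2 ⟨i, rfl⟩)
    · rw [← card_inter_fixF_mod (hinvol π h2) fun z => by
        rw [Finset.mem_compl, Finset.mem_compl, hpres]]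
      rw [Finset.card_compl, hT', hn, Nat.add_sub_cancel_left]
  have hy : ∀ i j : Fin k, i ≠ j → ∃ y, Tᶜ ∩ fixF (L (Equiv.swap i j)) = {y} := by
    intro i j hij
    have hne : Equiv.swap i j ≠ 1 := fun e => hij (by simpa using (congrFun (congrArg (⇑) e) i).symm)
    obtain ⟨h1, h2⟩ := hout _ (Equiv.swap_mul_self i j) hne
    have h3 : k - 2 ≤ (Finset.univ.filter fun l => Equiv.swap i j l = l).card := by
      have h4 : ({i, j} : Finset (Fin k))ᶜ ⊆ Finset.univ.filter fun l => Equiv.swap i j l = l := fun l hl => by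
        simp only [Finset.mem_compl, Finset.mem_insert, Finset.mem_singleton, not_or] at hl
        exact Finset.mem_filter.2 ⟨Finset.mem_univ _, Equiv.swap_apply_of_ne_of_ne hl.1 hl.2⟩
      refine le_trans ?_ (Finset.card_le_card h4)
      rw [Finset.card_compl, Fintype.card_fin, Finset.card_pair hij]
    exact Finset.card_eq_one.1 (by omega)
  haveI : Nonempty α := Fintype.card_pos_iff.1 (by omega)
  choose! Y hY using hy
  have memY : ∀ i j, i ≠ j → ∀ z, (∀ l, x l ≠ z) ∧ L (Equiv.swap i j) z = z ↔ z = Y i j := by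
    intro i j hij z
    simpa [memT] using Finset.ext_iff.1 (hY i j hij) z
  have houtY : ∀ i j, i ≠ j → ∀ l, x l ≠ Y i j := fun i j hij => ((memY i j hij _).2 rfl).1
  -- moving the point of one transposition to that of a conjugate one
  have hmove : ∀ (π : Perm (Fin k)) i j i' j', i ≠ j → i' ≠ j' →
      Equiv.swap i' j' * π = π * Equiv.swap i j → L π (Y i j) = Y i' j' := by
    intro π i j i' j' hij hij' hc
    refine (memY i' j' hij' _).1 ⟨fun l hl => ?_, ?_⟩
    · obtain ⟨m, hm⟩ := (memT _).1 ((hpres π _).1 ((memT _).2 ⟨l, hl⟩))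
      exact houtY i j hij m hm
    · rw [← Perm.mul_apply, ← hmul, hc, hmul, Perm.mul_apply, ((memY i j hij _).2 rfl).2]
  have hcomm : ∀ i j p q, i ≠ j → p ≠ q → Equiv.swap i j * Equiv.swap p q = Equiv.swap p q * Equiv.swap i j →
      Y i j = Y p q := by
    intro i j p q hij hpq hc
    have h1 := hmove (Equiv.swap p q) i j i j hij hij hc
    exact (memY p q hpq _).1 ⟨houtY i j hij, h1⟩
  have hconst : ∀ i j p q, i ≠ j → p ≠ q → Y i j = Y p q := by
    have hdisj : ∀ i j p q : Fin k, p ≠ i → p ≠ j → q ≠ i → q ≠ j →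
        Equiv.swap i j * Equiv.swap p q = Equiv.swap p q * Equiv.swap i j := by
      intro i j p q h1 h2 h3 h4
      rw [Equiv.mul_swap_eq_swap_mul, Equiv.swap_apply_of_ne_of_ne h1 h2, Equiv.swap_apply_of_ne_of_ne h3 h4]
    have hsymm : ∀ i j, i ≠ j → Y i j = Y j i := fun i j hij => by
      refine hcomm i j j i hij hij.symm ?_
      rw [Equiv.swap_comm]
    rcases hk with rfl | rfl
    · have e1 : Y 0 1 = Y 2 3 := hcomm _ _ _ _ (by decide) (by decide) (hdisj _ _ _ _ (by decide) (by decide) (by decide) (by decide))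
      have e2 : Y 0 2 = Y 1 3 := hcomm _ _ _ _ (by decide) (by decide) (hdisj _ _ _ _ (by decide) (by decide) (by decide) (by decide))
      have e3 : Y 0 3 = Y 1 2 := hcomm _ _ _ _ (by decide) (by decide) (hdisj _ _ _ _ (by decide) (by decide) (by decide) (by decide))
      suffices h : Y 0 1 = Y 0 2 ∧ Y 0 1 = Y 0 3 by
        have hall' : ∀ i j, i ≠ j → Y i j = Y 0 1 := by
          intro i j hij
          fin_cases i <;> fin_cases j <;> first | exact absurd rfl hij | skip
          all_goals first
            | rfl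
            | exact h.1.symm
            | exact h.2.symm
            | exact (e1).symm
            | exact e2.symm.trans h.1.symm
            | exact e3.symm.trans h.2.symm
            | (rw [hsymm _ _ hij]; first
              | rfl
              | exact h.1.symm
              | exact h.2.symm
              | exact (e1).symm
              | exact e2.symm.trans h.1.symm
              | exact e3.symm.trans h.2.symm)
        intro i j p q hij hpq
        rw [hall' i j hij, hall' p q hpq]
      -- the swap `(0 1)` exchanges the last two pairings, the swap `(0 2)` the first and last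
      have m23 : L (Equiv.swap 0 1) (Y 0 2) = Y 1 2 := hmove _ _ _ _ _ (by decide) (by decide) (by decide)
      have m32 : L (Equiv.swap 0 1) (Y 0 3) = Y 1 3 := hmove _ _ _ _ _ (by decide) (by decide) (by decide)
      have m11 : L (Equiv.swap 0 1) (Y 0 1) = Y 0 1 := ((memY 0 1 (by decide) _).2 rfl).2
      have n31 : L (Equiv.swap 0 2) (Y 0 3) = Y 2 3 := hmove _ _ _ _ _ (by decide) (by decide) (by decide)
      have n22 : L (Equiv.swap 0 2) (Y 0 2) = Y 0 2 := ((memY 0 2 (by decide) _).2 rfl).2
      by_cases h12 : Y 0 1 = Y 0 2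
      · exact ⟨h12, m11.symm.trans ((congrArg (L _) h12).trans (m23.trans e3.symm))⟩
      by_cases h13 : Y 0 1 = Y 0 3
      · exact ⟨m11.symm.trans ((congrArg (L _) h13).trans (m32.trans e2.symm)), h13⟩
      exfalso
      have h23 : Y 0 2 ≠ Y 0 3 := fun e =>
        h12 (e1.trans (n31.symm.trans ((congrArg (L _) e.symm).trans n22)))
      -- the four remaining points
      let v : Fin 3 → Perm (Fin 4) := ![Equiv.swap 0 1 * Equiv.swap 2 3, Equiv.swap 0 2 * Equiv.swap 1 3,
        Equiv.swap 0 3 * Equiv.swap 1 2]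
      let P : Finset α := {Y 0 1, Y 0 2, Y 0 3}
      have hP : P.card = 3 := by
        simp only [P]
        rw [Finset.card_insert_of_notMem (by simp [h12, h13]), Finset.card_pair h23]
      have hPT : Disjoint T P := by
        rw [Finset.disjoint_left]
        intro z hz hz'
        obtain ⟨l, rfl⟩ := (memT z).1 hz
        simp only [P, Finset.mem_insert, Finset.mem_singleton] at hz'
        rcases hz' with h | h | h <;> exact houtY _ _ (by decide) l h
      have hB : ((T ∪ P)ᶜ).card = 4 := by
        rw [Finset.card_compl, Finset.card_union_of_disjoint hPT, hT', hP, hn]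
      have hvP : ∀ m, ∀ z ∈ P, L (v m) z = z := by
        intro m z hz
        simp only [P, Finset.mem_insert, Finset.mem_singleton] at hz
        have a1 : L (v m) (Y 0 1) = Y 0 1 := by
          have : (∀ m : Fin 3, Equiv.swap (0 : Fin 4) 1 * v m = v m * Equiv.swap 0 1 ∨
              Equiv.swap (2 : Fin 4) 3 * v m = v m * Equiv.swap 0 1) := by decide
          rcases this m with h | h
          · exact hmove _ _ _ _ _ (by decide) (by decide) h
          · exact (hmove _ _ _ _ _ (by decide) (by decide) h).trans e1.symm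
        have a2 : L (v m) (Y 0 2) = Y 0 2 := by
          have : (∀ m : Fin 3, Equiv.swap (0 : Fin 4) 2 * v m = v m * Equiv.swap 0 2 ∨
              Equiv.swap (1 : Fin 4) 3 * v m = v m * Equiv.swap 0 2) := by decide
          rcases this m with h | h
          · exact hmove _ _ _ _ _ (by decide) (by decide) h
          · exact (hmove _ _ _ _ _ (by decide) (by decide) h).trans e2.symm
        have a3 : L (v m) (Y 0 3) = Y 0 3 := by
          have : (∀ m : Fin 3, Equiv.swap (0 : Fin 4) 3 * v m = v m * Equiv.swap 0 3 ∨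
              Equiv.swap (1 : Fin 4) 2 * v m = v m * Equiv.swap 0 3) := by decide
          rcases this m with h | h
          · exact hmove _ _ _ _ _ (by decide) (by decide) h
          · exact (hmove _ _ _ _ _ (by decide) (by decide) h).trans e3.symm
        rcases hz with rfl | rfl | rfl <;> assumption
      have hsP : ∀ z ∈ P, L (Equiv.swap 0 1) z ∈ P := by
        intro z hz
        simp only [P, Finset.mem_insert, Finset.mem_singleton] at hz ⊢
        rcases hz with rfl | rfl | rfl
        · exact Or.inl m11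
        · exact Or.inr (Or.inr (m23.trans e3.symm))
        · exact Or.inr (Or.inl (m32.trans e2.symm))
      have hfree : ∀ m, ∀ z, z ∉ T ∪ P → L (v m) z ≠ z := by
        intro m z hz hfix
        have hv : v m * v m = 1 ∧ v m ≠ 1 := (by decide : ∀ m, v m * v m = 1 ∧ v m ≠ 1) m
        have h4 := (hout _ hv.1 hv.2).1
        have hsub : insert z P ⊆ Tᶜ ∩ fixF (L (v m)) := by
          intro w hw
          rcases Finset.mem_insert.1 hw with rfl | hw
          · exact Finset.mem_inter.2
              ⟨Finset.mem_compl.2 fun h => hz (Finset.mem_union_left _ h), mem_fixF.2 hfix⟩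
          · exact Finset.mem_inter.2
              ⟨Finset.mem_compl.2 fun h => Finset.disjoint_left.1 hPT h hw, mem_fixF.2 (hvP m w hw)⟩
        have h5 := Finset.card_le_card hsub
        rw [Finset.card_insert_of_notMem (fun h => hz (Finset.mem_union_right _ h)), hP] at h5
        omega
      have hsfree : ∀ i j, i ≠ j → (i, j) ∈ [((0 : Fin 4), (1 : Fin 4)), (2, 3)] →
          ∀ z, z ∉ T ∪ P → L (Equiv.swap i j) z ≠ z := by
        intro i j hij hmem z hz hfix
        have h1 := (memY i j hij z).1 ⟨fun l hl => hz (Finset.mem_union_left _ ((memT z).2 ⟨l, hl⟩)), hfix⟩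
        simp only [List.mem_cons, List.not_mem_nil, or_false, Prod.mk.injEq] at hmem
        rcases hmem with ⟨rfl, rfl⟩ | ⟨rfl, rfl⟩
        · exact hz (Finset.mem_union_right _ (by simp [P, h1]))
        · exact hz (Finset.mem_union_right _ (by simp [P, h1, ← e1]))
      obtain ⟨b, hb⟩ := Finset.card_pos.1 (by omega : 0 < ((T ∪ P)ᶜ).card)
      rw [Finset.mem_compl] at hb
      let f : Fin 5 → α := ![b, L (v 0) b, L (v 1) b, L (v 2) b, L (Equiv.swap 0 1) b]
      have hkeep : ∀ π, (∀ z ∈ P, L π z ∈ P) → L π b ∉ T ∪ P := by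
        intro π hπ h
        rcases Finset.mem_union.1 h with h | h
        · exact hb (Finset.mem_union_left _ ((hpres π b).1 h))
        · obtain ⟨w, hw, hwb⟩ := Finset.surj_on_of_inj_on_of_card_le (s := P) (t := P) (fun z _ => L π z) hπ
            (fun z w _ _ e => (L π).injective e) le_rfl _ h
          exact hb (Finset.mem_union_right _ ((L π).injective hwb ▸ hw))
      have hvv : ∀ m m' : Fin 3, m ≠ m' → ∃ m'', v m * v m' = v m'' := by decide
      have hcancel : ∀ π τ, L π b = L τ b → π * π = 1 → L (π * τ) b = b := by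
        intro π τ e h2
        rw [hmul, Perm.mul_apply, ← e, ← Perm.mul_apply, ← hmul, h2, hone, Perm.one_apply]
      have hvi : ∀ m, v m * v m = 1 := by decide
      have hvs : ∀ m, L (v m) b ≠ L (Equiv.swap 0 1) b := by
        intro m e
        have h := hcancel _ _ e (hvi m)
        have hcase : v m * Equiv.swap (0 : Fin 4) 1 = Equiv.swap 2 3 ∨
            v m * Equiv.swap (0 : Fin 4) 1 * (v m * Equiv.swap (0 : Fin 4) 1) = v 0 :=
          (by decide : ∀ m, v m * Equiv.swap (0 : Fin 4) 1 = Equiv.swap 2 3 ∨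
            v m * Equiv.swap (0 : Fin 4) 1 * (v m * Equiv.swap (0 : Fin 4) 1) = v 0) m
        rcases hcase with hc | hc
        · exact hsfree 2 3 (by decide) (by simp) b hb (hc ▸ h)
        · refine hfree 0 b hb ?_
          rw [← hc, hmul, Perm.mul_apply, h, h]
      have hvne : ∀ m m', m ≠ m' → L (v m) b ≠ L (v m') b := by
        intro m m' hmm e
        have h := hcancel _ _ e (hvi m)
        obtain ⟨m'', hm''⟩ := hvv m m' hmm
        exact hfree m'' b hb (hm'' ▸ h)
      have hf : Function.Injective f := by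
        have hs : L (Equiv.swap 0 1) b ≠ b := hsfree 0 1 (by decide) (by simp) b hb
        intro i j e
        fin_cases i <;> fin_cases j <;> first
          | rfl
          | exact absurd e.symm (hfree _ b hb)
          | exact absurd e (hfree _ b hb)
          | exact absurd e.symm hs
          | exact absurd e hs
          | exact absurd e.symm (hvs _)
          | exact absurd e (hvs _)
          | exact absurd e (hvne _ _ (by decide))
      have hle : (Finset.univ.image f).card ≤ ((T ∪ P)ᶜ).card := by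
        refine Finset.card_le_card fun z hz => ?_
        obtain ⟨i, -, rfl⟩ := Finset.mem_image.1 hz
        rw [Finset.mem_compl]
        fin_cases i
        · exact hb
        · exact hkeep _ fun z hz => (hvP 0 z hz).symm ▸ hz
        · exact hkeep _ fun z hz => (hvP 1 z hz).symm ▸ hz
        · exact hkeep _ fun z hz => (hvP 2 z hz).symm ▸ hz
        · exact hkeep _ hsP
      rw [Finset.card_image_of_injective _ hf, Finset.card_univ, Fintype.card_fin, hB] at hle
      omega
    · intro i j p q hij hpq
      have hfind : ∀ i j p q : Fin 5, i ≠ j → p ≠ q → ∃ r s : Fin 5, r ≠ s ∧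
          ((r ≠ i ∧ r ≠ j ∧ s ≠ i ∧ s ≠ j) ∨ (r = i ∧ s = j)) ∧
          ((r ≠ p ∧ r ≠ q ∧ s ≠ p ∧ s ≠ q) ∨ (r = p ∧ s = q)) := by decide
      obtain ⟨r, s, hrs, h1, h2⟩ := hfind i j p q hij hpq
      have hgo : ∀ i j, i ≠ j → (r ≠ i ∧ r ≠ j ∧ s ≠ i ∧ s ≠ j) ∨ (r = i ∧ s = j) → Y i j = Y r s := by
        rintro i j hij (⟨a1, a2, a3, a4⟩ | ⟨rfl, rfl⟩)
        · exact hcomm _ _ _ _ hij hrs (hdisj _ _ _ _ a1 a2 a3 a4)
        · rfl
      rw [hgo i j hij h1, hgo p q hpq h2]
  have h2k : 2 ≤ k := by omega
  refine ⟨Y ⟨0, by omega⟩ ⟨1, by omega⟩, houtY _ _ (by simp), fun i j hij =>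
    ⟨L (Equiv.swap i j), hLG _, hL _, ?_, fun z hz hfix => ?_⟩⟩
  · rw [hconst ⟨0, by omega⟩ ⟨1, by omega⟩ i j (by simp) hij]
    exact ((memY i j hij _).2 rfl).2
  · rw [hconst ⟨0, by omega⟩ ⟨1, by omega⟩ i j (by simp) hij]
    exact (memY i j hij z).1 ⟨hz, hfix⟩

/-- In a sharply transitive group of degree `k + 7` some set of `k + 1` points carries the symmetric group. -/
theorem sharp_set (hk : k = 4 ∨ k = 5) (hT : Tr G k) (hall : ∀ A : Finset α, A.card = k → pstab G A = ⊥)
    (hn : Fintype.card α = k + 7) :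
    ∃ Δ : Finset α, Δ.card = k + 1 ∧ restr G Δ = ⊤ := by
  classical
  obtain ⟨x⟩ : Nonempty (Fin k ↪ α) :=
    Function.Embedding.nonempty_of_card_le (by rw [Fintype.card_fin, hn]; omega)
  obtain ⟨y, hyx, hy⟩ := sharp_point hk hT hall hn x.injective
  refine ⟨insert y (Finset.univ.image x), ?_, ?_⟩
  · rw [Finset.card_insert_of_notMem (by simpa using hyx), Finset.card_image_of_injective _ x.injective,
      Finset.card_univ, Fintype.card_fin]
  set Δ := insert y (Finset.univ.image x) with hΔ
  have memΔ : ∀ z, z ∈ Δ ↔ z = y ∨ ∃ l, x l = z := fun z => by simp [hΔ]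
  -- every pair of points of `Δ` is exchanged
  have key : ∀ u v : ↥Δ, u ≠ v → Equiv.swap u v ∈ restr G Δ := by
    intro u v huv
    suffices h : ∃ g ∈ G, ∀ w : ↥Δ, g (w : α) = Equiv.swap (u : α) v w by
      obtain ⟨g, hg, hgw⟩ := h
      exact ⟨g, hg, fun w => by
        rw [hgw, Subtype.val_injective.swap_apply]⟩
    have hout : ∀ i, ∀ m, i ≠ m → ∃ g ∈ G, ∀ w ∈ Δ, g w = Equiv.swap (x m) y w := by
      intro i m him
      have hx' : Function.Injective (Function.update (⇑x) i y) := by
        intro a b hab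
        rcases eq_or_ne a i with ha | ha <;> rcases eq_or_ne b i with hb | hb
        · rw [ha, hb]
        · rw [ha, Function.update_self, Function.update_of_ne hb] at hab
          exact absurd hab.symm (hyx b)
        · rw [hb, Function.update_self, Function.update_of_ne ha] at hab
          exact absurd hab (hyx a)
        · rw [Function.update_of_ne ha, Function.update_of_ne hb] at hab
          exact x.injective hab
      obtain ⟨y', hy'x, hy'⟩ := sharp_point hk hT hall hn hx'
      -- two indices away from `i`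
      obtain ⟨p, q, hpi, hqi, hpq⟩ : ∃ p q : Fin k, p ≠ i ∧ q ≠ i ∧ p ≠ q := by
        have h2 : 1 < (Finset.univ.erase i).card := by
          rw [Finset.card_erase_of_mem (Finset.mem_univ _), Finset.card_univ, Fintype.card_fin]; omega
        obtain ⟨p, hp, q, hq, hpq⟩ := Finset.one_lt_card.1 h2
        exact ⟨p, q, (Finset.mem_erase.1 hp).1, (Finset.mem_erase.1 hq).1, hpq⟩
      obtain ⟨g, hg, hgx, hgy, -⟩ := hy p q hpq
      obtain ⟨g', hg', hg'x, -, hg'u⟩ := hy' p q hpq
      have hfix_i : Equiv.swap p q i = i := Equiv.swap_apply_of_ne_of_ne hpi.symm hqi.symm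
      have hgg : g = g' := eq_of_agree hall hx' hg hg' fun l => by
        rw [hg'x]
        rcases eq_or_ne l i with rfl | hl
        · rw [hfix_i, Function.update_self, hgy]
        · have hl' : Equiv.swap p q l ≠ i := fun e => hl ((Equiv.swap p q).injective (e.trans hfix_i.symm))
          rw [Function.update_of_ne hl, Function.update_of_ne hl', hgx]
      have hxi : x i = y' := hg'u (x i) (fun l => by
        rcases eq_or_ne l i with rfl | hl
        · rw [Function.update_self]; exact (hyx l).symm
        · rw [Function.update_of_ne hl]; exact fun e => hl (x.injective e))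
        (by rw [← hgg, hgx, hfix_i])
      obtain ⟨h, hh, hhx, hhy, -⟩ := hy' m i him.symm
      refine ⟨h, hh, fun w hw => ?_⟩
      have hm : Function.update (⇑x) i y m = x m := Function.update_of_ne him.symm _ _
      have hi : Function.update (⇑x) i y i = y := Function.update_self _ _ _
      rcases (memΔ w).1 hw with rfl | ⟨l, rfl⟩
      · rw [Equiv.swap_apply_right, ← hi, hhx, Equiv.swap_apply_right, hm]
      · rcases eq_or_ne l i with rfl | hli
        · rw [hxi, hhy, ← hxi, Equiv.swap_apply_of_ne_of_ne (fun e => him (x.injective e)) (hyx l)]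
        · have h1 : h (Function.update (⇑x) i y l) = _ := hhx l
          rw [Function.update_of_ne hli] at h1
          rcases eq_or_ne l m with rfl | hlm
          · rw [Equiv.swap_apply_left, h1, Equiv.swap_apply_left, hi]
          · rw [h1, Equiv.swap_apply_of_ne_of_ne hlm hli, Function.update_of_ne hli,
              Equiv.swap_apply_of_ne_of_ne (fun e => hlm (x.injective e)) (hyx l)]
    rcases (memΔ (u : α)).1 u.2 with hu | ⟨i, hu⟩ <;> rcases (memΔ (v : α)).1 v.2 with hv | ⟨j, hv⟩
    · exact absurd (Subtype.ext (hu.trans hv.symm)) huv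
    · obtain ⟨i, hi⟩ : ∃ i : Fin k, i ≠ j := @exists_ne _ (Fin.nontrivial_iff_two_le.2 (by omega)) j
      obtain ⟨g, hg, hgw⟩ := hout i j hi
      exact ⟨g, hg, fun w => by rw [hgw w w.2, hu, ← hv, Equiv.swap_comm]⟩
    · obtain ⟨l, hl⟩ : ∃ l : Fin k, l ≠ i := @exists_ne _ (Fin.nontrivial_iff_two_le.2 (by omega)) i
      obtain ⟨g, hg, hgw⟩ := hout l i hl
      exact ⟨g, hg, fun w => by rw [hgw w w.2, hv, ← hu]⟩
    · have hij : i ≠ j := fun e => huv (Subtype.ext (by rw [← hu, ← hv, e]))
      obtain ⟨g, hg, hgx, hgy, -⟩ := hy i j hij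
      refine ⟨g, hg, fun w => ?_⟩
      rw [← hu, ← hv]
      rcases (memΔ (w : α)).1 w.2 with hw | ⟨l, hw⟩
      · rw [hw, hgy, Equiv.swap_apply_of_ne_of_ne (hyx i).symm (hyx j).symm]
      · rw [← hw, hgx, x.injective.swap_apply]
  rw [eq_top_iff, ← Equiv.Perm.closure_isSwap, Subgroup.closure_le]
  rintro σ ⟨u, v, huv, rfl⟩
  exact key u v huv

end sharp

/-- In a `k`-transitive group, `4 ≤ k < n`, some `(k + 1)`-set carries all its even permutations. -/
theorem exists_alt_set : ∀ (n : ℕ) {α : Type u} [Fintype α] [DecidableEq α] (G : Subgroup (Perm α)) {k : ℕ},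
    Fintype.card α = n → 4 ≤ k → k < n → Tr G k →
      ∃ Δ : Finset α, Δ.card = k + 1 ∧ alternatingGroup ↥Δ ≤ restr G Δ := by
  intro n
  induction n using Nat.strong_induction_on with
  | _ n ih =>
    intro α _ _ G k hcard hk hkn hT
    classical
    by_cases hS : Semi G k
    · obtain ⟨Δ, -, hΔ⟩ := Finset.exists_subset_card_eq (s := (Finset.univ : Finset α)) (n := k + 1)
        (by rw [Finset.card_univ]; omega)
      rcases minimal hk G hT hS (by omega) with h | h | ⟨h45, hdeg, hall⟩
      · refine ⟨Δ, hΔ, fun σ hσ => ⟨Perm.ofSubtype σ, h ?_, fun x => Perm.ofSubtype_apply_coe σ x⟩⟩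
        rw [Equiv.Perm.mem_alternatingGroup, Equiv.Perm.sign_ofSubtype]
        exact Equiv.Perm.mem_alternatingGroup.1 hσ
      · refine ⟨Δ, hΔ, fun σ _ => ?_⟩
        let e : Fin (k + 1) ≃ ↥Δ := (Finset.equivFinOfCardEq hΔ).symm
        obtain ⟨g, hg, hgx⟩ := h (fun i => (e i : α)) (fun i => (σ (e i) : α))
          (Subtype.val_injective.comp e.injective)
          (Subtype.val_injective.comp (σ.injective.comp e.injective))
        exact ⟨g, hg, fun x => by simpa using hgx (e.symm x)⟩
      · obtain ⟨Δ, hΔ, h⟩ := sharp_set h45 hT hall hdeg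
        exact ⟨Δ, hΔ, h ▸ le_top⟩
    · obtain ⟨F, hkF, hFn, hF⟩ := descend G hT hS
      obtain ⟨Δ', hΔ', h⟩ := ih _ (hcard ▸ hFn) (restr G F) (Fintype.card_coe F) hk hkF hF
      refine ⟨Δ'.map (Function.Embedding.subtype _), by rw [Finset.card_map, hΔ'], fun σ hσ => ?_⟩
      let e : ↥(Δ'.map (Function.Embedding.subtype _)) ≃ ↥Δ' :=
        (Equiv.ofBijective (fun z : ↥Δ' => (⟨(z : ↥F), Finset.mem_map_of_mem _ z.2⟩ :
          ↥(Δ'.map (Function.Embedding.subtype _))))
          ⟨fun a b hab => Subtype.ext (Subtype.ext (Subtype.ext_iff.1 hab :)), fun w => by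
            obtain ⟨z, hz, hzw⟩ := Finset.mem_map.1 w.2
            exact ⟨⟨z, hz⟩, Subtype.ext hzw⟩⟩).symm
      obtain ⟨τ, ⟨g, hg, hgτ⟩, hτ⟩ := h (show e.permCongr σ ∈ alternatingGroup ↥Δ' by
        rw [Equiv.Perm.mem_alternatingGroup, Equiv.Perm.sign_permCongr]
        exact Equiv.Perm.mem_alternatingGroup.1 hσ)
      refine ⟨g, hg, fun x => ?_⟩
      obtain ⟨z, rfl⟩ := e.symm.surjective x
      have h1 : (σ (e.symm z) : α) = ((e (σ (e.symm z)) : ↥F) : α) := by
        conv_lhs => rw [← e.symm_apply_apply (σ (e.symm z))]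
        rfl
      rw [h1]
      show g ((z : ↥F) : α) = _
      rw [hgτ, hτ, Equiv.permCongr_apply]

end Cfsg.Lib.Perm.LW
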