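import Cfsg.Agent.Lib.Perm.LW.Core
import Cfsg.Agent.Lib.Perm.LW.Small
import Cfsg.Agent.S0736

/-!
# The theorem of Livingstone and Wagner
-/

set_option autoImplicit false
set_option linter.style.haveILetI false
set_option linter.unusedSectionVars false

namespace Cfsg.Lib.Perm.LW

open Equiv

variable {α : Type*} [Fintype α] [DecidableEq α] {G : Subgroup (Perm α)}

theorem Hom.pred {k : ℕ} (h : Hom G k) (hk : 2 ≤ k) (hkn : 2 * k ≤ Fintype.card α) : Hom G (k - 1) := by
  refine hom_iff.2 (Cfsg.Agent.S0736.result G hk (hom_iff.1 h) fun q _ hq => ?_)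
  have := Nat.le_of_dvd (by omega) hq
  omega

theorem Hom.tr_one (h : Hom G 1) : Tr G 1 := by
  intro x y _ _
  obtain ⟨g, hg, he⟩ := h {x 0} {y 0} (Finset.card_singleton _) (Finset.card_singleton _)
  rw [Finset.map_singleton, Finset.singleton_inj] at he
  exact ⟨g, hg, fun i => by rw [Fin.fin_one_eq_zero i]; exact he⟩

/-- A group homogeneous on `k` points is `(k - 1)`-transitive, if `2k` is at most the degree. -/
theorem pred_trans : ∀ k : ℕ, Hom G k → 2 * k ≤ Fintype.card α → Tr G (k - 1)
  | 0, _, _ => fun _ _ _ _ => ⟨1, G.one_mem, fun i => i.elim0⟩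
  | 1, _, _ => fun _ _ _ _ => ⟨1, G.one_mem, fun i => i.elim0⟩
  | 2, h, hn => (h.pred le_rfl hn).tr_one
  | j + 3, h, hn => by
    have h' : Hom G (j + 2) := h.pred (by omega) hn
    have hT : Tr G (j + 1) := pred_trans (j + 2) h' (by omega)
    show Tr G (j + 2)
    rcases Nat.lt_or_ge j 3 with hj | hj
    · exact tr_step_small (by omega) (by omega) (by omega) h' h hT
    · exact tr_step (by omega) (by omega) h' hT

/-- A group homogeneous on `k ≥ 5` points is `k`-transitive, if `2k` is at most the degree. -/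
theorem tr_of_hom {k : ℕ} (hk : 5 ≤ k) (h : Hom G k) (hn : 2 * k ≤ Fintype.card α) : Tr G k :=
  tr_step hk hn h (pred_trans k h hn)

end Cfsg.Lib.Perm.LW
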