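import Cfsg.Agent.Lib.Perm.LW.Four
import Mathlib.GroupTheory.SpecificGroups.Alternating
import Mathlib.Data.Fintype.CardEmbedding

/-!
# Multiply transitive groups in which only the identity fixes many points

By induction from the four times transitive case: a `k`-transitive group, `k ≥ 4`, in which only the identity
fixes more than `k` points contains the alternating group, or is `(k + 1)`-transitive, or is sharply
`k`-transitive with `(k, n)` one of `(4, 11)`, `(5, 12)`.
-/

set_option autoImplicit false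
set_option linter.style.haveILetI false
set_option linter.unusedSectionVars false

universe u

namespace Cfsg.Lib.Perm.LW

open Equiv

variable {α : Type u} [Fintype α] [DecidableEq α]

/-- Transitivity on all but one point is full transitivity. -/
theorem tr_succ_of_card_eq {G : Subgroup (Perm α)} {k : ℕ} (h : Tr G k) (hn : Fintype.card α = k + 1) :
    Tr G (k + 1) := by
  intro x y hx hy
  obtain ⟨g, hg, hgx⟩ := h (x ∘ Fin.castSucc) (y ∘ Fin.castSucc) (hx.comp (Fin.castSucc_injective _))
    (hy.comp (Fin.castSucc_injective _))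
  refine ⟨g, hg, Fin.lastCases ?_ (fun i => hgx i)⟩
  have hsur : Function.Surjective y :=
    ((Fintype.bijective_iff_injective_and_card y).2 ⟨hy, by rw [Fintype.card_fin, hn]⟩).2
  obtain ⟨j, hj⟩ := hsur (g (x (Fin.last k)))
  obtain rfl | ⟨i, rfl⟩ := j.eq_castSucc_or_eq_last.symm
  · exact hj.symm
  · exact absurd (hx (g.injective (((hgx i).trans hj) : g (x i.castSucc) = g (x (Fin.last k)))))
      (Fin.castSucc_lt_last i).ne

/-- The order of a sharply multiply transitive group. -/
theorem card_of_sharp {G : Subgroup (Perm α)} {k : ℕ} (h : Tr G k) (hk : k ≤ Fintype.card α)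
    (hall : ∀ A : Finset α, A.card = k → pstab G A = ⊥) :
    Nat.card G = (Fintype.card α).descFactorial k := by
  classical
  obtain ⟨x⟩ : Nonempty (Fin k ↪ α) := Function.Embedding.nonempty_of_card_le (by rwa [Fintype.card_fin])
  have hbij : Function.Bijective (fun g : G => x.trans (g : Perm α).toEmbedding) := by
    refine ⟨fun g g' e => ?_, fun y => ?_⟩
    · have hmem : (g' : Perm α)⁻¹ * g ∈ pstab G (Finset.univ.image x) :=
        ⟨G.mul_mem (G.inv_mem g'.2) g.2, fun z hz => by
          obtain ⟨i, -, rfl⟩ := Finset.mem_image.1 hz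
          have e' : (g : Perm α) (x i) = (g' : Perm α) (x i) := congrFun (congrArg (⇑) e) i
          rw [Perm.mul_apply, e', Perm.inv_eq_iff_eq]⟩
      rw [hall _ (by rw [Finset.card_image_of_injective _ x.injective, Finset.card_univ, Fintype.card_fin]),
        Subgroup.mem_bot] at hmem
      exact Subtype.ext (inv_mul_eq_one.1 hmem).symm
    · obtain ⟨g, hg, hgx⟩ := h x y x.injective y.injective
      exact ⟨⟨g, hg⟩, Function.Embedding.ext hgx⟩
  rw [Nat.card_eq_of_bijective _ hbij, Nat.card_eq_fintype_card, Fintype.card_embedding_eq, Fintype.card_fin]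

/-- An element inducing a permutation of the other points fixes the remaining one. -/
theorem fix_of_restr_erase {g : Perm α} {a : α} {σ : Perm ↥(Finset.univ.erase a)}
    (h : ∀ x : ↥(Finset.univ.erase a), g (x : α) = σ x) : g a = a := by
  by_contra hne
  obtain ⟨x, hx⟩ := σ.surjective ⟨g a, Finset.mem_erase.2 ⟨hne, Finset.mem_univ _⟩⟩
  have h1 := h x
  rw [hx] at h1
  exact (Finset.mem_erase.1 x.2).1 (g.injective h1)

section step

variable {G : Subgroup (Perm α)} {k : ℕ} {a : α}

theorem tr_restr_erase (h : Tr G (k + 1)) : Tr (restr G (Finset.univ.erase a)) k := by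
  intro x y hx hy
  obtain ⟨g, hg, hgx⟩ := h (Fin.cons a fun i => (x i : α)) (Fin.cons a fun i => (y i : α))
    (Fin.cons_injective_iff.2 ⟨fun ⟨i, hi⟩ => (Finset.mem_erase.1 (x i).2).1 hi, Subtype.val_injective.comp hx⟩)
    (Fin.cons_injective_iff.2 ⟨fun ⟨i, hi⟩ => (Finset.mem_erase.1 (y i).2).1 hi, Subtype.val_injective.comp hy⟩)
  have hga : g a = a := by simpa using hgx 0
  obtain ⟨σ, hσ, hσg⟩ := exists_mem_restr hg (F := Finset.univ.erase a) fun z hz =>
    Finset.mem_erase.2 ⟨fun e => (Finset.mem_erase.1 hz).1 (g.injective (e.trans hga.symm)), Finset.mem_univ _⟩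
  exact ⟨σ, hσ, fun i => Subtype.ext ((hσg (x i)).symm.trans (by simpa using hgx i.succ))⟩

theorem semi_restr_erase (h : Semi G (k + 1)) : Semi (restr G (Finset.univ.erase a)) k := by
  rintro σ ⟨g, hg, hgσ⟩ hσ
  have hga := fix_of_restr_erase hgσ
  have hg1 : g ≠ 1 := fun e => hσ (Equiv.ext fun x => Subtype.ext (by rw [← hgσ x, e]; rfl))
  have h1 : (fixF σ).map (Function.Embedding.subtype _) ⊆ (fixF g).erase a := by
    intro z hz
    obtain ⟨w, hw, rfl⟩ := Finset.mem_map.1 hz
    exact Finset.mem_erase.2 ⟨(Finset.mem_erase.1 w.2).1,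
      mem_fixF.2 ((hgσ w).trans (congrArg Subtype.val (mem_fixF.1 hw)))⟩
  have h2 := Finset.card_le_card h1
  rw [Finset.card_map, Finset.card_erase_of_mem (mem_fixF.2 hga)] at h2
  have := h g hg hg1
  omega

theorem alt_le_of_restr_erase (hn : 4 ≤ Fintype.card α) (h1 : ∀ e : α, ∃ g ∈ G, g e = a)
    (h : alternatingGroup ↥(Finset.univ.erase a) ≤ restr G (Finset.univ.erase a)) : alternatingGroup α ≤ G := by
  rw [← Equiv.Perm.closure_three_cycles_eq_alternating, Subgroup.closure_le]
  intro σ hσ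
  replace hσ : σ.IsThreeCycle := hσ
  obtain ⟨e, he⟩ : ∃ e, e ∉ σ.support := by
    by_contra hall
    push Not at hall
    have h2 := congrArg Finset.card (Finset.eq_univ_of_forall hall)
    rw [hσ.card_support, Finset.card_univ] at h2
    omega
  rw [Perm.mem_support, not_not] at he
  obtain ⟨g, hg, hge⟩ := h1 e
  set τ := g * σ * g⁻¹ with hτ
  have hτa : τ a = a := by
    simp [hτ, ← hge, he]
  have hτF : ∀ x, τ x ∈ Finset.univ.erase a ↔ x ∈ Finset.univ.erase a := fun x => by
    simp only [Finset.mem_erase, Finset.mem_univ, and_true]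
    exact not_congr ⟨fun e => τ.injective (e.trans hτa.symm), fun e => e ▸ hτa⟩
  have hsign : Perm.sign (τ.subtypePerm hτF) = 1 := by
    have h2 := Equiv.Perm.sign_subtypePerm τ hτF fun x hx => Finset.mem_erase.2 ⟨fun e => hx (e ▸ hτa), Finset.mem_univ _⟩
    have h3 : Perm.sign τ = 1 := by rw [hτ, map_mul, map_mul, map_inv, mul_inv_cancel_comm]; exact hσ.sign
    convert h2.trans h3
  obtain ⟨r, hr, hrτ⟩ := h (Equiv.Perm.mem_alternatingGroup.2 hsign)
  have hrx : r = τ := Equiv.ext fun x => by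
    rcases eq_or_ne x a with rfl | hx
    · rw [fix_of_restr_erase hrτ, hτa]
    · exact (hrτ ⟨x, Finset.mem_erase.2 ⟨hx, Finset.mem_univ _⟩⟩).trans rfl
  rw [hrx, hτ] at hr
  have h2 := G.mul_mem (G.mul_mem (G.inv_mem hg) hr) hg
  simpa [mul_assoc] using h2

theorem tr_of_restr_erase (h1 : ∀ e : α, ∃ g ∈ G, g e = a) (h : Tr (restr G (Finset.univ.erase a)) k) :
    Tr G (k + 1) := by
  intro x y hx hy
  obtain ⟨g, hg, hgx⟩ := h1 (x 0)
  obtain ⟨g', hg', hgy⟩ := h1 (y 0)
  have hmem : ∀ (f : Perm α) (z : Fin (k + 1) → α), Function.Injective z → f (z 0) = a →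
      ∀ i : Fin k, f (z i.succ) ∈ Finset.univ.erase a := fun f z hz hf i =>
    Finset.mem_erase.2 ⟨fun e => Fin.succ_ne_zero i (hz (f.injective (e.trans hf.symm))), Finset.mem_univ _⟩
  obtain ⟨σ, ⟨r, hr, hrσ⟩, hσ⟩ := h (fun i => ⟨g (x i.succ), hmem g x hx hgx i⟩)
    (fun i => ⟨g' (y i.succ), hmem g' y hy hgy i⟩)
    (fun i j e => Fin.succ_injective _ (hx (g.injective (congrArg Subtype.val e))))
    (fun i j e => Fin.succ_injective _ (hy (g'.injective (congrArg Subtype.val e))))
  refine ⟨g'⁻¹ * r * g, G.mul_mem (G.mul_mem (G.inv_mem hg') hr) hg, Fin.cases ?_ fun i => ?_⟩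
  · rw [Perm.mul_apply, Perm.mul_apply, hgx, fix_of_restr_erase hrσ, Perm.inv_eq_iff_eq, hgy]
  · rw [Perm.mul_apply, Perm.mul_apply, hrσ ⟨g (x i.succ), hmem g x hx hgx i⟩, hσ i, Perm.inv_eq_iff_eq]

theorem pstab_bot_of_restr_erase (h1 : ∀ e : α, ∃ g ∈ G, g e = a)
    (h : ∀ A : Finset ↥(Finset.univ.erase a), A.card = k → pstab (restr G (Finset.univ.erase a)) A = ⊥)
    (A : Finset α) (hA : A.card = k + 1) : pstab G A = ⊥ := by
  rw [Subgroup.eq_bot_iff_forall]
  intro x hx
  obtain ⟨e, he⟩ := Finset.card_pos.1 (by omega : 0 < A.card)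
  obtain ⟨g, hg, hge⟩ := h1 e
  set F := Finset.univ.erase a with hF
  set x' := g * x * g⁻¹ with hx'
  have hfix : ∀ z ∈ A.map g.toEmbedding, x' z = z := fun z hz => by
    obtain ⟨w, hw, rfl⟩ := Finset.mem_map.1 hz
    simp [hx', hx.2 w hw]
  have hx'G : x' ∈ G := G.mul_mem (G.mul_mem hg hx.1) (G.inv_mem hg)
  have hx'a : x' a = a := hfix a (Finset.mem_map.2 ⟨e, he, hge⟩)
  obtain ⟨σ, hσ, hσx⟩ := exists_mem_restr hx'G (F := F) fun z hz =>
    Finset.mem_erase.2 ⟨fun e => (Finset.mem_erase.1 hz).1 (x'.injective (e.trans hx'a.symm)), Finset.mem_univ _⟩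
  let A' : Finset ↥F := (A.map g.toEmbedding).subtype (fun z => z ∈ F)
  have hA' : A'.card = k := by
    simp only [A', Finset.card_subtype, hF, Finset.mem_erase, Finset.mem_univ, and_true]
    rw [Finset.filter_ne', Finset.card_erase_of_mem (Finset.mem_map.2 ⟨e, he, hge⟩), Finset.card_map, hA]
    omega
  have hσ1 : σ = 1 := by
    rw [← Subgroup.mem_bot, ← h A' hA']
    exact ⟨hσ, fun z hz => Subtype.ext ((hσx z).symm.trans (hfix _ (Finset.mem_subtype.1 hz)))⟩
  have hx'1 : x' = 1 := Equiv.ext fun z => by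
    rcases eq_or_ne z a with rfl | hz
    · exact hx'a
    · simpa [hσ1] using hσx ⟨z, Finset.mem_erase.2 ⟨hz, Finset.mem_univ _⟩⟩
  exact conj_eq_one_iff.1 hx'1

end step

/-- No sharply six times transitive group has degree thirteen. -/
theorem no_six_thirteen {G : Subgroup (Perm α)} (h : Tr G 6) (hn : Fintype.card α = 13)
    (hall : ∀ A : Finset α, A.card = 6 → pstab G A = ⊥) : False := by
  have hG : Nat.card G = 13 * 95040 := by rw [card_of_sharp h (by omega) hall, hn]; rfl
  haveI : Fact (Nat.Prime 13) := ⟨by norm_num⟩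
  obtain ⟨x, hx⟩ := exists_prime_orderOf_dvd_card' (G := G) 13 (hG ▸ dvd_mul_right _ _)
  have hN := card_normalizer_dvd (G := G) (c := x) (by norm_num : (13 : ℕ).Prime) hx (by omega) (by omega)
  obtain ⟨P, hP⟩ := (IsPGroup.of_card (p := 13) (n := 1) (G := Subgroup.zpowers x)
    (by rw [Nat.card_zpowers, hx, pow_one])).exists_le_sylow
  have hPc : Nat.card P = 13 := by
    rw [P.card_eq_multiplicity, hG, Nat.factorization_mul (by norm_num) (by norm_num), Finsupp.add_apply,
      Nat.Prime.factorization_self (by norm_num), Nat.factorization_eq_zero_of_not_dvd (by norm_num)]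
    norm_num
  have hPx : Subgroup.zpowers x = (P : Subgroup G) :=
    Subgroup.eq_of_le_of_card_ge hP (by rw [Nat.card_zpowers, hx]; exact hPc.le)
  have h13 : 13 ∣ Nat.card (Subgroup.normalizer ((Subgroup.zpowers x : Subgroup G) : Set G)) := by
    have h1 := Subgroup.card_dvd_of_le (Subgroup.le_normalizer (H := Subgroup.zpowers x))
    rwa [Nat.card_zpowers, hx] at h1
  obtain ⟨f, hf⟩ := h13
  rw [hf] at hN
  have hf12 : f ∣ 12 := Nat.dvd_of_mul_dvd_mul_left (by norm_num) hN
  have hmod := card_sylow_modEq_one 13 G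
  have hidx := (Subgroup.normalizer ((Subgroup.zpowers x : Subgroup G) : Set G)).card_mul_index
  rw [hPx] at hf hidx
  erw [← P.card_eq_index_normalizer] at hidx
  rw [hf, hG, mul_assoc] at hidx
  have hidx' : f * Nat.card (Sylow 13 G) = 95040 := Nat.eq_of_mul_eq_mul_left (by norm_num) hidx
  have hfle := Nat.le_of_dvd (by norm_num) hf12
  unfold Nat.ModEq at hmod
  interval_cases f <;> first
    | omega
    | (norm_num at hf12)

/-- A `k`-transitive group, `4 ≤ k`, in which only the identity fixes more than `k` points. -/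
theorem minimal {k : ℕ} (hk : 4 ≤ k) : ∀ {α : Type u} [Fintype α] [DecidableEq α] (G : Subgroup (Perm α)),
    Tr G k → Semi G k → k < Fintype.card α →
      alternatingGroup α ≤ G ∨ Tr G (k + 1) ∨
        ((k = 4 ∨ k = 5) ∧ Fintype.card α = k + 7 ∧ ∀ A : Finset α, A.card = k → pstab G A = ⊥) := by
  induction k, hk using Nat.le_induction with
  | base =>
    intro α _ _ G hT hS hn
    rcases Nat.lt_or_ge (Fintype.card α) 6 with hlt | hge
    · exact Or.inr (Or.inl (tr_succ_of_card_eq hT (by omega)))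
    · rcases four_minimal hT hS hge with h | h | ⟨h, h'⟩
      · exact Or.inl h
      · exact Or.inr (Or.inl h)
      · exact Or.inr (Or.inr ⟨Or.inl rfl, h, h'⟩)
  | succ k hk ih =>
    intro α _ _ G hT hS hn
    obtain ⟨a⟩ : Nonempty α := Fintype.card_pos_iff.1 (by omega)
    have h1 : ∀ e : α, ∃ g ∈ G, g e = a := fun e => by
      obtain ⟨g, hg, hge⟩ := (hT.mono (j := 1) (by omega) hn.le) ![e] ![a] (Function.injective_of_subsingleton _)
        (Function.injective_of_subsingleton _)
      exact ⟨g, hg, hge 0⟩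
    have hcard : Fintype.card ↥(Finset.univ.erase a) = Fintype.card α - 1 := by
      rw [Fintype.card_coe, Finset.card_erase_of_mem (Finset.mem_univ _), Finset.card_univ]
    rcases ih (restr G (Finset.univ.erase a)) (tr_restr_erase hT) (semi_restr_erase hS) (by omega) with
      h | h | ⟨hk45, hdeg, hall⟩
    · exact Or.inl (alt_le_of_restr_erase (by omega) h1 h)
    · exact Or.inr (Or.inl (tr_of_restr_erase h1 h))
    · have hall' := pstab_bot_of_restr_erase h1 hall
      rcases hk45 with rfl | rfl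
      · exact Or.inr (Or.inr ⟨Or.inr rfl, by omega, hall'⟩)
      · exact (no_six_thirteen hT (by omega) hall').elim

end Cfsg.Lib.Perm.LW
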