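import Cfsg.Agent.Lib.Perm.LW.Basic
import Cfsg.Agent.S0042
import Cfsg.Agent.S0035
import Cfsg.Agent.Lib.Solv.Nilpotent
import Mathlib.GroupTheory.SpecificGroups.Alternating

/-!
# Tools for the minimal four times transitive groups

The Frobenius kernel of a three-point stabilizer, involutory automorphisms, and counting lemmas.
-/

set_option autoImplicit false
set_option linter.style.haveILetI false
set_option linter.unusedSectionVars false

namespace Cfsg.Lib.Perm.LW

open Equiv

variable {α : Type*} [Fintype α] [DecidableEq α]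

/-- The point stabilizer in a three-point stabilizer has a regular nilpotent normal complement. -/
theorem exists_kernel {G : Subgroup (Perm α)} (h4 : Tr G 4) (hS : Semi G 4) {a b c d : α}
    (hnd : [a, b, c, d].Nodup) (hR : pstab G {a, b, c, d} ≠ ⊥) :
    ∃ N : Subgroup (Perm α), N ≤ pstab G {a, b, c} ∧
      (∀ u ∈ N, u ≠ 1 → ∀ x, x ∉ ({a, b, c} : Finset α) → u x ≠ x) ∧
      (∀ x, x ∉ ({a, b, c} : Finset α) → ∃ u ∈ N, u d = x) ∧ Group.IsNilpotent N ∧
      ∀ h ∈ G, (∀ x ∈ ({a, b, c} : Finset α), h x ∈ ({a, b, c} : Finset α)) → ∀ u ∈ N, h * u * h⁻¹ ∈ N := by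
  classical
  set T : Finset α := {a, b, c} with hT
  set W := pstab G T with hW
  obtain ⟨⟨hab, hac, had⟩, ⟨hbc, hbd⟩, hcd⟩ : (a ≠ b ∧ a ≠ c ∧ a ≠ d) ∧ (b ≠ c ∧ b ≠ d) ∧ c ≠ d := by
    simpa [List.nodup_cons, List.mem_cons] using hnd
  have hdT : d ∉ T := by simp [hT, had.symm, hbd.symm, hcd.symm]
  have hmap : ∀ x, x ∉ T → ∃ w ∈ W, w d = x := by
    intro x hx
    simp only [hT, Finset.mem_insert, Finset.mem_singleton, not_or] at hx
    obtain ⟨g, hg, h1, h2, h3, h4'⟩ := h4.map4 hnd (a' := a) (b' := b) (c' := c) (d' := x)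
      (by simp [List.nodup_cons, hab, hac, hbc, Ne.symm hx.1, Ne.symm hx.2.1, Ne.symm hx.2.2])
    exact ⟨g, ⟨hg, fun y hy => by
      simp only [hT, Finset.mem_insert, Finset.mem_singleton] at hy
      rcases hy with rfl | rfl | rfl <;> assumption⟩, h4'⟩
  set H : Subgroup W := (pstab G (insert d T)).subgroupOf W with hH
  have hmemH : ∀ w : W, w ∈ H ↔ (w : Perm α) d = d := by
    intro w
    refine ⟨fun h => h.2 d (Finset.mem_insert_self _ _), fun h => ⟨w.2.1, fun y hy => ?_⟩⟩
    rcases Finset.mem_insert.1 hy with rfl | hy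
    · exact h
    · exact w.2.2 y hy
  have hins : insert d T = ({a, b, c, d} : Finset α) := by
    ext y; simp [hT]; tauto
  have hfrob : IsFrobeniusComplement H := by
    refine ⟨fun hb => hR ?_, fun ht => ?_, fun g hg => ?_⟩
    · rw [Subgroup.eq_bot_iff_forall]
      intro r hr
      have hrW : r ∈ W := ⟨hr.1, fun y hy => hr.2 y (hins ▸ Finset.mem_insert_of_mem hy)⟩
      have : (⟨r, hrW⟩ : W) ∈ H := (hmemH _).2 (hr.2 d (hins ▸ Finset.mem_insert_self _ _))
      rw [hb, Subgroup.mem_bot] at this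
      exact congrArg Subtype.val this
    · have hfull : ∀ x, x ∈ insert d T := by
        intro x
        by_cases hx : x ∈ T
        · exact Finset.mem_insert_of_mem hx
        obtain ⟨w, hw, hwx⟩ := hmap x hx
        have h1 := (hmemH ⟨w, hw⟩).1 (ht ▸ Subgroup.mem_top _)
        exact hwx ▸ h1.symm ▸ Finset.mem_insert_self _ _
      apply hR
      rw [Subgroup.eq_bot_iff_forall]
      exact fun r hr => Equiv.ext fun x => hr.2 x (hins ▸ hfull x)
    · rw [eq_bot_iff]
      rintro x ⟨hx, hxg⟩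
      rw [Subgroup.mem_bot]
      by_contra hx1
      obtain ⟨y, hy, hyx⟩ := hxg
      have hfixd := (hmemH x).1 hx
      have hfixgd : (x : Perm α) ((g : Perm α) d) = (g : Perm α) d := by
        rw [← hyx]
        show ((g : Perm α) * y * (g : Perm α)⁻¹) ((g : Perm α) d) = _
        rw [Perm.mul_apply, Perm.mul_apply, Perm.inv_eq_iff_eq.2 rfl, (hmemH y).1 hy]
      have hgd : (g : Perm α) d ∉ insert d T := by
        simp only [Finset.mem_insert, not_or]
        refine ⟨fun h => hg ((hmemH g).2 h), fun hm => hdT ?_⟩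
        have := g.2.2 _ hm
        exact (g : Perm α).injective this ▸ hm
      have hsub : insert ((g : Perm α) d) (insert d T) ⊆ fixF (x : Perm α) := by
        intro z hz
        rw [mem_fixF]
        rcases Finset.mem_insert.1 hz with rfl | hz
        · exact hfixgd
        rcases Finset.mem_insert.1 hz with rfl | hz
        · exact hfixd
        · exact x.2.2 z hz
      have h5 := (Finset.card_le_card hsub).trans (hS _ x.2.1 fun h => hx1 (Subtype.ext h))
      rw [Finset.card_insert_of_notMem hgd, Finset.card_insert_of_notMem hdT, hT,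
        Finset.card_insert_of_notMem (by simp [hab, hac]), Finset.card_pair hbc] at h5
      omega
  obtain ⟨N₀, hN₀, hN₀n, hN₀nil⟩ := Cfsg.Agent.S0042.result H hfrob
  obtain ⟨N₁, hN₁, hN₁n, hN₁c⟩ := Cfsg.Agent.S0035.result H hfrob
  obtain rfl : N₁ = N₀ := SetLike.coe_injective (hN₁.trans hN₀.symm)
  have hker : ∀ w : W, w ∈ N₁ ↔ (w = 1 ∨ ∀ x, x ∉ T → (w : Perm α) x ≠ x) := by
    intro w
    rw [← SetLike.mem_coe, hN₁, Cfsg.frobeniusKernel, Set.mem_ofPred_eq]
    refine or_congr Iff.rfl ⟨fun h x hx hfix => ?_, fun h g hw => ?_⟩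
    · obtain ⟨v, hv, hvx⟩ := hmap x hx
      refine h ⟨v, hv⟩ (Subgroup.mem_pointwise_smul_iff_inv_smul_mem.2 ((hmemH _).2 ?_))
      show (v⁻¹ * (w : Perm α) * v⁻¹⁻¹) d = d
      rw [inv_inv, Perm.mul_apply, Perm.mul_apply, hvx, hfix, Perm.inv_eq_iff_eq, hvx]
    · obtain ⟨y, hy, hyw⟩ := hw
      have hgd : (g : Perm α) d ∉ T := fun hm => hdT ((g : Perm α).injective (g.2.2 _ hm) ▸ hm)
      refine h _ hgd ?_
      rw [← hyw]
      show ((g : Perm α) * y * (g : Perm α)⁻¹) ((g : Perm α) d) = _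
      rw [Perm.mul_apply, Perm.mul_apply, Perm.inv_eq_iff_eq.2 rfl, (hmemH y).1 hy]
  refine ⟨N₁.map W.subtype, Subgroup.map_subtype_le _, ?_, ?_, ?_, ?_⟩
  · rintro _ ⟨u, hu, rfl⟩ hu1
    exact ((hker u).1 hu).resolve_left fun h => hu1 (by rw [h]; rfl)
  · intro x hx
    obtain ⟨w, hw, hwx⟩ := hmap x hx
    obtain ⟨⟨u, h⟩, huh⟩ := hN₁c.surjective (⟨w, hw⟩ : W)
    refine ⟨u.1, ⟨u, u.2, rfl⟩, ?_⟩
    have huh' : ((u.1 : W) : Perm α) * ((h.1 : W) : Perm α) = w := congrArg Subtype.val huh
    rw [← hwx, ← huh', Perm.mul_apply, (hmemH h.1).1 h.2]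
  · haveI := hN₀nil
    exact Group.nilpotent_of_mulEquiv (N₁.equivMapOfInjective W.subtype W.subtype_injective)
  · rintro h hh hhT _ ⟨u, hu, rfl⟩
    have hTeq : T.image h = T := Finset.eq_of_subset_of_card_le
      (fun y hy => by
        obtain ⟨x, hx, rfl⟩ := Finset.mem_image.1 hy
        exact hhT x hx) (Finset.card_image_of_injective _ h.injective).ge
    have hmem' : ∀ y, y ∈ T → h⁻¹ y ∈ T := by
      intro y hy
      rw [← hTeq] at hy
      obtain ⟨x, hx, rfl⟩ := Finset.mem_image.1 hy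
      rwa [Perm.inv_eq_iff_eq.2 rfl]
    have hconj : h * (u : Perm α) * h⁻¹ ∈ W := mem_pstab_conj hh hmem' u.2
    refine ⟨⟨_, hconj⟩, (hker _).2 ?_, rfl⟩
    rcases (hker u).1 hu with rfl | hfree
    · exact Or.inl (Subtype.ext (by simp))
    · refine Or.inr fun x hx hfix => hfree (h⁻¹ x) (fun hm => hx ?_) ?_
      · have h1 := hhT _ hm
        rwa [← Perm.mul_apply, mul_inv_cancel, Perm.one_apply] at h1
      · apply h.injective
        have h1 : h (h⁻¹ x) = x := by rw [← Perm.mul_apply, mul_inv_cancel, Perm.one_apply]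
        rw [h1]
        exact hfix

/-- An involution acting without fixed points on a subgroup inverts it. -/
theorem inverts_of_fpf {N : Subgroup (Perm α)} {s : Perm α} (hs : s * s = 1)
    (hN : ∀ u ∈ N, s * u * s⁻¹ ∈ N) (hfpf : ∀ u ∈ N, s * u * s⁻¹ = u → u = 1) :
    ∀ u ∈ N, s * u * s⁻¹ = u⁻¹ := by
  intro u hu
  let f : N → N := fun v => ⟨(v : Perm α)⁻¹ * (s * v * s⁻¹), N.mul_mem (N.inv_mem v.2) (hN v v.2)⟩
  have hf : Function.Injective f := by
    intro v w hvw
    have h1 : (v : Perm α)⁻¹ * (s * v * s⁻¹) = (w : Perm α)⁻¹ * (s * w * s⁻¹) := congrArg Subtype.val hvw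
    have h2 := hfpf _ (N.mul_mem w.2 (N.inv_mem v.2)) (by
      calc s * ((w : Perm α) * (v : Perm α)⁻¹) * s⁻¹
          = w * ((w : Perm α)⁻¹ * (s * w * s⁻¹)) * ((v : Perm α) * ((v : Perm α)⁻¹ * (s * v * s⁻¹)))⁻¹ := by group
        _ = w * (v : Perm α)⁻¹ := by rw [← h1]; group)
    exact Subtype.ext (mul_inv_eq_one.1 h2).symm
  obtain ⟨v, hv⟩ := (Finite.surjective_of_injective hf) ⟨u, hu⟩
  have hv' : (v : Perm α)⁻¹ * (s * v * s⁻¹) = u := congrArg Subtype.val hv
  rw [← hv', mul_inv_rev, inv_inv]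
  have hss : s * s * (v : Perm α) * (s * s)⁻¹ = v := by rw [hs]; simp
  calc s * ((v : Perm α)⁻¹ * (s * v * s⁻¹)) * s⁻¹
      = (s * v * s⁻¹)⁻¹ * (s * s * (v : Perm α) * (s * s)⁻¹) := by group
    _ = (s * v * s⁻¹)⁻¹ * v := by rw [hss]

/-- A subgroup acting freely on an invariant set has order dividing its size. -/
theorem card_dvd_of_free {R : Subgroup (Perm α)} {S : Finset α} (hinv : ∀ r ∈ R, ∀ x ∈ S, r x ∈ S)
    (hfree : ∀ r ∈ R, ∀ x ∈ S, r x = x → r = 1) : Nat.card R ∣ S.card := by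
  classical
  letI : MulAction R {x // x ∈ S} :=
    { smul := fun r x => ⟨(r : Perm α) x, hinv r r.2 x x.2⟩
      one_smul := fun x => Subtype.ext rfl
      mul_smul := fun r r' x => Subtype.ext rfl }
  letI := Fintype.ofFinite R
  letI : Fintype (MulAction.orbitRel.Quotient R {x // x ∈ S}) := Fintype.ofFinite _
  rw [← Fintype.card_coe, ← Nat.card_eq_fintype_card,
    Nat.card_congr (MulAction.selfEquivSigmaOrbitsQuotientStabilizer R {x // x ∈ S}), Nat.card_sigma]
  refine Finset.dvd_sum fun q _ => ?_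
  have hb : MulAction.stabilizer R (Quotient.out q) = ⊥ := by
    rw [Subgroup.eq_bot_iff_forall]
    exact fun r hr => Subtype.ext (hfree r r.2 _ (Quotient.out q).2 (congrArg Subtype.val hr))
  show Nat.card R ∣ Nat.card (R ⧸ MulAction.stabilizer R (Quotient.out q))
  rw [hb, ← Subgroup.index, Subgroup.index_bot]

/-- The order of a normalizer of a cycle of prime length `p` in degree at most `p + 1` divides `p(p - 1)`. -/
theorem card_normalizer_dvd {G : Subgroup (Perm α)} {p : ℕ} (hp : p.Prime) {c : G}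
    (hc : orderOf c = p) (hn : Fintype.card α < 2 * p) (hn1 : Fintype.card α ≤ p + 1) :
    Nat.card (Subgroup.normalizer ((Subgroup.zpowers c : Subgroup G) : Set G)) ∣ p * (p - 1) := by
  classical
  set Z : Subgroup G := Subgroup.zpowers c with hZ
  let φ := Subgroup.normalizerMonoidHom Z
  have h1 : Nat.card φ.range ∣ p - 1 := by
    refine (Subgroup.card_subgroup_dvd_card _).trans (dvd_of_eq ?_)
    rw [IsCyclic.card_mulAut, hZ, Nat.card_zpowers, hc, Nat.totient_prime hp]
  have h2 : Nat.card φ.ker ∣ p := by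
    have hco : orderOf (c : Perm α) = p := by rw [Subgroup.orderOf_coe, hc]
    obtain ⟨j, hj⟩ := Equiv.Perm.cycleType_prime_order (σ := (c : Perm α)) (by rw [hco]; exact hp)
    rw [hco] at hj
    have hle := Equiv.Perm.sum_cycleType_le (c : Perm α)
    rw [hj, Multiset.sum_replicate, smul_eq_mul] at hle
    have hj0 : j = 0 := by nlinarith
    subst hj0
    have hC : Nat.card (Subgroup.centralizer ({(c : Perm α)} : Set (Perm α))) = p := by
      rw [Equiv.Perm.nat_card_centralizer, hj]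
      simp
      have : Fintype.card α - p ≤ 1 := by omega
      interval_cases h : Fintype.card α - p <;> simp
    let f : φ.ker →* Subgroup.centralizer ({(c : Perm α)} : Set (Perm α)) :=
      { toFun := fun x => ⟨((x.1 : G) : Perm α), Subgroup.mem_centralizer_singleton_iff.2 (by
            have hx : (x.1 : G) ∈ Subgroup.centralizer (Z : Set G) :=
              Subgroup.mem_subgroupOf.1 ((Subgroup.normalizerMonoidHom_ker Z).le x.2)
            exact congrArg Subtype.val (Subgroup.mem_centralizer_iff.1 hx c (Subgroup.mem_zpowers c)).symm)⟩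
        map_one' := rfl
        map_mul' := fun _ _ => rfl }
    have hf : Function.Injective f := fun x y h => by
      have := congrArg Subtype.val h
      exact Subtype.ext (Subtype.ext (Subtype.ext this))
    exact hC ▸ Subgroup.card_dvd_of_injective f hf
  have h3 := φ.ker.card_mul_index
  rw [Subgroup.index_ker] at h3
  rw [← h3]
  exact mul_dvd_mul h2 h1

end Cfsg.Lib.Perm.LW
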